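import Cfsg.Agent.SpecFive.Basic
import Mathlib.GroupTheory.SpecificGroups.Cyclic

/-!
The Frattini argument in numbers.
-/

set_option autoImplicit false

namespace Cfsg.Agent.SpecFive

open Subgroup

variable {G : Type*} [Group G] [Finite G]

/-- The index of a normal subgroup is the index of its part of a Sylow normaliser. -/
theorem index_eq_relIndex_normalizer {p : ℕ} [Fact p.Prime] {M : Subgroup G} [M.Normal] (R : Sylow p M) :
    M.index = M.relIndex (normalizer (((R : Subgroup M).map M.subtype : Subgroup G) : Set G)) := by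
  have h := Sylow.normalizer_sup_eq_top R
  rw [← relIndex_sup_right (K := M), h, relIndex_top_right]

/-- A subgroup with trivial centraliser part: its normaliser modulo a subgroup. -/
theorem card_normalizer_dvd (h : Ord G) {p : ℕ} (hp : p = 3 ∨ p = 5) {R : Subgroup G}
    (hR : Nat.card R = p) :
    ∃ k, Nat.card (normalizer (R : Set G)) ∣ p ^ k * (p - 1) := by
  have : Fact p.Prime := ⟨by rcases hp with rfl | rfl <;> norm_num⟩
  have : IsCyclic R := isCyclic_of_prime_card hR
  obtain ⟨y, hy, hy1⟩ := (bot_or_exists_ne_one R).resolve_left fun e => by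
    rw [e, Subgroup.card_bot] at hR
    exact (Fact.out : p.Prime).ne_one hR.symm
  have hyp : y ^ p = 1 := by
    have h1 : (⟨y, hy⟩ : R) ^ Nat.card R = 1 := pow_card_eq_one'
    rw [hR] at h1
    exact congrArg Subtype.val h1
  set N := normalizer (R : Set G)
  set f := R.normalizerMonoidHom
  have hker : IsPGroup p f.ker := fun x => ⟨1, Subtype.ext (Subtype.ext (by
    rw [pow_one]
    have hx : ((x : normalizer (R : Set G)) : G) ∈ centralizer (R : Set G) :=
      mem_subgroupOf.1 ((Subgroup.normalizerMonoidHom_ker R).le x.2)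
    simpa using h.commute_prime hp (orderOf_of_pow hp hyp hy1) ((mem_centralizer_iff.1 hx) y hy)))⟩
  obtain ⟨k, hk⟩ := IsPGroup.iff_card.1 hker
  refine ⟨k, ?_⟩
  rw [← f.ker.card_mul_index, hk, index_ker]
  refine mul_dvd_mul_left _ ((card_subgroup_dvd_card _).trans ?_)
  rw [IsCyclic.card_mulAut, hR, Nat.totient_prime Fact.out]

end Cfsg.Agent.SpecFive
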