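import Cfsg.Agent.SpecFive.Normaliser
import Mathlib.GroupTheory.Nilpotent

/-!
Minimal normal subgroups in groups without elements of order above five.
-/

set_option autoImplicit false

namespace Cfsg.Agent.SpecFive

open Subgroup

variable {G : Type*} [Group G] [Finite G]

/-- Commuting elements have orders in a single prime. -/
theorem Ord.prime_eq_of_commute (h : Ord G) {x y : G} {p q : ℕ} (hp : p.Prime) (hq : q.Prime)
    (hx : orderOf x = p) (hy : orderOf y = q) (hc : Commute x y) : p = q := by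
  by_contra hne
  have h5 := h (x * y)
  rw [hc.orderOf_mul_eq_mul_orderOf_of_coprime (by rw [hx, hy]; exact (Nat.coprime_primes hp hq).2 hne),
    hx, hy] at h5
  have hp2 := hp.two_le
  have hq2 := hq.two_le
  rcases (show (p = 2 ∧ q = 2) ∨ (p = 2 ∧ 3 ≤ q) ∨ 3 ≤ p by omega) with ⟨e1, e2⟩ | ⟨e1, e2⟩ | e1
  · omega
  · nlinarith
  · nlinarith

/-- A minimal normal subgroup is simple unless some normal subgroup is a nontrivial prime power group. -/
theorem Ord.minimal_simple (h : Ord G)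
    (hno : ∀ (p : ℕ) (V : Subgroup G), p.Prime → V.Normal → IsPGroup p V → V = ⊥)
    {M : Subgroup G} [hMn : M.Normal] (hM1 : M ≠ ⊥)
    (hmin : ∀ W : Subgroup G, W.Normal → W ≤ M → W = ⊥ ∨ W = M) :
    IsSimpleGroup M ∧ ¬ IsMulCommutative M := by
  classical
  have hna : ¬ IsMulCommutative M := by
    intro hab
    obtain ⟨p, hp, hpd⟩ := Nat.exists_prime_and_dvd (n := Nat.card M) fun e =>
      hM1 (Subgroup.eq_bot_of_card_eq _ e)
    have : Fact p.Prime := ⟨hp⟩
    obtain ⟨⟨x, hxM⟩, hx⟩ := exists_prime_orderOf_dvd_card' p hpd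
    rw [← Subgroup.orderOf_coe] at hx
    refine hM1 (hno p M hp inferInstance ?_)
    rw [IsPGroup.iff_card]
    refine ⟨(Nat.card M).factorization p, Nat.eq_of_dvd_of_div_eq_one (Nat.ordProj_dvd _ p) ?_ |>.symm⟩
    by_contra hne
    obtain ⟨q, hq, hqd⟩ := Nat.exists_prime_and_dvd hne
    have : Fact q.Prime := ⟨hq⟩
    obtain ⟨⟨y, hyM⟩, hy⟩ := exists_prime_orderOf_dvd_card' (G := M) q (hqd.trans (Nat.ordCompl_dvd _ p))
    rw [← Subgroup.orderOf_coe] at hy
    have hpq := h.prime_eq_of_commute hp hq hx hy (congrArg Subtype.val (hab.is_comm.comm ⟨x, hxM⟩ ⟨y, hyM⟩))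
    subst hpq
    exact Nat.not_dvd_ordCompl hp Nat.card_pos.ne' hqd
  refine ⟨?_, hna⟩
  -- minimal normal subgroups of `M`
  have key : ∀ T : Subgroup M, T.Normal → T ≠ ⊥ → (∀ W : Subgroup M, W.Normal → W ≤ T → W = ⊥ ∨ W = T) →
      T = ⊤ := by
    intro T hTn hT1 hTmin
    set TG := T.map M.subtype with hTG
    have hTM : TG ≤ M := map_subtype_le _
    have hTG1 : TG ≠ ⊥ := fun e => hT1 ((map_eq_bot_iff_of_injective _ M.subtype_injective).1 e)
    have hMT : ∀ m ∈ M, ∀ x ∈ TG, m * x * m⁻¹ ∈ TG := by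
      intro m hm x hx
      obtain ⟨y, hy, rfl⟩ := mem_map.1 hx
      exact ⟨⟨m, hm⟩ * y * ⟨m, hm⟩⁻¹, hTn.conj_mem y hy _, rfl⟩
    by_cases hGn : TG.Normal
    · rcases hmin TG hGn hTM with e | e
      · exact absurd e hTG1
      · refine eq_top_iff.2 fun x _ => ?_
        obtain ⟨y, hy, hyx⟩ := mem_map.1 (show (x : G) ∈ TG by rw [e]; exact x.2)
        exact (M.subtype_injective hyx) ▸ hy
    exfalso
    obtain ⟨x₀, hx₀, g, hg⟩ : ∃ x ∈ TG, ∃ g : G, g * x * g⁻¹ ∉ TG := by
      by_contra! hall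
      exact hGn ⟨fun x hx g => hall x hx g⟩
    set T' := TG.map (MulAut.conj g).toMonoidHom with hT'
    have hT'M : T' ≤ M := by
      intro x hx
      obtain ⟨y, hy, rfl⟩ := mem_map.1 hx
      exact hMn.conj_mem y (hTM hy) g
    have hMT' : ∀ m ∈ M, ∀ x ∈ T', m * x * m⁻¹ ∈ T' := by
      intro m hm x hx
      obtain ⟨y, hy, rfl⟩ := mem_map.1 hx
      refine ⟨(g⁻¹ * m * g) * y * (g⁻¹ * m * g)⁻¹,
        hMT _ (by simpa using hMn.conj_mem m hm g⁻¹) y hy, ?_⟩
      simp [mul_assoc]
    set W := (TG ⊓ T').subgroupOf M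
    have hWn : W.Normal := ⟨fun x hx m => by
      rw [mem_subgroupOf] at hx ⊢
      exact ⟨hMT _ m.2 _ hx.1, hMT' _ m.2 _ hx.2⟩⟩
    have hWT : W ≤ T := fun x hx => by
      obtain ⟨y, hy, hyx⟩ := mem_map.1 (mem_subgroupOf.1 hx).1
      exact (M.subtype_injective hyx) ▸ hy
    have hdisj : ∀ x, x ∈ TG → x ∈ T' → x = 1 := by
      intro x hx hx'
      rcases hTmin W hWn hWT with e | e
      · have : (⟨x, hTM hx⟩ : M) ∈ W := mem_subgroupOf.2 ⟨hx, hx'⟩
        rw [e, mem_bot] at this
        exact congrArg Subtype.val this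
      · exfalso
        have hle : TG ≤ T' := fun z hz => by
          obtain ⟨y, hy, rfl⟩ := mem_map.1 hz
          rw [← e] at hy
          exact (mem_subgroupOf.1 hy).2
        have heq : TG = T' := eq_of_le_of_card_ge hle
          (card_map_of_injective (MulAut.conj g).injective).le
        refine hg ?_
        rw [heq]
        exact ⟨x₀, hx₀, by simp⟩
    have hcomm : ∀ x ∈ TG, ∀ y ∈ T', Commute x y := fun x hx y hy => by
      have h1 : x * y * x⁻¹ * y⁻¹ = 1 := hdisj _
        (by simpa [mul_assoc] using mul_mem hx (hMT y (hT'M hy) _ (inv_mem hx)))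
        (by simpa [mul_assoc] using mul_mem (hMT' x (hTM hx) y hy) (inv_mem hy))
      exact mul_inv_eq_iff_eq_mul.1 (mul_inv_eq_one.1 h1)
    have hT'1 : T' ≠ ⊥ := fun e =>
      hTG1 ((map_eq_bot_iff_of_injective _ (MulAut.conj g).injective).1 e)
    obtain ⟨p, hp, hpd⟩ := Nat.exists_prime_and_dvd (n := Nat.card T') fun e =>
      hT'1 (Subgroup.eq_bot_of_card_eq _ e)
    have : Fact p.Prime := ⟨hp⟩
    obtain ⟨⟨y, hy⟩, hyo⟩ := exists_prime_orderOf_dvd_card' p hpd
    rw [← Subgroup.orderOf_coe] at hyo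
    have hTp : IsPGroup p T := by
      rw [IsPGroup.iff_card]
      refine ⟨(Nat.card T).factorization p, Nat.eq_of_dvd_of_div_eq_one (Nat.ordProj_dvd _ p) ?_ |>.symm⟩
      by_contra hne
      obtain ⟨q, hq, hqd⟩ := Nat.exists_prime_and_dvd hne
      have : Fact q.Prime := ⟨hq⟩
      obtain ⟨x, hx⟩ := exists_prime_orderOf_dvd_card' (G := T) q (hqd.trans (Nat.ordCompl_dvd _ p))
      rw [← Subgroup.orderOf_coe, ← Subgroup.orderOf_coe] at hx
      have hxT : ((x : M) : G) ∈ TG := ⟨x.1, x.2, rfl⟩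
      have hpq := h.prime_eq_of_commute hq hp hx hyo (hcomm _ hxT y hy)
      subst hpq
      exact Nat.not_dvd_ordCompl hq Nat.card_pos.ne' hqd
    obtain ⟨S⟩ : Nonempty (Sylow p M) := inferInstance
    have hsub : ∀ U : Subgroup M, U.Normal → IsPGroup p U → U ≤ S := fun U hUn hU => by
      have := S.is_maximal' (hU.to_sup_of_normal_left S.isPGroup') le_sup_right
      exact this ▸ le_sup_left
    have hle : normalClosure (TG : Set G) ≤ (S : Subgroup M).map M.subtype := by
      refine (closure_le _).2 fun z hz => ?_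
      obtain ⟨x, hx, hconj⟩ := Group.mem_conjugatesOfSet_iff.1 hz
      obtain ⟨k, rfl⟩ := isConj_iff.1 hconj
      obtain ⟨y', hy', rfl⟩ := mem_map.1 hx
      let φ : M ≃* M := MulAut.conjNormal k
      have hU : (T.map φ.toMonoidHom).Normal := hTn.map _ φ.surjective
      exact ⟨φ y', hsub _ hU (hTp.map _) ⟨y', hy', rfl⟩, by simp [φ]⟩
    have := hno p (normalClosure (TG : Set G)) hp inferInstance ((S.isPGroup'.map _).to_le hle)
    exact hTG1 (eq_bot_iff.2 fun z hz => this ▸ subset_normalClosure hz)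
  have : Nontrivial M := (nontrivial_iff_ne_bot _).2 hM1
  refine IsSimpleGroup.mk fun H hH => ?_
  by_cases hH1 : H = ⊥
  · exact Or.inl hH1
  obtain ⟨T, hTle, ⟨⟨hTn, hT1⟩, hTmin⟩⟩ := Finite.exists_le_minimal
    (p := fun T : Subgroup M => T.Normal ∧ T ≠ ⊥) (a := H) ⟨hH, hH1⟩
  have hT := key T hTn hT1 fun W hW hle => by
    by_cases hW1 : W = ⊥
    · exact Or.inl hW1
    · exact Or.inr (le_antisymm hle (hTmin ⟨hW, hW1⟩ hle))
  exact Or.inr (top_le_iff.1 (hT ▸ hTle))

/-- No prime power normal subgroups when the Sylow 3-subgroups have order at least nine. -/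
theorem Ord.no_normal_pGroup (h : Ord G) {x4 y5 : G} (hx4 : orderOf x4 = 4) (hy5 : orderOf y5 = 5)
    (P : Sylow 3 G) (hP9 : 9 ≤ Nat.card (P : Subgroup G))
    (p : ℕ) (V : Subgroup G) (hp : p.Prime) (hVn : V.Normal) (hV : IsPGroup p V) : V = ⊥ := by
  have : Fact p.Prime := ⟨hp⟩
  by_contra hV1
  have htop : normalizer (V : Set G) = ⊤ := normalizer_eq_top_iff.2 hVn
  by_cases hp3 : p = 3
  · subst hp3
    set t := x4 * x4 with htdef
    have ht : t * t = 1 := by
      rw [htdef, ← mul_assoc, show x4 * x4 * x4 * x4 = x4 ^ 4 by simp [pow_succ, mul_assoc], ← hx4,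
        pow_orderOf_eq_one]
    have ht1 : t ≠ 1 := fun e => by
      have := orderOf_dvd_of_pow_eq_one (show x4 ^ 2 = 1 by rw [pow_two]; exact e)
      rw [hx4] at this
      norm_num at this
    have hinv : ∀ u : G, u * u = 1 → u ≠ 1 → ∀ v ∈ V, u * v * u = v⁻¹ := fun u hu hu1 => by
      refine inverts_of_fpf hu (fun v hv => ?_) fun v hv e => ?_
      · simpa [inv_eq_of_mul_eq_one_right hu] using hVn.conj_mem v hv u
      · by_contra hv1
        have hc : Commute v u := by
          show v * u = u * v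
          calc v * u = u * v * u * u := by rw [e]
            _ = u * v := by rw [mul_assoc, hu, mul_one]
        have h1 := h.commute_prime (Or.inl rfl) (orderOf_of_pow (Or.inl rfl)
          (h.pow_eq_one_of_isPGroup (Or.inl rfl) hV hv) hv1) hc
        have h2 : u ^ 2 = 1 := by rw [pow_two, hu]
        have := pow_gcd_eq_one.2 ⟨h2, h1⟩
        rw [show Nat.gcd 2 3 = 1 by norm_num, pow_one] at this
        exact hu1 this
    obtain ⟨v, hv, hv1⟩ := (bot_or_exists_ne_one V).resolve_left hV1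
    set C := centralizer (V : Set G) with hC
    have hCn : C.Normal := Subgroup.normal_centralizer
    have hC3 : IsPGroup 3 C := (h.centralizer_isPGroup (Or.inl rfl)
      (h.pow_eq_one_of_isPGroup (Or.inl rfl) hV hv) hv1).to_le (by
        intro c hc
        exact mem_centralizer_singleton_iff.2 (mem_centralizer_iff.1 hc v hv).symm)
    have hu : y5 * t * y5⁻¹ * (y5 * t * y5⁻¹) = 1 := by
      calc y5 * t * y5⁻¹ * (y5 * t * y5⁻¹) = y5 * (t * t) * y5⁻¹ := by group
        _ = 1 := by rw [ht]; group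
    have hmem : y5 * t * y5⁻¹ * t ∈ C := by
      rw [hC, mem_centralizer_iff]
      intro w hw
      have h1 := hinv t ht ht1 w hw
      have h2 := hinv (y5 * t * y5⁻¹) hu (fun e => ht1 (conj_eq_one_iff.1 e)) _ (V.inv_mem hw)
      rw [inv_inv] at h2
      set u := y5 * t * y5⁻¹
      calc w * (u * t) = u * w⁻¹ * u * (u * t) := by rw [h2]
        _ = u * w⁻¹ * ((u * u) * t) := by simp only [mul_assoc]
        _ = u * (t * w * t) * t := by rw [hu, one_mul, h1]
        _ = u * t * w := by simp only [mul_assoc, ht, mul_one]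
    set π := QuotientGroup.mk' C with hπ
    have hker : ∀ g, π g = 1 ↔ g ∈ C := fun g => by simp [hπ]
    have hc : Commute (π y5) (π t) := by
      have h1 : π (y5 * t * y5⁻¹ * t) = 1 := (hker _).2 hmem
      have h2 : π t * π t = 1 := by rw [← map_mul, ht, map_one]
      rw [map_mul, mul_eq_one_iff_eq_inv, inv_eq_of_mul_eq_one_right h2, map_mul, map_inv,
        mul_inv_eq_iff_eq_mul, map_mul] at h1
      exact h1
    have hnot : ∀ g : G, g ∈ C → ¬ (orderOf g = 2 ∨ orderOf g = 5) := fun g hg ho => by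
      have h1 := h.pow_eq_one_of_isPGroup (Or.inl rfl) hC3 hg
      have := orderOf_dvd_of_pow_eq_one h1
      rcases ho with ho | ho <;> rw [ho] at this <;> norm_num at this
    have ho5 : orderOf (π y5) = 5 := by
      have : Fact (Nat.Prime 5) := ⟨Nat.prime_five⟩
      refine orderOf_eq_prime (by rw [← map_pow, ← hy5, pow_orderOf_eq_one, map_one]) fun e => ?_
      exact hnot y5 ((hker _).1 e) (Or.inr hy5)
    have ho2 : orderOf (π t) = 2 := by
      refine orderOf_eq_prime (by rw [pow_two, ← map_mul, ht, map_one]) fun e => ?_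
      exact hnot t ((hker _).1 e) (Or.inl (orderOf_eq_prime (by rw [pow_two, ht]) ht1))
    have h5 := h.quotient C (π y5 * π t)
    rw [hc.orderOf_mul_eq_mul_orderOf_of_coprime (by rw [ho5, ho2]; norm_num), ho5, ho2] at h5
    omega
  · have h1 := h.le_of_normalises (Or.inl rfl) (Ne.symm hp3) hV hV1 P.isPGroup' (by rw [htop]; exact le_top)
    have := Nat.le_of_dvd (by norm_num) h1
    omega

end Cfsg.Agent.SpecFive
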