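import Cfsg.Agent.SpecFive.Outer
import Cfsg.Agent.SpecFive.Minimal
import Cfsg.Agent.SpecFive.Frattini
import Cfsg.Agent.SmallOrder.Order360
import Cfsg.Agent.S3331

/-!
Finite groups with element orders one to five.
-/

set_option autoImplicit false

namespace Cfsg.Agent.SpecFive

open Subgroup

universe u

variable {G : Type u} [Group G] [Finite G]

/-- A unipotent element. -/
def u7 : Matrix.SpecialLinearGroup (Fin 2) (ZMod 7) := ⟨!![1, 1; 0, 1], by decide⟩

/-- The transposed unipotent element. -/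
def w7 : Matrix.SpecialLinearGroup (Fin 2) (ZMod 7) := ⟨!![1, 0; 1, 1], by decide⟩

theorem u7_facts : u7 ^ 7 = 1 ∧ w7 * u7 ≠ u7 * w7 := by decide +kernel

theorem no_seven (h : Ord G) :
    IsEmpty (G ≃* Matrix.ProjectiveSpecialLinearGroup (Fin 2) (ZMod 7)) := ⟨fun e => by
  have : Fact (Nat.Prime 7) := ⟨by norm_num⟩
  have hu : u7 ∉ Subgroup.center (Matrix.SpecialLinearGroup (Fin 2) (ZMod 7)) := fun hc =>
    u7_facts.2 (Subgroup.mem_center_iff.1 hc w7)
  let π : Matrix.SpecialLinearGroup (Fin 2) (ZMod 7) →* Matrix.ProjectiveSpecialLinearGroup (Fin 2) (ZMod 7) :=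
    QuotientGroup.mk' _
  have ho : orderOf (π u7) = 7 :=
    orderOf_eq_prime (by rw [← map_pow, u7_facts.1, map_one]) fun e' => hu ((QuotientGroup.eq_one_iff _).1 e')
  have := h (e.symm (π u7))
  rw [MulEquiv.orderOf_eq, ho] at this
  omega⟩

/-- Self-centralising subgroups of order three. -/
theorem Ord.three_case (h : Ord G) (P : Sylow 3 G) (hP : Nat.card (P : Subgroup G) = 3) :
    (∃ (N : Subgroup G) (_ : N.Normal), Group.IsNilpotent N ∧ (Nat.card N).Coprime 3 ∧
        (Nat.card (G ⧸ N) = 3 ∨ Nonempty (G ⧸ N ≃* Equiv.Perm (Fin 3)))) ∨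
    (∃ (N : Subgroup G) (_ : N.Normal), IsMulCommutative N ∧ (∀ n ∈ N, n ^ 2 = 1) ∧
        Nonempty (G ⧸ N ≃* alternatingGroup (Fin 5))) := by
  have : Fact (Nat.Prime 3) := ⟨Nat.prime_three⟩
  obtain ⟨x, hx, hx1⟩ := (bot_or_exists_ne_one (P : Subgroup G)).resolve_left fun e => by
    rw [e, Subgroup.card_bot] at hP; omega
  have hx3 := h.pow_eq_one_of_isPGroup (Or.inl rfl) P.isPGroup' hx
  have hC : centralizer ((P : Subgroup G) : Set G) = P := by
    refine le_antisymm ?_ ?_
    · have hp := (h.centralizer_isPGroup (Or.inl rfl) hx3 hx1)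
      have heq : centralizer ({x} : Set G) = P := by
        refine P.is_maximal' hp fun y hy => mem_centralizer_singleton_iff.2 ?_
        have : IsCyclic (P : Subgroup G) := isCyclic_of_prime_card hP
        exact congrArg Subtype.val (IsCyclic.commGroup.mul_comm (⟨y, hy⟩ : (P : Subgroup G)) ⟨x, hx⟩)
      intro y hy
      rw [← heq]
      exact mem_centralizer_singleton_iff.2 (mem_centralizer_iff.1 hy x hx).symm
    · intro y hy
      rw [mem_centralizer_iff]
      intro z hz
      have : IsCyclic (P : Subgroup G) := isCyclic_of_prime_card hP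
      exact congrArg Subtype.val (IsCyclic.commGroup.mul_comm (⟨z, hz⟩ : (P : Subgroup G)) ⟨y, hy⟩)
  rcases Cfsg.Agent.S3331.result (P : Subgroup G) hP hC with ⟨N, hN, r⟩ | ⟨N, hN, r⟩ | r
  · exact Or.inl ⟨N, hN, r⟩
  · exact Or.inr ⟨N, hN, r⟩
  · exact ((no_seven h).false r.some).elim

/-- Simple groups of this kind with Sylow 3-subgroups of order three have order sixty. -/
theorem Ord.simple_sixty [IsSimpleGroup G] (hna : ¬ IsMulCommutative G) (h : Ord G) (P : Sylow 3 G)
    (hP : Nat.card (P : Subgroup G) = 3) : Nat.card G = 60 := by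
  have := Fintype.ofFinite G
  have h5 := h.dvd_of_simple hna (p := 5) (Or.inr (Or.inr rfl))
  rcases h.three_case P hP with ⟨N, hN, hnil, -, hq⟩ | ⟨N, hN, hc, -, hq⟩
  · rcases IsSimpleGroup.eq_bot_or_eq_top_of_normal N hN with e | e
    · subst e
      have hcard : Nat.card (G ⧸ (⊥ : Subgroup G)) = Nat.card G := by rw [← index_eq_card, index_bot]
      rcases hq with hq | ⟨⟨φ⟩⟩
      · rw [hcard] at hq; omega
      · have h6 : Nat.card G = 6 := by
          rw [← hcard, Nat.card_congr φ.toEquiv, Nat.card_perm, Nat.card_fin]; rfl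
        omega
    · subst e
      have := hnil
      have : Group.IsNilpotent G := Group.nilpotent_of_mulEquiv Subgroup.topEquiv
      exact absurd ⟨⟨IsSimpleGroup.comm_iff_isSolvable.2 inferInstance⟩⟩ hna
  · rcases IsSimpleGroup.eq_bot_or_eq_top_of_normal N hN with e | e
    · subst e
      obtain ⟨φ⟩ := hq
      have hcard : Nat.card (G ⧸ (⊥ : Subgroup G)) = Nat.card G := by rw [← index_eq_card, index_bot]
      rw [← hcard, Nat.card_congr φ.toEquiv, nat_card_alternatingGroup, Nat.card_fin]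
      rfl
    · subst e
      exact absurd ⟨⟨fun a b => congrArg Subtype.val
        (hc.is_comm.comm (⟨a, mem_top a⟩ : (⊤ : Subgroup G)) ⟨b, mem_top b⟩)⟩⟩ hna

/-- The classification. -/
theorem concl (h : Ord G) {x4 y5 : G} (hx4 : orderOf x4 = 4) (hy5 : orderOf y5 = 5)
    (h3 : 3 ∣ Nat.card G) :
    Nonempty (G ≃* ↥(alternatingGroup (Fin 6))) ∨
      ∃ (N : Subgroup G) (_ : N.Normal), Cfsg.IsElementaryAbelian 2 N ∧
        Nonempty (G ⧸ N ≃* ↥(alternatingGroup (Fin 5))) := by
  classical
  have : Fact (Nat.Prime 2) := ⟨Nat.prime_two⟩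
  have : Fact (Nat.Prime 3) := ⟨Nat.prime_three⟩
  have : Fact (Nat.Prime 5) := ⟨Nat.prime_five⟩
  obtain ⟨P⟩ : Nonempty (Sylow 3 G) := inferInstance
  obtain ⟨b, hb⟩ := IsPGroup.iff_card.1 P.isPGroup'
  have hb1 : 1 ≤ b := by
    by_contra h0
    have := P.dvd_card_of_dvd_card h3
    rw [hb, show b = 0 by omega] at this
    norm_num at this
  rcases (show b = 1 ∨ 2 ≤ b by omega) with rfl | hb2
  · rcases h.three_case P (by rw [hb]; norm_num) with ⟨N, hN, hnil, -, hq⟩ | ⟨N, hN, hc, hn2, hq⟩
    · exfalso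
      have h6 : ∀ q : G ⧸ N, q ^ 6 = 1 := fun q => by
        rcases hq with hq | ⟨⟨φ⟩⟩
        · have h1 : q ^ Nat.card (G ⧸ N) = 1 := pow_card_eq_one'
          rw [hq] at h1
          rw [show 6 = 3 * 2 from rfl, pow_mul, h1, one_pow]
        · have h1 : q ^ Nat.card (G ⧸ N) = 1 := pow_card_eq_one'
          rw [Nat.card_congr φ.toEquiv, Nat.card_perm, Nat.card_fin] at h1
          simpa [Nat.factorial] using h1
      set π := QuotientGroup.mk' N
      have hy : y5 ∈ N := by
        rw [← QuotientGroup.eq_one_iff]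
        have h1 : (π y5) ^ 5 = 1 := by rw [← map_pow, ← hy5, pow_orderOf_eq_one, map_one]
        have := pow_gcd_eq_one.2 ⟨h1, h6 (π y5)⟩
        rw [show Nat.gcd 5 6 = 1 by norm_num, pow_one] at this
        exact this
      have hx : x4 ^ 2 ∈ N := by
        rw [← QuotientGroup.eq_one_iff]
        have h1 : (π x4) ^ 4 = 1 := by rw [← map_pow, ← hx4, pow_orderOf_eq_one, map_one]
        have := pow_gcd_eq_one.2 ⟨h1, h6 (π x4)⟩
        rw [show Nat.gcd 4 6 = 2 by norm_num, ← map_pow] at this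
        exact this
      have hxo : orderOf (x4 ^ 2) = 2 := by
        rw [orderOf_pow' x4 (by norm_num : 2 ≠ 0), hx4]; norm_num
      have := hnil
      have hcomm : Commute (⟨x4 ^ 2, hx⟩ : N) ⟨y5, hy⟩ := by
        have hnorm : ∀ (p : ℕ) [Fact p.Prime] (S : Sylow p N), (S : Subgroup N).Normal := fun p _ S =>
          Sylow.normal_of_normalizerCondition Group.normalizerCondition_of_isNilpotent S
        have hp2 : IsPGroup 2 (zpowers (⟨x4 ^ 2, hx⟩ : N)) := IsPGroup.of_card (n := 1) (by
          rw [Nat.card_zpowers, ← Subgroup.orderOf_coe, hxo, pow_one])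
        have hp5 : IsPGroup 5 (zpowers (⟨y5, hy⟩ : N)) := IsPGroup.of_card (n := 1) (by
          rw [Nat.card_zpowers, ← Subgroup.orderOf_coe, hy5, pow_one])
        obtain ⟨S, hS⟩ := hp2.exists_le_sylow
        obtain ⟨T, hT⟩ := hp5.exists_le_sylow
        exact Subgroup.commute_of_normal_of_disjoint _ _ (hnorm 2 S) (hnorm 5 T)
          (IsPGroup.disjoint_of_ne 2 5 (by norm_num) _ _ S.isPGroup' T.isPGroup') _ _
          (hS (mem_zpowers _)) (hT (mem_zpowers _))
      exact absurd (h.prime_eq_of_commute Nat.prime_two Nat.prime_five hxo hy5 (congrArg Subtype.val hcomm))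
        (by norm_num)
    · exact Or.inr ⟨N, hN, ⟨hc, hn2⟩, hq⟩
  left
  have hP9 : 9 ≤ Nat.card (P : Subgroup G) := hb ▸ Nat.pow_le_pow_right (by norm_num : 0 < 3) hb2
  have hno := h.no_normal_pGroup hx4 hy5 P hP9
  have : Nontrivial G := ⟨⟨x4, 1, fun e => by rw [e, orderOf_one] at hx4; omega⟩⟩
  obtain ⟨M, ⟨hMn, hM1⟩, hMmin⟩ := exists_minimal_of_wellFoundedLT
    (fun W : Subgroup G => W.Normal ∧ W ≠ ⊥) ⟨⊤, inferInstance, top_ne_bot⟩
  have hmin : ∀ W : Subgroup G, W.Normal → W ≤ M → W = ⊥ ∨ W = M := fun W hW hle => by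
    by_cases hW1 : W = ⊥
    · exact Or.inl hW1
    · exact Or.inr (le_antisymm hle (hMmin ⟨hW, hW1⟩ hle))
  obtain ⟨hsimp, hna⟩ := h.minimal_simple hno hM1 hmin
  have := Fintype.ofFinite M
  have hM := h.subgroup M
  have h3M := hM.dvd_of_simple hna (p := 3) (Or.inr (Or.inl rfl))
  obtain ⟨PM⟩ : Nonempty (Sylow 3 M) := inferInstance
  obtain ⟨bM, hbM⟩ := IsPGroup.iff_card.1 PM.isPGroup'
  have hMcase : (Nat.card (PM : Subgroup M) = 3 ∧ Nat.card M = 60) ∨
      (Nat.card (PM : Subgroup M) = 9 ∧ Nat.card M = 360 ∧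
        (PM : Subgroup M).relIndex (normalizer ((PM : Subgroup M) : Set M)) = 4) := by
    rcases (show bM = 0 ∨ bM = 1 ∨ 2 ≤ bM by omega) with rfl | rfl | h2
    · have := PM.dvd_card_of_dvd_card h3M
      rw [hbM] at this
      norm_num at this
    · exact Or.inl ⟨by rw [hbM]; norm_num, hM.simple_sixty hna PM (by rw [hbM]; norm_num)⟩
    · obtain ⟨h1, h2⟩ := hM.simple_card hna PM
        (hbM ▸ Nat.pow_le_pow_right (by norm_num : 0 < 3) h2)
      refine Or.inr ⟨?_, h1, h2⟩
      rw [PM.card_eq_multiplicity, h1, show (360 : ℕ) = 3 ^ 2 * 40 by norm_num,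
        Nat.factorization_mul (by norm_num) (by norm_num), Nat.factorization_pow, Finsupp.add_apply,
        Finsupp.smul_apply, Nat.Prime.factorization_self Nat.prime_three,
        Nat.factorization_eq_zero_of_not_dvd (by norm_num : ¬ 3 ∣ 40)]
      norm_num
  -- the Frattini argument on the Sylow 5-subgroup
  obtain ⟨RM⟩ : Nonempty (Sylow 5 M) := inferInstance
  have hRM : Nat.card (RM : Subgroup M) = 5 := by
    rw [RM.card_eq_multiplicity]
    rcases hMcase with ⟨-, e⟩ | ⟨-, e, -⟩ <;> rw [e]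
    · rw [show (60 : ℕ) = 5 ^ 1 * 12 by norm_num, Nat.factorization_mul (by norm_num) (by norm_num),
        Nat.factorization_pow, Finsupp.add_apply, Finsupp.smul_apply, Nat.Prime.factorization_self Nat.prime_five,
        Nat.factorization_eq_zero_of_not_dvd (by norm_num : ¬ 5 ∣ 12)]
      norm_num
    · rw [show (360 : ℕ) = 5 ^ 1 * 72 by norm_num, Nat.factorization_mul (by norm_num) (by norm_num),
        Nat.factorization_pow, Finsupp.add_apply, Finsupp.smul_apply, Nat.Prime.factorization_self Nat.prime_five,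
        Nat.factorization_eq_zero_of_not_dvd (by norm_num : ¬ 5 ∣ 72)]
      norm_num
  obtain ⟨k, hk⟩ := card_normalizer_dvd h (Or.inr rfl) (R := (RM : Subgroup M).map M.subtype)
    (by rw [card_map_of_injective M.subtype_injective, hRM])
  have hidx3 : ¬ 3 ∣ M.index := fun h3' => by
    rw [index_eq_relIndex_normalizer RM] at h3'
    have h1 := (h3'.trans (Subgroup.index_dvd_card _)).trans hk
    rcases (Nat.Prime.dvd_mul Nat.prime_three).1 h1 with h2 | h2
    · exact absurd (Nat.prime_three.dvd_of_dvd_pow h2) (by norm_num)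
    · norm_num at h2
  have hcardG : Nat.card G = Nat.card M * M.index := (card_mul_index M).symm
  have hPPM : Nat.card (P : Subgroup G) = Nat.card (PM : Subgroup M) := by
    rw [P.card_eq_multiplicity, PM.card_eq_multiplicity, hcardG,
      Nat.factorization_mul Nat.card_pos.ne' index_ne_zero_of_finite, Finsupp.add_apply,
      Nat.factorization_eq_zero_of_not_dvd hidx3, add_zero]
  rcases hMcase with ⟨e, -⟩ | ⟨hPM9, hM360, heM⟩
  · omega
  -- the Sylow subgroup of `M` is a Sylow subgroup of `G`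
  set Q := (PM : Subgroup M).map M.subtype with hQdef
  have hQc : Nat.card Q = 3 ^ (Nat.card G).factorization 3 := by
    rw [← P.card_eq_multiplicity, hPPM, hQdef, card_map_of_injective M.subtype_injective]
  set P' := Sylow.ofCard Q hQc with hP'
  have hP'9 : Nat.card (P' : Subgroup G) = 9 := by
    rw [hP', Sylow.coe_ofCard, hQdef, card_map_of_injective M.subtype_injective, hPM9]
  have hP'M : (P' : Subgroup G) ≤ M := by rw [hP', Sylow.coe_ofCard]; exact map_subtype_le _
  have hI : Inverted 3 G := by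
    obtain ⟨a, hau⟩ := exists_prime_orderOf_dvd_card' (G := M) 2 (by rw [hM360]; norm_num)
    obtain ⟨c, hcu⟩ := exists_prime_orderOf_dvd_card' (G := M) 3 (by rw [hM360]; norm_num)
    obtain ⟨g, c', hc, hc1, hg⟩ := hM.exists_inverted_three (a := a) (b := c)
      (by rw [← pow_two, ← hau, pow_orderOf_eq_one]) (fun e => by rw [e, orderOf_one] at hau; omega)
      (by rw [← hcu, pow_orderOf_eq_one]) (fun e => by rw [e, orderOf_one] at hcu; omega)
    exact ⟨g, c', by rw [← Subgroup.coe_pow, hc, OneMemClass.coe_one],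
      fun e => hc1 (Subtype.ext e), by simpa using congrArg Subtype.val hg⟩
  have he := h.normalizer_of_inverted (Or.inl rfl) hI P' fun e => by
    rw [e, Subgroup.card_bot] at hP'9; omega
  simp only [Finset.mem_insert, Finset.mem_singleton] at he
  set N := normalizer ((P' : Subgroup G) : Set G) with hNdef
  have hNc : Nat.card N = 9 * (P' : Subgroup G).relIndex N := by
    rw [← Subgroup.relIndex_bot_left, ← Subgroup.relIndex_mul_relIndex ⊥ (P' : Subgroup G) _ bot_le le_normalizer,
      Subgroup.relIndex_bot_left, hP'9]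
  have hNM : (M.subgroupOf N).index = M.index := by
    rw [index_eq_relIndex_normalizer PM]
    show M.relIndex N = _
    rw [hNdef, hP', Sylow.coe_ofCard]
  have hNMc : Nat.card (M.subgroupOf N) = 36 := by
    have heq : normalizer ((PM : Subgroup M) : Set M) = N.subgroupOf M := by
      ext m
      rw [hNdef, hP', Sylow.coe_ofCard, mem_subgroupOf, mem_normalizer_iff, mem_normalizer_iff]
      constructor
      · intro hm y
        constructor
        · rintro ⟨z, hz, rfl⟩
          exact ⟨m * z * m⁻¹, (hm z).1 hz, rfl⟩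
        · rintro ⟨z, hz, hzy⟩
          refine ⟨m⁻¹ * z * m, (hm _).2 (by rwa [show m * (m⁻¹ * z * m) * m⁻¹ = z by group]), ?_⟩
          simp only [map_mul, map_inv, hzy, Subgroup.coe_subtype]
          group
      · intro hm y
        constructor
        · intro hy
          obtain ⟨z, hz, hzy⟩ := (hm (y : G)).1 ⟨y, hy, rfl⟩
          rwa [show m * y * m⁻¹ = z from Subtype.ext hzy.symm]
        · intro hy
          obtain ⟨z, hz, hzy⟩ := (hm (y : G)).2 ⟨_, hy, rfl⟩
          rwa [← show z = y from Subtype.ext hzy]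
    have h1 : Nat.card (normalizer ((PM : Subgroup M) : Set M)) = 36 := by
      rw [← Subgroup.relIndex_bot_left, ← Subgroup.relIndex_mul_relIndex ⊥ (PM : Subgroup M) _ bot_le le_normalizer,
        Subgroup.relIndex_bot_left, hPM9, heM]
    rw [← h1, heq]
    refine Nat.card_congr ⟨fun x => ⟨⟨x.1.1, x.2⟩, x.1.2⟩, fun x => ⟨⟨x.1.1, x.2⟩, x.1.2⟩, fun _ => rfl, fun _ => rfl⟩
  have hmul := (M.subgroupOf N).card_mul_index
  rw [hNMc, hNM, hNc] at hmul
  have hMA6 : Nonempty (M ≃* ↥(alternatingGroup (Fin 6))) := SmallOrder.Order360.alt_six hM360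
  rcases (show M.index = 1 ∨ (M.index = 2 ∧ (P' : Subgroup G).relIndex N = 8) by
    rcases he with e | e | e <;> rw [e] at hmul ⊢ <;> omega) with h1 | ⟨h2, h8⟩
  · obtain ⟨φ⟩ := hMA6
    exact ⟨((MulEquiv.subgroupCongr (index_eq_one.1 h1)).trans Subgroup.topEquiv).symm.trans φ⟩
  · exact (h.not_index_two hno hMA6.some h2 P' hP'9 hP'M h8).elim

end Cfsg.Agent.SpecFive
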