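import Mathlib
import Cfsg.Prelude.Def_Transfer

/-!
An extension of an elementary abelian two-group by a complement SL(2,4), in which elements of
order three act without fixed points and the kernel is minimal normal, is the affine group.
-/

set_option autoImplicit false

namespace Cfsg.Agent.SpecFive.AffineFour

open Matrix

variable {F : Type*} [Field F] [Fintype F]

local notation "SL₂" => SpecialLinearGroup (Fin 2) F
local notation "SL₃" => SpecialLinearGroup (Fin 3) F

/-- The first basis vector. -/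
def e₁ : Fin 2 → F := ![1, 0]

theorem two_eq_zero (hF : Fintype.card F = 4) : (2 : F) = 0 := by
  have h4 : ((4 : ℕ) : F) = 0 := by rw [← hF]; exact Nat.cast_card_eq_zero F
  push_cast at h4
  have h22 : (2 : F) * 2 = 0 := by linear_combination h4
  rcases mul_eq_zero.1 h22 with h | h <;> exact h

omit [Fintype F] in
theorem exists_move {v : Fin 2 → F} (hv : v ≠ 0) : ∃ A : SL₂, A.1 *ᵥ e₁ = v := by
  by_cases h0 : v 0 = 0
  · have h1 : v 1 ≠ 0 := fun h1 => hv (funext fun i => by fin_cases i <;> assumption)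
    refine ⟨⟨!![0, -(v 1)⁻¹; v 1, 0], by simp [det_fin_two, h1]⟩, ?_⟩
    ext i; fin_cases i <;> simp [e₁, Matrix.mulVec, dotProduct, Fin.sum_univ_two, h0]
  · refine ⟨⟨!![v 0, 0; v 1, (v 0)⁻¹], by simp [det_fin_two, h0]⟩, ?_⟩
    ext i; fin_cases i <;> simp [e₁, Matrix.mulVec, dotProduct, Fin.sum_univ_two]

omit [Fintype F] in
theorem mul_act (A B : SL₂) (v : Fin 2 → F) : (A * B).1 *ᵥ v = A.1 *ᵥ (B.1 *ᵥ v) :=
  (mulVec_mulVec v A.1 B.1).symm

omit [Fintype F] in
theorem one_act (v : Fin 2 → F) : (1 : SL₂).1 *ᵥ v = v :=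
  one_mulVec v

omit [Fintype F] in
theorem inv_act {A : SL₂} {v w : Fin 2 → F} (h : A.1 *ᵥ v = w) : (A⁻¹).1 *ᵥ w = v := by
  rw [← h, ← mul_act, inv_mul_cancel, one_act]

/-- An element cycling three points of a line of the plane. -/
theorem exists_cycle (hF : Fintype.card F = 4) {v v' : Fin 2 → F} (hv : v ≠ 0) (hv' : v' ≠ 0)
    (hne : v' ≠ v) : ∃ g : SL₂, g.1 *ᵥ v = v' ∧ g.1 *ᵥ v' = v + v' := by
  have h2 := two_eq_zero hF
  obtain ⟨A, hA⟩ := exists_move hv
  obtain ⟨u, hu⟩ : ∃ u, u = (A⁻¹).1 *ᵥ v' := ⟨_, rfl⟩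
  have hAu : A.1 *ᵥ u = v' := by rw [hu, ← mul_act, mul_inv_cancel, one_act]
  obtain ⟨M, hM1, hM2⟩ : ∃ M : SL₂, M.1 *ᵥ e₁ = u ∧ M.1 *ᵥ u = e₁ + u := by
    by_cases hb : u 1 = 0
    · have ha0 : u 0 ≠ 0 := fun h => hv' (by
        rw [← hAu, show u = 0 from funext fun i => by fin_cases i <;> assumption, mulVec_zero])
      have ha1 : u 0 ≠ 1 := fun h => hne (by
        rw [← hAu, ← hA, show u = e₁ from funext fun i => by fin_cases i <;> simp [e₁, h, hb]])
      have h3 : u 0 ^ 3 = 1 := by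
        have h := FiniteField.pow_card_sub_one_eq_one (u 0) ha0
        rwa [hF] at h
      have hsq : u 0 * u 0 = u 0 + 1 := by
        have h : (u 0 - 1) * (u 0 * u 0 + u 0 + 1) = 0 := by linear_combination h3
        rcases mul_eq_zero.1 h with h | h
        · exact absurd (sub_eq_zero.1 h) ha1
        · linear_combination h - (u 0 + 1) * h2
      refine ⟨⟨!![u 0, 0; 0, (u 0)⁻¹], by simp [det_fin_two, ha0]⟩, ?_, ?_⟩
      · ext i; fin_cases i <;> simp [e₁, Matrix.mulVec, dotProduct, Fin.sum_univ_two, hb]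
      · ext i; fin_cases i <;> simp [e₁, Matrix.mulVec, dotProduct, Fin.sum_univ_two, hb]
        rw [hsq, add_comm]
    · refine ⟨⟨!![u 0, (u 0 + 1 - u 0 * u 0) * (u 1)⁻¹; u 1, 1 + u 0], ?_⟩, ?_, ?_⟩
      · simp only [det_fin_two, of_apply, cons_val', cons_val_zero, cons_val_one,
          empty_val', cons_val_fin_one]
        field_simp
        linear_combination (u 0 * u 0 - 1) * h2
      · ext i; fin_cases i <;> simp [e₁, Matrix.mulVec, dotProduct, Fin.sum_univ_two]
      · ext i; fin_cases i <;> simp [e₁, Matrix.mulVec, dotProduct, Fin.sum_univ_two]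
        · field_simp; ring
        · linear_combination u 0 * u 1 * h2
  refine ⟨A * M * A⁻¹, ?_, ?_⟩
  · rw [mul_act, mul_act, inv_act hA, hM1, hAu]
  · rw [mul_act, mul_act, ← hu, hM2, mulVec_add, hA, hAu]

omit [Fintype F] in
theorem fix_sq (h2 : (2 : F) = 0) {A : SL₂} (hA : A.1 *ᵥ e₁ = e₁) : A * A = 1 := by
  have h0 : A.1 0 0 = 1 := by simpa [e₁, Matrix.mulVec, dotProduct, Fin.sum_univ_two] using congrFun hA 0
  have h1 : A.1 1 0 = 0 := by simpa [e₁, Matrix.mulVec, dotProduct, Fin.sum_univ_two] using congrFun hA 1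
  have hd := A.2
  rw [det_fin_two, h0, h1, one_mul, mul_zero, sub_zero] at hd
  apply Subtype.ext
  show A.1 * A.1 = (1 : Matrix (Fin 2) (Fin 2) F)
  ext i j
  fin_cases i <;> fin_cases j <;> simp [Matrix.mul_apply, Fin.sum_univ_two, h0, h1, hd]
  linear_combination A.1 0 1 * h2

/-- The upper left block. -/
def block (M : SL₃) (h20 : M.1 2 0 = 0) (h21 : M.1 2 1 = 0) (h22 : M.1 2 2 = 1) : SL₂ :=
  ⟨!![M.1 0 0, M.1 0 1; M.1 1 0, M.1 1 1], by
    have hd := M.2
    rw [det_fin_three, h20, h21, h22] at hd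
    rw [det_fin_two]
    simp
    linear_combination hd⟩

/-- The translation part. -/
def trans (M : SL₃) : Fin 2 → F := ![M.1 0 2, M.1 1 2]

/-- The matrices with last row (0,0,1). -/
def aff (F : Type*) [Field F] : Subgroup (SpecialLinearGroup (Fin 3) F) where
  carrier := {M | M.1 2 0 = 0 ∧ M.1 2 1 = 0 ∧ M.1 2 2 = 1}
  one_mem' := by simp
  mul_mem' := by
    rintro M N ⟨a, b, c⟩ ⟨a', b', c'⟩
    simp [Matrix.mul_apply, Fin.sum_univ_three, a, b, c, a', b', c']
  inv_mem' := by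
    rintro M ⟨a, b, c⟩
    have h : ∀ j, (M⁻¹).1 2 j = (1 : Matrix (Fin 3) (Fin 3) F) 2 j := fun j => by
      have h1 : M.1 * (M⁻¹).1 = 1 := congrArg Subtype.val (mul_inv_cancel M)
      rw [← h1, Matrix.mul_apply, Fin.sum_univ_three, a, b, c]
      simp
    exact ⟨by rw [h]; simp, by rw [h]; simp, by rw [h]; simp⟩

theorem closure_eq :
    Subgroup.closure {M : SL₃ | M.1 2 0 = 0 ∧ M.1 2 1 = 0 ∧ M.1 2 2 = 1} = aff F :=
  Subgroup.closure_eq (aff F)

omit [Fintype F] in
theorem block_mul (M N : SL₃) (a : M.1 2 0 = 0) (b : M.1 2 1 = 0) (c : M.1 2 2 = 1)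
    (a' : N.1 2 0 = 0) (b' : N.1 2 1 = 0) (c' : N.1 2 2 = 1) :
    block (M * N) ((aff F).mul_mem (x := M) (y := N) ⟨a, b, c⟩ ⟨a', b', c'⟩).1
      ((aff F).mul_mem (x := M) (y := N) ⟨a, b, c⟩ ⟨a', b', c'⟩).2.1
      ((aff F).mul_mem (x := M) (y := N) ⟨a, b, c⟩ ⟨a', b', c'⟩).2.2 =
      block M a b c * block N a' b' c' := by
  apply Subtype.ext
  show (block (M * N) _ _ _).1 = (block M a b c).1 * (block N a' b' c').1
  ext i j
  fin_cases i <;> fin_cases j <;>
    simp [block, Matrix.mul_apply, Fin.sum_univ_three, Fin.sum_univ_two, a', b']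

omit [Fintype F] in
theorem trans_mul (M N : SL₃) (a : M.1 2 0 = 0) (b : M.1 2 1 = 0) (c : M.1 2 2 = 1)
    (c' : N.1 2 2 = 1) : trans (M * N) = trans M + (block M a b c).1 *ᵥ trans N := by
  ext i
  fin_cases i <;>
    simp [trans, block, Matrix.mul_apply, Matrix.mulVec, dotProduct, Fin.sum_univ_three, Fin.sum_univ_two, c'] <;>
    ring

set_option maxHeartbeats 1000000 in
/-- The recognition. -/
theorem equiv_aff (hF : Fintype.card F = 4) {G : Type*} [Group G] [Finite G] {V : Subgroup G}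
    [V.Normal] (hV : Cfsg.IsElementaryAbelian 2 V) (hV1 : V ≠ ⊥)
    (hmin : ∀ W : Subgroup G, W.Normal → W ≤ V → W = ⊥ ∨ W = V)
    (hord : ∀ g : G, orderOf g ≤ 5)
    (e : SpecialLinearGroup (Fin 2) F →* G) (he : Function.Injective e)
    (hdisj : ∀ A : SpecialLinearGroup (Fin 2) F, e A ∈ V → A = 1)
    (hgen : ∀ g : G, ∃ v ∈ V, ∃ A, g = v * e A) :
    Nonempty (G ≃* aff F) := by
  classical
  have : Fact (Nat.Prime 2) := ⟨Nat.prime_two⟩
  have hc : ∀ x ∈ V, ∀ y ∈ V, x * y = y * x := fun x hx y hy =>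
    congrArg Subtype.val (hV.1.is_comm.comm ⟨x, hx⟩ ⟨y, hy⟩)
  have h2 := two_eq_zero hF
  -- the stabiliser
  let U : Subgroup SL₂ :=
    { carrier := {A | A.1 *ᵥ e₁ = e₁}
      one_mem' := one_act _
      mul_mem' := fun {A B} (hA : A.1 *ᵥ e₁ = e₁) (hB : B.1 *ᵥ e₁ = e₁) => by
        show (A * B).1 *ᵥ e₁ = e₁
        rw [mul_act, hB, hA]
      inv_mem' := fun {A} (hA : A.1 *ᵥ e₁ = e₁) => inv_act hA }
  obtain ⟨w, hwV, hw1, hwU⟩ : ∃ w ∈ V, w ≠ 1 ∧ ∀ A ∈ U, e A * w * (e A)⁻¹ = w := by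
    let _act : MulAction U V :=
      MulAction.compHom V (((MulAut.conjNormal (H := V)).comp e).comp U.subtype)
    have hU : IsPGroup 2 U := fun A => ⟨1, by
      apply Subtype.ext
      rw [pow_one, Subgroup.coe_pow, sq]
      exact fix_sq h2 A.2⟩
    have hdvd : 2 ∣ Nat.card V := by
      obtain ⟨⟨v, hv⟩, hv1⟩ := (Subgroup.nontrivial_iff_ne_bot V).2 hV1 |>.exists_pair_ne |>
        fun ⟨a, b, hab⟩ => (if ha : a = 1 then ⟨b, fun hb => hab (ha.trans hb.symm)⟩ else ⟨a, ha⟩ : ∃ x : V, x ≠ 1)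
      have : orderOf (⟨v, hv⟩ : V) = 2 := orderOf_eq_prime (Subtype.ext (hV.2 v hv)) hv1
      rw [← this]; exact orderOf_dvd_natCard _
    have h1 : (1 : V) ∈ MulAction.fixedPoints U V := fun A => map_one ((MulAut.conjNormal (H := V)) (e A.1))
    obtain ⟨w, hw, hne⟩ := hU.exists_fixed_point_of_prime_dvd_card_of_fixed_point V hdvd h1
    refine ⟨w, w.2, fun h => hne (Subtype.ext h).symm, fun A hA => ?_⟩
    have h := congrArg Subtype.val (hw ⟨A, hA⟩)
    rwa [show ((⟨A, hA⟩ : U) • w : V) = MulAut.conjNormal (e A) w from rfl,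
      MulAut.conjNormal_apply] at h
  -- the module map
  choose mv hmv using fun v : {v : Fin 2 → F // v ≠ 0} => exists_move v.2
  let f : (Fin 2 → F) → G := fun v =>
    if hv : v = 0 then 1 else e (mv ⟨v, hv⟩) * w * (e (mv ⟨v, hv⟩))⁻¹
  have hf0 : f 0 = 1 := dif_pos rfl
  have hfV : ∀ v, f v ∈ V := fun v => by
    by_cases hv : v = 0
    · rw [hv, hf0]; exact one_mem _
    · rw [show f v = _ from dif_neg hv]; exact ‹V.Normal›.conj_mem _ hwV _
  have hfe : ∀ A : SL₂, e A * w * (e A)⁻¹ = f (A.1 *ᵥ e₁) := by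
    intro A
    have hne : A.1 *ᵥ e₁ ≠ 0 := fun h => by
      have h' := inv_act h
      rw [mulVec_zero] at h'
      simpa [e₁] using congrFun h' 0
    rw [show f (A.1 *ᵥ e₁) = _ from dif_neg hne]
    set B := mv ⟨_, hne⟩ with hB
    have hU' : B⁻¹ * A ∈ U := by
      show (B⁻¹ * A).1 *ᵥ e₁ = e₁
      rw [mul_act]
      exact inv_act (hmv ⟨_, hne⟩)
    have h := hwU _ hU'
    calc e A * w * (e A)⁻¹ = e B * (e (B⁻¹ * A) * w * (e (B⁻¹ * A))⁻¹) * (e B)⁻¹ := by
          rw [map_mul, map_inv]; group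
      _ = _ := by rw [h]
  have hequiv : ∀ (A : SL₂) (v : Fin 2 → F), e A * f v * (e A)⁻¹ = f (A.1 *ᵥ v) := by
    intro A v
    by_cases hv : v = 0
    · rw [hv, hf0, mulVec_zero, hf0]; group
    · obtain ⟨B, hB⟩ := exists_move hv
      rw [← hB, ← hfe, ← mul_act, ← hfe, map_mul]; group
  have hsq : ∀ x ∈ V, x * x = 1 := fun x hx => by rw [← sq]; exact hV.2 x hx
  have hadd : ∀ v v', f (v + v') = f v * f v' := by
    intro v v'
    by_cases hv : v = 0
    · rw [hv, zero_add, hf0, one_mul]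
    by_cases hv' : v' = 0
    · rw [hv', add_zero, hf0, mul_one]
    by_cases hne : v' = v
    · subst hne
      rw [hsq _ (hfV _), show v' + v' = 0 from funext fun i => by
        show v' i + v' i = 0
        linear_combination v' i * h2, hf0]
    obtain ⟨g, hg1, hg2⟩ := exists_cycle hF hv hv' hne
    have hg3 : g.1 *ᵥ (v + v') = v := by
      rw [mulVec_add, hg1, hg2]
      funext i
      show v' i + (v i + v' i) = v i
      linear_combination v' i * h2
    obtain ⟨z, hz⟩ : ∃ z, z = f v * f v' * f (v + v') := ⟨_, rfl⟩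
    have hzV : z ∈ V := hz ▸ mul_mem (mul_mem (hfV _) (hfV _)) (hfV _)
    have hfix : Commute (e g) z := by
      have h : e g * z * (e g)⁻¹ = z := by
        calc e g * z * (e g)⁻¹ = (e g * f v * (e g)⁻¹) * (e g * f v' * (e g)⁻¹) *
              (e g * f (v + v') * (e g)⁻¹) := by rw [hz]; group
          _ = f v' * f (v + v') * f v := by rw [hequiv, hequiv, hequiv, hg1, hg2, hg3]
          _ = z := by rw [hz, hc _ (mul_mem (hfV _) (hfV _)) _ (hfV v), mul_assoc]
      exact mul_inv_eq_iff_eq_mul.1 h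
    have hone : z = 1 := by
      by_contra hz1
      have hoz : orderOf z = 2 := orderOf_eq_prime (hV.2 z hzV) hz1
      have hog := hord (e g)
      have hpos := orderOf_pos (e g)
      have hpow : g ^ orderOf (e g) = 1 := he (by rw [map_pow, map_one, pow_orderOf_eq_one])
      have hvv : ∀ n : ℕ, g ^ n = 1 → (g ^ n).1 *ᵥ v = v := fun n hn => by rw [hn, one_act]
      have s2 : (g ^ 2).1 *ᵥ v = v + v' := by rw [sq, mul_act, hg1, hg2]
      have s3 : (g ^ 3).1 *ᵥ v = v := by rw [pow_succ', mul_act, s2, hg3]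
      rcases (show orderOf (e g) = 1 ∨ orderOf (e g) = 2 ∨ orderOf (e g) = 3 ∨ orderOf (e g) = 4 ∨
          orderOf (e g) = 5 by omega) with o | o | o | o | o <;> rw [o] at hpow
      · exact hne (by rw [← hg1, show g = 1 by simpa using hpow, one_act])
      · have h := hvv 2 hpow
        rw [s2] at h
        exact hv' (by simpa using h)
      · have h6 := hord (e g * z)
        rw [hfix.orderOf_mul_eq_mul_orderOf_of_coprime (by rw [o, hoz]; norm_num), o, hoz] at h6
        omega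
      · have h := hvv 4 hpow
        rw [pow_succ', mul_act, s3, hg1] at h
        exact hne h
      · have h := hvv 5 hpow
        rw [show g ^ 5 = g ^ 2 * g ^ 3 from pow_add g 2 3, mul_act, s3, s2] at h
        exact hv' (by simpa using h)
    calc f (v + v') = (f v * f v') * (f v * f v' * f (v + v')) := by
          rw [← mul_assoc, hsq _ (mul_mem (hfV _) (hfV _)), one_mul]
      _ = f v * f v' := by rw [← hz, hone, mul_one]
  -- bijectivity
  have hfinj : ∀ v, f v = 1 → v = 0 := by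
    intro v h
    by_contra hv
    rw [show f v = _ from dif_neg hv] at h
    exact hw1 (by simpa using h)
  have hfsurj : ∀ x ∈ V, ∃ v, f v = x := by
    let W : Subgroup G :=
      { carrier := Set.range f
        one_mem' := ⟨0, hf0⟩
        mul_mem' := by rintro _ _ ⟨a, rfl⟩ ⟨b, rfl⟩; exact ⟨a + b, hadd a b⟩
        inv_mem' := by
          rintro _ ⟨a, rfl⟩
          exact ⟨a, (inv_eq_of_mul_eq_one_right (hsq _ (hfV a))).symm⟩ }
    have hWn : W.Normal := ⟨by
      rintro _ ⟨a, rfl⟩ g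
      obtain ⟨v, hv, A, rfl⟩ := hgen g
      refine ⟨A.1 *ᵥ a, ?_⟩
      have h := hequiv A a
      calc f (A.1 *ᵥ a) = v * f (A.1 *ᵥ a) * v⁻¹ := by rw [hc v hv _ (hfV _)]; group
        _ = _ := by rw [← h]; group⟩
    rcases hmin W hWn (by rintro _ ⟨a, rfl⟩; exact hfV a) with h | h
    · exfalso
      have h1 : f e₁ ∈ W := ⟨e₁, rfl⟩
      rw [h, Subgroup.mem_bot] at h1
      simpa [e₁] using congrFun (hfinj _ h1) 0
    · intro x hx
      rw [← h] at hx
      exact hx
  -- the isomorphism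
  let Φ : aff F →* G := MonoidHom.mk' (fun M => f (trans M.1) * e (block M.1 M.2.1 M.2.2.1 M.2.2.2)) (by
    rintro ⟨M, a, b, c⟩ ⟨N, a', b', c'⟩
    have hb := block_mul M N a b c a' b' c'
    have ht := trans_mul M N a b c c'
    show f (trans (M * N)) * e (block (M * N) _ _ _) =
      f (trans M) * e (block M a b c) * (f (trans N) * e (block N a' b' c'))
    rw [hb, ht, hadd, ← hequiv, map_mul]
    group)
  refine ⟨(MulEquiv.ofBijective Φ ⟨?_, ?_⟩).symm⟩
  · rw [injective_iff_map_eq_one]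
    rintro ⟨M, a, b, c⟩ h
    have h' : f (trans M) * e (block M a b c) = 1 := h
    have hA : block M a b c = 1 := hdisj _ (by rw [eq_inv_of_mul_eq_one_right h']; exact inv_mem (hfV _))
    rw [hA, map_one, mul_one] at h'
    have ht := hfinj _ h'
    have hA' : (block M a b c).1 = 1 := congrArg Subtype.val hA
    apply Subtype.ext
    show M = 1
    apply Subtype.ext
    show M.1 = (1 : Matrix (Fin 3) (Fin 3) F)
    ext i j
    have e00 := congrFun (congrFun hA' 0) 0
    have e01 := congrFun (congrFun hA' 0) 1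
    have e10 := congrFun (congrFun hA' 1) 0
    have e11 := congrFun (congrFun hA' 1) 1
    have t0 := congrFun ht 0
    have t1 := congrFun ht 1
    simp [block, trans] at e00 e01 e10 e11 t0 t1
    fin_cases i <;> fin_cases j <;> simp [*]
  · intro g
    obtain ⟨v, hv, A, rfl⟩ := hgen g
    obtain ⟨t, rfl⟩ := hfsurj v hv
    have hd := A.2
    rw [det_fin_two] at hd
    let M : SL₃ := ⟨!![A.1 0 0, A.1 0 1, t 0; A.1 1 0, A.1 1 1, t 1; 0, 0, 1], by
      rw [det_fin_three]; simp; linear_combination hd⟩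
    refine ⟨⟨M, rfl, rfl, rfl⟩, ?_⟩
    show f (trans M) * e (block M rfl rfl rfl) = _
    congr 2
    · ext i; fin_cases i <;> rfl
    · apply Subtype.ext; ext i j; fin_cases i <;> fin_cases j <;> rfl

end Cfsg.Agent.SpecFive.AffineFour
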