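import Cfsg.Agent.SpecFive.Main
import Cfsg.Agent.SpecFive.AffineFour
import Cfsg.Agent.Classical.SmallPSL
import Cfsg.Agent.Classical.A5InPSL

/-!
Groups critical with respect to the element orders of the alternating group of degree six.
-/

set_option autoImplicit false

namespace Cfsg.Agent.SpecFive.Critical

open Equiv

/-- Icosahedral generators give an embedding of the alternating group of degree five. -/
theorem exists_alt_five {G : Type*} [Group G] {x y : G} (hx : x ^ 3 = 1) (hy : y ^ 5 = 1)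
    (hxy : (x * y) ^ 2 = 1) (hne : y ≠ 1) :
    ∃ ψ : alternatingGroup (Fin 5) →* G, Function.Injective ψ := by
  classical
  haveI : Fact (Nat.Prime 5) := ⟨Nat.prime_five⟩
  obtain ⟨φ, -, hφy, hφ⟩ := Classical.A5InPSL.exists_hom hx hy hxy
  have hcen : Subgroup.center (Matrix.SpecialLinearGroup (Fin 2) (ZMod 5)) ≤ φ.ker := by
    intro c hc
    obtain ⟨r, hr, hc'⟩ := Matrix.SpecialLinearGroup.mem_center_iff.1 hc
    have hr' : r = 1 ∨ r = -1 := by
      rw [Fintype.card_fin, sq] at hr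
      exact mul_self_eq_one_iff.1 hr
    rcases hr' with rfl | rfl
    · have : c = 1 := Subtype.ext (by simpa using hc'.symm)
      rw [this]; exact one_mem _
    · have : c = -1 := Subtype.ext (by
        rw [Matrix.SpecialLinearGroup.coe_neg, Matrix.SpecialLinearGroup.coe_one, ← hc', map_neg, map_one])
      rw [this]; exact hφ
  have h4 : Fintype.card (ZMod 5) = 4 ∨ Fintype.card (ZMod 5) = 5 := Or.inr (ZMod.card 5)
  obtain ⟨e⟩ := Classical.Small.psl_two_sixty h4
  have : IsSimpleGroup (Matrix.ProjectiveSpecialLinearGroup (Fin 2) (ZMod 5)) :=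
    Classical.isSimpleGroup_psl (Or.inr ⟨by simp, Classical.Small.exists_sq_ne_one (by rw [ZMod.card]; norm_num)⟩)
  let ψ : Matrix.ProjectiveSpecialLinearGroup (Fin 2) (ZMod 5) →* G := QuotientGroup.lift _ φ hcen
  have hinj : Function.Injective ψ := by
    rcases IsSimpleGroup.eq_bot_or_eq_top_of_normal ψ.ker inferInstance with h | h
    · exact (ψ.ker_eq_bot_iff).1 h
    · refine absurd ?_ hne
      have h2 : ψ (QuotientGroup.mk Classical.A5InPSL.y₁) = 1 := by
        rw [ψ.ker_eq_top_iff.1 h, MonoidHom.one_apply]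
      rw [← hφy]
      exact h2
  exact ⟨ψ.comp e.symm.toMonoidHom, hinj.comp e.symm.injective⟩

theorem alt_five_facts :
    (∀ g : alternatingGroup (Fin 5), g ^ 4 = 1 → g ^ 2 = 1) ∧
    ∃ a x z : alternatingGroup (Fin 5), a ^ 2 = 1 ∧ a ≠ 1 ∧ x ^ 3 = 1 ∧ x ≠ 1 ∧
      (x⁻¹ * a) ^ 5 = 1 ∧ x⁻¹ * a ≠ 1 ∧ z ^ 3 = 1 ∧ z ≠ 1 ∧ a * z * a⁻¹ = z⁻¹ := by
  refine ⟨by decide +kernel, ⟨swap 0 3 * swap 1 4, Equiv.Perm.mem_alternatingGroup.2 (by decide)⟩, ⟨swap 0 1 * swap 1 2, Equiv.Perm.mem_alternatingGroup.2 (by decide)⟩,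
    ⟨swap 0 3 * swap 3 2, Equiv.Perm.mem_alternatingGroup.2 (by decide)⟩, ?_⟩
  decide +kernel

universe u

variable {G : Type u} [Group G] [Finite G]

/-- The affine conclusion. -/
theorem affine (h : Ord G)
    (hcrit : ∀ (H : Subgroup G) (N : Subgroup ↥H) [N.Normal], (H ≠ ⊤ ∨ N ≠ ⊥) →
      Set.range (orderOf : (↥H ⧸ N) → ℕ) ≠ ({1, 2, 3, 4, 5} : Set ℕ))
    {x₃ x₄ x₅ : G} (h₃ : orderOf x₃ = 3) (h₄ : orderOf x₄ = 4) (h₅ : orderOf x₅ = 5)
    (N : Subgroup G) [N.Normal] (hN : Cfsg.IsElementaryAbelian 2 N)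
    (e : G ⧸ N ≃* alternatingGroup (Fin 5)) :
    ∃ (F : Type) (_ : Field F) (_ : Fintype F), Fintype.card F = 4 ∧
      Nonempty (G ≃* ↥(Subgroup.closure {M : Matrix.SpecialLinearGroup (Fin 3) F |
        (M : Matrix (Fin 3) (Fin 3) F) 2 0 = 0 ∧ (M : Matrix (Fin 3) (Fin 3) F) 2 1 = 0 ∧ (M : Matrix (Fin 3) (Fin 3) F) 2 2 = 1})) := by
  classical
  have : Fact (Nat.Prime 2) := ⟨Nat.prime_two⟩
  have : Fact (Nat.Prime 3) := ⟨Nat.prime_three⟩
  have : Fact (Nat.Prime 5) := ⟨Nat.prime_five⟩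
  have : IsSimpleGroup (alternatingGroup (Fin 5)) := alternatingGroup.isSimpleGroup (by simp)
  let φ : G →* alternatingGroup (Fin 5) := e.toMonoidHom.comp (QuotientGroup.mk' N)
  have hφs : Function.Surjective φ := e.surjective.comp (QuotientGroup.mk'_surjective N)
  have hker : ∀ g, φ g = 1 ↔ g ∈ N := fun g => by
    rw [show φ g = e (g : G ⧸ N) from rfl, map_eq_one_iff e e.injective, QuotientGroup.eq_one_iff]
  obtain ⟨hA4, ab, xb, zb, hab, hab1, hxb, hxb1, hyb, hyb1, hzb, hzb1, hinv⟩ := alt_five_facts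
  have hcomm : ∀ a ∈ N, ∀ b ∈ N, a * b = b * a := fun a ha b hb =>
    congrArg Subtype.val (hN.1.is_comm.comm ⟨a, ha⟩ ⟨b, hb⟩)
  have hoN : ∀ v ∈ N, v ≠ 1 → orderOf v = 2 := fun v hv hv1 => orderOf_eq_prime (hN.2 v hv) hv1
  have hN1 : N ≠ ⊥ := by
    intro he
    have h4 : φ x₄ ^ 4 = 1 := by rw [← map_pow, ← h₄, pow_orderOf_eq_one, map_one]
    have h2 := hA4 _ h4
    rw [← map_pow, hker, he, Subgroup.mem_bot] at h2
    have := Nat.le_of_dvd two_pos (orderOf_dvd_of_pow_eq_one h2)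
    omega
  -- minimality
  obtain ⟨V, hV⟩ := exists_minimal_of_wellFoundedLT
    (fun W : Subgroup G => W.Normal ∧ W ≠ ⊥ ∧ W ≤ N) ⟨N, inferInstance, hN1, le_rfl⟩
  obtain ⟨hVn, hV1, hVN⟩ := hV.1
  have hVeq : V = N := by
    by_contra hne
    obtain ⟨x, hxN, hxV⟩ : ∃ x ∈ N, x ∉ V := SetLike.exists_of_lt (lt_of_le_of_ne hVN hne)
    have : (V.subgroupOf ⊤).Normal := inferInstance
    have hcr := hcrit ⊤ (V.subgroupOf ⊤) (Or.inr fun hb => hV1 (by
      rw [Subgroup.subgroupOf_eq_bot, disjoint_top] at hb; exact hb))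
    let π : G →* ((⊤ : Subgroup G) ⧸ V.subgroupOf ⊤) :=
      (QuotientGroup.mk' _).comp Subgroup.topEquiv.symm.toMonoidHom
    have hπ : ∀ g, π g = 1 ↔ g ∈ V := fun g => by
      rw [show π g = ((⟨g, trivial⟩ : (⊤ : Subgroup G)) : (⊤ : Subgroup G) ⧸ V.subgroupOf ⊤) from rfl,
        QuotientGroup.eq_one_iff, Subgroup.mem_subgroupOf]
    have hπs : Function.Surjective π :=
      (QuotientGroup.mk'_surjective _).comp Subgroup.topEquiv.symm.surjective
    have hodd : ∀ (g : G) (p : ℕ), p.Prime → p ≠ 2 → orderOf g = p → orderOf (π g) = p := by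
      intro g p hp hp2 hg
      have : Fact p.Prime := ⟨hp⟩
      refine orderOf_eq_prime (by rw [← map_pow, ← hg, pow_orderOf_eq_one, map_one]) fun h1 => ?_
      rw [hπ] at h1
      have := hoN g (hVN h1) fun hg1 => by rw [hg1, orderOf_one] at hg; exact hp.ne_one hg.symm
      omega
    have hno4 : ∀ g : G, g ^ 4 ∈ V → g ^ 2 ∈ V := by
      intro g hg
      by_contra hg2
      have ho : orderOf (π g) = 4 := by
        refine orderOf_eq_prime_pow (p := 2) (n := 1) ?_ ?_ <;> rw [← map_pow, hπ] <;> assumption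
      refine hcr (Set.ext fun k => ⟨?_, ?_⟩)
      · rintro ⟨a, rfl⟩
        obtain ⟨b, rfl⟩ := hπs a
        have h1 := Nat.le_of_dvd (orderOf_pos b) (orderOf_map_dvd π b)
        have h2 := orderOf_pos (π b)
        have h3 := h b
        simp only [Set.mem_insert_iff, Set.mem_singleton_iff]
        omega
      · simp only [Set.mem_insert_iff, Set.mem_singleton_iff]
        rintro (rfl | rfl | rfl | rfl | rfl)
        · exact ⟨1, orderOf_one⟩
        · exact ⟨π g ^ 2, by rw [orderOf_pow, ho]; rfl⟩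
        · exact ⟨π x₃, hodd _ _ Nat.prime_three (by norm_num) h₃⟩
        · exact ⟨π g, ho⟩
        · exact ⟨π x₅, hodd _ _ Nat.prime_five (by norm_num) h₅⟩
    let C : Subgroup G := (Subgroup.centralizer {π x}).comap π
    have hC : ∀ g, g ∈ C ↔ π x * π g = π g * π x := fun g => by
      rw [Subgroup.mem_comap, Subgroup.mem_centralizer_singleton_iff]; exact eq_comm
    have hNC : N ≤ C := fun g hg => by rw [hC, ← map_mul, ← map_mul, hcomm x hxN g hg]
    have hinvC : ∀ s : alternatingGroup (Fin 5), s ^ 2 = 1 → s ∈ C.map φ := by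
      intro s hs
      obtain ⟨t, rfl⟩ := hφs s
      refine ⟨t, ?_, rfl⟩
      have sq_mem : ∀ u : G, φ u ^ 2 = 1 → π u * π u = 1 := by
        intro u hu
        rw [← map_mul, hπ, ← sq]
        apply hno4
        rw [← map_pow, hker] at hu
        rw [show 4 = 2 * 2 from rfl, pow_mul, hN.2 _ hu]
        exact one_mem _
      have a := sq_mem t hs
      have b : π x * π x = 1 := by rw [← map_mul, ← sq, hN.2 x hxN, map_one]
      have c := sq_mem (t * x) (by rw [map_mul, (hker x).2 hxN, mul_one]; exact hs)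
      rw [map_mul] at c
      show t ∈ C
      rw [hC]
      calc π x * π t = π t * π t * (π x * π t) * (π x * π x) := by rw [a, b, one_mul, mul_one]
        _ = π t * ((π t * π x) * (π t * π x)) * π x := by group
        _ = π t * π x := by rw [c, mul_one]
    have htop : C.map φ = ⊤ := by
      let I : Subgroup (alternatingGroup (Fin 5)) := Subgroup.normalClosure {s | s ^ 2 = 1}
      rcases IsSimpleGroup.eq_bot_or_eq_top_of_normal I Subgroup.normalClosure_normal with hb | ht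
      · exfalso
        have : ab ∈ I := Subgroup.subset_normalClosure hab
        rw [hb, Subgroup.mem_bot] at this
        exact hab1 this
      · rw [eq_top_iff, ← ht]
        refine (Subgroup.closure_le _).2 fun r hr => ?_
        obtain ⟨s, hs, hsr⟩ := Group.mem_conjugatesOfSet_iff.1 hr
        obtain ⟨g, rfl⟩ := isConj_iff.1 hsr
        exact hinvC _ (by rw [conj_pow, show s ^ 2 = 1 from hs, mul_one, mul_inv_cancel])
    obtain ⟨c, hc, hcx⟩ : φ x₃ ∈ C.map φ := by rw [htop]; trivial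
    have h3C : x₃ ∈ C := by
      have : c⁻¹ * x₃ ∈ N := by rw [← hker, map_mul, map_inv, hcx, inv_mul_cancel]
      have := mul_mem hc (hNC this)
      rwa [mul_inv_cancel_left] at this
    obtain ⟨b, hb⟩ : ∃ b, b = π x := ⟨_, rfl⟩
    have hob : orderOf b = 2 := orderOf_eq_prime
      (by rw [hb, ← map_pow, hN.2 x hxN, map_one]) fun h1 => hxV ((hπ x).1 (hb ▸ h1))
    have h6 : orderOf (π x₃ * b) = 6 := by
      rw [Commute.orderOf_mul_eq_mul_orderOf_of_coprime (by rw [hb]; exact ((hC _).1 h3C).symm)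
        (by rw [hodd _ _ Nat.prime_three (by norm_num) h₃, hob]; norm_num),
        hodd _ _ Nat.prime_three (by norm_num) h₃, hob]
    have := (h.subgroup ⊤).quotient (V.subgroupOf ⊤) (π x₃ * b)
    omega
  subst hVeq
  have hmin : ∀ W : Subgroup G, W.Normal → W ≤ V → W = ⊥ ∨ W = V := fun W hW hWV =>
    (em (W = ⊥)).imp id fun h1 => le_antisymm hWV (hV.2 ⟨hW, h1, hWV⟩ hWV)
  -- orders of lifts
  have lift : ∀ (g : G) (p : ℕ), p.Prime → (p = 3 ∨ p = 5) → φ g ^ p = 1 → φ g ≠ 1 → orderOf g = p := by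
    intro g p hp hp' hg hg1
    have : Fact p.Prime := ⟨hp⟩
    have h1 := orderOf_map_dvd φ g
    rw [orderOf_eq_prime hg hg1] at h1
    obtain ⟨k, hk⟩ := h1
    have h5 := h g
    have := orderOf_pos g
    rcases hp' with rfl | rfl <;> (rcases k with _ | _ | k <;> omega)
  have fpf : ∀ (g v : G), orderOf g = 3 → v ∈ V → Commute g v → v = 1 := by
    intro g v hg hv hc
    by_contra hv1
    have h6 := h (g * v)
    rw [hc.orderOf_mul_eq_mul_orderOf_of_coprime (by rw [hg, hoN v hv hv1]; norm_num), hg, hoN v hv hv1] at h6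
    omega
  obtain ⟨a₀, rfl⟩ := hφs ab
  obtain ⟨z, rfl⟩ := hφs zb
  have hz3 := lift z 3 Nat.prime_three (Or.inl rfl) hzb hzb1
  have hz3' : orderOf z⁻¹ = 3 := by rw [orderOf_inv, hz3]
  let f : V → V := fun v => ⟨v * (z⁻¹ * (v : G)⁻¹ * z), mul_mem v.2 (by
    simpa using ‹V.Normal›.conj_mem _ (inv_mem v.2) z⁻¹)⟩
  have hf : Function.Injective f := by
    intro v w hvw
    have hvw' : (v : G) * (z⁻¹ * (v : G)⁻¹ * z) = w * (z⁻¹ * (w : G)⁻¹ * z) := congrArg Subtype.val hvw
    refine Subtype.ext (inv_mul_eq_one.1 (fpf z⁻¹ ((w : G)⁻¹ * v) hz3' (mul_mem (inv_mem w.2) v.2) ?_)).symm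
    show z⁻¹ * ((w : G)⁻¹ * v) = (w : G)⁻¹ * v * z⁻¹
    have h1 : (v : G) * z⁻¹ * (v : G)⁻¹ = w * z⁻¹ * (w : G)⁻¹ := by
      apply mul_right_cancel (b := z); simpa [mul_assoc] using hvw'
    calc z⁻¹ * ((w : G)⁻¹ * v) = (w : G)⁻¹ * (w * z⁻¹ * (w : G)⁻¹) * v := by group
      _ = (w : G)⁻¹ * v * z⁻¹ := by rw [← h1]; group
  have hk : a₀ * z * a₀⁻¹ * z ∈ V := by
    rw [← hker, map_mul, map_mul, map_mul, map_inv, hinv, inv_mul_cancel]
  obtain ⟨v, hv⟩ := Finite.surjective_of_injective hf ⟨_, hk⟩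
  have hv' : (v : G) * (z⁻¹ * (v : G)⁻¹ * z) = a₀ * z * a₀⁻¹ * z := congrArg Subtype.val hv
  obtain ⟨a, ha⟩ : ∃ a, a = (v : G)⁻¹ * a₀ := ⟨_, rfl⟩
  have hφa : φ a = φ a₀ := by rw [ha, map_mul, map_inv, (hker v).2 v.2, inv_one, one_mul]
  have haz : a * z * a⁻¹ = z⁻¹ := by
    have h1 : (v : G) * z⁻¹ * (v : G)⁻¹ = a₀ * z * a₀⁻¹ := by
      apply mul_right_cancel (b := z); simpa [mul_assoc] using hv'
    calc a * z * a⁻¹ = (v : G)⁻¹ * (a₀ * z * a₀⁻¹) * v := by rw [ha]; group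
      _ = z⁻¹ := by rw [← h1]; group
  have ha2 : a * a = 1 := by
    refine fpf z (a * a) hz3 (by rw [← hker, map_mul, hφa, ← sq, hab]) ?_
    have h2 : a * a * z * (a * a)⁻¹ = z := by
      calc a * a * z * (a * a)⁻¹ = a * (a * z * a⁻¹) * a⁻¹ := by group
        _ = (a * z * a⁻¹)⁻¹ := by nth_rw 1 [haz]; group
        _ = z := by rw [haz, inv_inv]
    exact (mul_inv_eq_iff_eq_mul.1 h2).symm
  obtain ⟨x, rfl⟩ := hφs xb
  have hx3 := lift x 3 Nat.prime_three (Or.inl rfl) hxb hxb1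
  have hy5 := lift (x⁻¹ * a) 5 Nat.prime_five (Or.inr rfl)
    (by rw [map_mul, map_inv, hφa]; exact hyb) (by rw [map_mul, map_inv, hφa]; exact hyb1)
  obtain ⟨ψ, hψ⟩ := exists_alt_five (x := x) (y := x⁻¹ * a) (by rw [← hx3, pow_orderOf_eq_one])
    (by rw [← hy5, pow_orderOf_eq_one]) (by rw [mul_inv_cancel_left, sq, ha2])
    (fun h1 => by rw [h1, orderOf_one] at hy5; omega)
  have hψV : ∀ s, ψ s ∈ V → s = 1 := by
    rcases IsSimpleGroup.eq_bot_or_eq_top_of_normal (V.comap ψ) inferInstance with hb | ht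
    · intro s hs
      have : s ∈ V.comap ψ := hs
      rwa [hb, Subgroup.mem_bot] at this
    · exfalso
      have hmem : φ x ∈ V.comap ψ := by rw [ht]; trivial
      have h3 : orderOf (ψ (φ x)) = 3 := by
        rw [orderOf_injective ψ hψ, orderOf_eq_prime hxb hxb1]
      have := hoN _ hmem fun h1 => by rw [h1, orderOf_one] at h3; omega
      omega
  -- the field
  let F := GaloisField 2 2
  let _ : Fintype F := Fintype.ofFinite F
  have hF : Fintype.card F = 4 := by
    rw [← Nat.card_eq_fintype_card]; exact GaloisField.card 2 2 (by norm_num)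
  obtain ⟨e4⟩ := Classical.Small.psl_two_sixty (F := F) (Or.inl hF)
  let μ : Matrix.SpecialLinearGroup (Fin 2) F →* alternatingGroup (Fin 5) :=
    e4.toMonoidHom.comp (QuotientGroup.mk' _)
  have hμ : Function.Injective μ := by
    rw [injective_iff_map_eq_one]
    intro A hA
    have hc : (A : Matrix.ProjectiveSpecialLinearGroup (Fin 2) F) = 1 :=
      e4.injective (hA.trans (map_one e4).symm)
    obtain ⟨r, hr, hA'⟩ := Matrix.SpecialLinearGroup.mem_center_iff.1 ((QuotientGroup.eq_one_iff A).1 hc)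
    rw [Fintype.card_fin] at hr
    have hr1 : r = 1 := by
      have h2 := AffineFour.two_eq_zero hF
      have : (r - 1) * (r - 1) = 0 := by linear_combination hr + (1 - r) * h2
      exact sub_eq_zero.1 (mul_self_eq_zero.1 this)
    exact Subtype.ext (by rw [← hA', hr1, map_one]; rfl)
  have hμs : Function.Surjective μ := e4.surjective.comp (QuotientGroup.mk'_surjective _)
  let θ : alternatingGroup (Fin 5) →* alternatingGroup (Fin 5) := φ.comp ψ
  have hθ : Function.Surjective θ := Finite.surjective_of_injective (by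
    rw [injective_iff_map_eq_one]
    exact fun s hs => hψV s ((hker _).1 hs))
  refine ⟨F, inferInstance, inferInstance, hF, ?_⟩
  rw [AffineFour.closure_eq]
  refine AffineFour.equiv_aff hF hN hN1 hmin h (ψ.comp μ) (hψ.comp hμ)
    (fun A hA => hμ ((hψV _ hA).trans (map_one μ).symm)) fun g => ?_
  obtain ⟨s, hs⟩ := hθ (φ g)
  obtain ⟨A, rfl⟩ := hμs s
  refine ⟨g * (ψ (μ A))⁻¹, ?_, A, by simp⟩
  rw [← hker, map_mul, map_inv, show φ (ψ (μ A)) = φ g from hs, mul_inv_cancel]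

end Cfsg.Agent.SpecFive.Critical
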