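import Mathlib.GroupTheory.SpecificGroups.Alternating
import Mathlib.GroupTheory.Perm.Fin

/-!
Facts about the alternating group of degree six checked by computation.
-/

set_option autoImplicit false

namespace Cfsg.Agent.SpecFive

theorem altSix_real : ∀ x : alternatingGroup (Fin 6),
    x ≠ 1 → x * x * x = 1 ∨ x * x * x * x * x = 1 →
      ∃ s : alternatingGroup (Fin 6), s * s = 1 ∧ s * x * s = x⁻¹ := by
  decide +kernel

theorem altSix_four_inv : ∀ a : alternatingGroup (Fin 6), a * a ≠ 1 → a * a * (a * a) = 1 →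
    ∃ s : alternatingGroup (Fin 6), s * s = 1 ∧ s * a * s = a⁻¹ := by
  decide +kernel

theorem altSix_four_cent : ∀ a : alternatingGroup (Fin 6), a * a ≠ 1 → a * a * (a * a) = 1 →
    ∀ g : alternatingGroup (Fin 6), g * g = 1 → g * a = a * g → g = 1 ∨ g = a * a := by
  decide +kernel

end Cfsg.Agent.SpecFive
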