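import Mathlib.Tactic.IntervalCases
import Mathlib.Tactic.Ring
import Mathlib.Tactic.Linarith
import Mathlib.Data.Nat.Factorization.Basic
import Mathlib.Data.Nat.ModEq
import Mathlib.Data.Int.Basic
import Mathlib.Algebra.Order.Ring.Int

/-!
Powers of three and five close to each other.
-/

set_option autoImplicit false

namespace Cfsg.Agent.SpecFive

theorem two_pow_consec {i j : ℕ} (hj : 1 ≤ j) (h : 5 ^ j + 1 = 2 ^ i ∨ 2 ^ i + 1 = 5 ^ j) :
    j = 1 ∧ i = 2 := by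
  obtain ⟨j', rfl⟩ : ∃ k, j = k + 1 := ⟨j - 1, by omega⟩
  rw [pow_succ] at h
  have h1 : 1 ≤ 5 ^ j' := Nat.one_le_pow _ _ (by norm_num)
  rcases h with h | h
  · exfalso
    have hi : 2 ≤ i := by
      by_contra hlt
      interval_cases i <;> omega
    obtain ⟨k, rfl⟩ : ∃ k, i = 2 + k := ⟨i - 2, by omega⟩
    rw [pow_add] at h
    have h2 : 5 ^ j' % 4 = 1 := by rw [Nat.pow_mod]; norm_num
    omega
  · rcases Nat.even_or_odd j' with ⟨t, rfl⟩ | ⟨t, rfl⟩
    · have h2 : 5 ^ (t + t) % 8 = 1 := by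
        rw [← two_mul, pow_mul, Nat.pow_mod]; norm_num
      rcases Nat.lt_or_ge i 3 with hi | hi
      · interval_cases i
        · omega
        · omega
        · have : 5 ^ (t + t) = 1 := by omega
          rw [Nat.pow_eq_one] at this
          omega
      · obtain ⟨k, rfl⟩ : ∃ k, i = 3 + k := ⟨i - 3, by omega⟩
        rw [pow_add] at h
        omega
    · exfalso
      have h2 : 5 ^ (2 * t + 1) % 3 = 2 := by
        rw [pow_succ, pow_mul, Nat.mul_mod, Nat.pow_mod]; norm_num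
      have h3 : 2 ^ i % 3 ≠ 0 := by
        intro h0
        have := Nat.prime_three.dvd_of_dvd_pow (Nat.dvd_of_mod_eq_zero h0)
        norm_num at this
      have h4 : (5 ^ (2 * t + 1) * 5) % 3 = 1 := by rw [Nat.mul_mod, h2]
      rw [← h] at h4
      omega

theorem five_pow_residues (d : ℕ) (hd : 1 ≤ d) :
    (5 ^ d % 8 = 1 ∧ 5 ^ d % 3 = 1 ∧ ∃ k, 1 ≤ k ∧ d = 2 * k) ∨ (5 ^ d % 8 = 5 ∧ 5 ^ d % 3 = 2) := by
  rcases Nat.even_or_odd d with ⟨k, rfl⟩ | ⟨k, rfl⟩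
  · refine Or.inl ⟨?_, ?_, k, by omega, by omega⟩ <;> rw [← two_mul, pow_mul, Nat.pow_mod] <;> norm_num
  · refine Or.inr ⟨?_, ?_⟩ <;> rw [pow_succ, pow_mul, Nat.mul_mod, Nat.pow_mod] <;> norm_num

theorem nine_pow_residues (n : ℕ) (hn : 1 ≤ n) : 9 ^ n % 8 = 1 ∧ 9 ^ n % 3 = 0 := by
  refine ⟨by rw [Nat.pow_mod]; norm_num, ?_⟩
  obtain ⟨k, rfl⟩ : ∃ k, n = k + 1 := ⟨n - 1, by omega⟩
  rw [pow_succ]
  omega

/-- A power of nine and a power of five differing by at most eight. -/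
theorem near_powers {n d u : ℕ} (hn : 2 ≤ n) (hd : 1 ≤ d) (hu : u = 1 ∨ u = 2 ∨ u = 3 ∨ u = 4 ∨ u = 8) :
    5 ^ d ≠ 9 ^ n + u ∧ 9 ^ n ≠ 5 ^ d + u := by
  obtain ⟨h8, h3⟩ := nine_pow_residues n (by omega)
  rcases five_pow_residues d hd with ⟨r8, r3, k, hk1, rfl⟩ | ⟨r8, r3⟩
  · refine ⟨by omega, fun h => ?_⟩
    have hu8 : u = 8 := by omega
    rw [pow_mul', show (9 : ℕ) ^ n = (3 ^ n) ^ 2 by rw [← pow_mul, mul_comm, pow_mul]; norm_num] at h
    have h5 : 5 ≤ 5 ^ k := le_self_pow (by norm_num) (by omega)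
    have hlt : 5 ^ k < 3 ^ n := by
      by_contra hge
      have := Nat.pow_le_pow_left (not_lt.1 hge) 2
      omega
    have : (5 ^ k + 1) ^ 2 ≤ (3 ^ n) ^ 2 := Nat.pow_le_pow_left hlt 2
    nlinarith
  · refine ⟨by omega, fun h => ?_⟩
    have hu4 : u = 4 := by omega
    subst hu4
    rw [show (9 : ℕ) ^ n = 3 ^ n * 3 ^ n by rw [← mul_pow]; norm_num] at h
    have h9 : 9 ≤ 3 ^ n := (Nat.pow_le_pow_right (by norm_num : 0 < 3) hn)
    obtain ⟨g, hg⟩ : ∃ g, 3 ^ n = g + 2 := ⟨3 ^ n - 2, by omega⟩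
    rw [hg] at h h9
    have hprod : g * (g + 4) = 5 ^ d := by nlinarith
    obtain ⟨i, -, hi⟩ := (Nat.dvd_prime_pow Nat.prime_five).1 (hprod ▸ dvd_mul_right g _)
    obtain ⟨l, -, hl⟩ := (Nat.dvd_prime_pow Nat.prime_five).1 (hprod ▸ dvd_mul_left (g + 4) g)
    have h1 : 5 ∣ g := hi ▸ dvd_pow_self 5 (fun e => by rw [e, pow_zero] at hi; omega)
    have h2 : 5 ∣ g + 4 := hl ▸ dvd_pow_self 5 (fun e => by rw [e, pow_zero] at hl; omega)
    omega

/-- The two orders are `9` and `5`. -/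
theorem orders_eq {b d e e' : ℕ} (hb : 2 ≤ b) (hd : 1 ≤ d) (he : e = 4 ∨ e = 8)
    (he' : e' = 2 ∨ e' = 3 ∨ e' = 4 ∨ e' = 8) (hdvd : e ∣ 3 ^ b - 1)
    (hP : ∃ s : ℤ, ((3 ^ b : ℕ) : ℤ) ∣ ((5 ^ d : ℕ) : ℤ) - s ∧
      (s.natAbs = 1 ∨ s.natAbs = e ∨ (3 ^ b = 9 ∧ e = 4 ∧ s.natAbs = 5)))
    (hR : 125 ≤ 5 ^ d → ∃ s : ℤ, ((5 ^ d : ℕ) : ℤ) ∣ ((3 ^ b : ℕ) : ℤ) - s ∧
      (s.natAbs = 1 ∨ s.natAbs = e')) :
    3 ^ b = 9 ∧ 5 ^ d = 5 ∧ e = 4 := by
  obtain ⟨n, rfl⟩ : ∃ n, b = 2 * n := by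
    rcases Nat.even_or_odd b with ⟨n, rfl⟩ | ⟨n, rfl⟩
    · exact ⟨n, by omega⟩
    · exfalso
      have h4 : 4 ∣ 3 ^ (2 * n + 1) - 1 := (by rcases he with rfl | rfl <;> norm_num : 4 ∣ e).trans hdvd
      have : 3 ^ (2 * n + 1) % 4 = 3 := by rw [pow_succ, pow_mul, Nat.mul_mod, Nat.pow_mod]; norm_num
      have : 1 ≤ 3 ^ (2 * n + 1) := Nat.one_le_pow _ _ (by norm_num)
      omega
  rw [pow_mul, show (3 : ℕ) ^ 2 = 9 by norm_num] at hP hR ⊢
  clear hdvd
  obtain ⟨s, hs, hsl⟩ := hP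
  rcases (show d = 1 ∨ d = 2 ∨ 3 ≤ d by omega) with rfl | rfl | hd3
  · clear hR
    rcases (show n = 1 ∨ 2 ≤ n by omega) with rfl | hn
    · norm_num at hs hsl ⊢
      rcases he with rfl | rfl
      · rfl
      · omega
    · exfalso
      have : 81 ≤ 9 ^ n := Nat.pow_le_pow_right (by norm_num : 0 < 9) hn
      obtain ⟨k, hk⟩ := hs
      have hn' : 9 ^ n ≠ 9 := by omega
      rcases hsl with h | h | ⟨h, -⟩
      rotate_left 2
      · exact hn' h
      all_goals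
        have hs8 : -8 ≤ s ∧ s ≤ 8 := by omega
        norm_num at hk
        have hk0 : k = 0 := by
          by_contra hk0
          rcases lt_or_gt_of_ne hk0 with hneg | hpos
          · nlinarith [show (81 : ℤ) ≤ ((9 ^ n : ℕ) : ℤ) by exact_mod_cast this]
          · nlinarith [show (81 : ℤ) ≤ ((9 ^ n : ℕ) : ℤ) by exact_mod_cast this]
        rw [hk0, mul_zero] at hk
        omega
  · exfalso
    clear hR
    rcases (show n = 1 ∨ 2 ≤ n by omega) with rfl | hn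
    · norm_num at hs hsl
      omega
    · have h81 : 81 ≤ 9 ^ n := Nat.pow_le_pow_right (by norm_num : 0 < 9) hn
      obtain ⟨k, hk⟩ := hs
      have hs8 : -8 ≤ s ∧ s ≤ 8 := by omega
      have h81' : (81 : ℤ) ≤ ((9 ^ n : ℕ) : ℤ) := by exact_mod_cast h81
      norm_num at hk
      rcases lt_trichotomy k 0 with hk0 | hk0 | hk0
      · nlinarith
      · rw [hk0, mul_zero] at hk; omega
      · nlinarith
  · exfalso
    have h125 : 125 ≤ 5 ^ d := Nat.pow_le_pow_right (by norm_num : 0 < 5) hd3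
    obtain ⟨s', hs', hsl'⟩ := hR h125
    obtain ⟨k', hk'⟩ := hs'
    clear hR
    have hs8' : -8 ≤ s' ∧ s' ≤ 8 := by omega
    rcases (show n = 0 ∨ n = 1 ∨ 2 ≤ n by omega) with rfl | rfl | hn
    · omega
    · norm_num at hk'
      have h125' : (125 : ℤ) ≤ (5 : ℤ) ^ d := by exact_mod_cast h125
      rcases lt_trichotomy k' 0 with hk0 | hk0 | hk0
      · nlinarith
      · rw [hk0, mul_zero] at hk'; omega
      · nlinarith
    · have h81 : 81 ≤ 9 ^ n := Nat.pow_le_pow_right (by norm_num : 0 < 9) hn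
      have hn' : 9 ^ n ≠ 9 := by omega
      have hsl2 : s.natAbs = 1 ∨ s.natAbs = e := by
        rcases hsl with h | h | ⟨h, -⟩
        exacts [Or.inl h, Or.inr h, absurd h hn']
      have hs8 : -8 ≤ s ∧ s ≤ 8 := by omega
      obtain ⟨k, hk⟩ := hs
      set Q := 9 ^ n with hQ
      set R := 5 ^ d with hR'
      have hQ' : (81 : ℤ) ≤ (Q : ℤ) := by exact_mod_cast h81
      have hR125 : (125 : ℤ) ≤ (R : ℤ) := by exact_mod_cast h125
      rcases lt_or_ge R Q with hlt | hge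
      · have hlt' : (R : ℤ) < Q := by exact_mod_cast hlt
        have hk1 : k ≤ 1 := by by_contra h; nlinarith
        have hk2 : 0 ≤ k := by by_contra h; nlinarith
        interval_cases k
        · omega
        · obtain ⟨-, h2⟩ := near_powers (u := s.natAbs) hn hd (by omega)
          omega
      · have hge' : (Q : ℤ) ≤ R := by exact_mod_cast hge
        have hk1 : k' ≤ 1 := by by_contra h; nlinarith
        have hk2 : 0 ≤ k' := by by_contra h; nlinarith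
        interval_cases k'
        · omega
        · obtain ⟨h1, -⟩ := near_powers (u := s'.natAbs) hn hd (by omega)
          omega

/-- The final congruence for the order of a Sylow 2-subgroup. -/
theorem two_part_eq {a : ℕ} (ha : a ≤ 13) (h : (17 * 2 ^ a) % 45 = 1 ∨ (26 * 2 ^ a) % 45 = 1) :
    a = 3 := by
  interval_cases a <;> first | rfl | (norm_num at h)

end Cfsg.Agent.SpecFive
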