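import Cfsg.Agent.Classical.A5InPSL
import Mathlib.GroupTheory.Sylow
import Mathlib.GroupTheory.OrderOfElement

/-!
Finite groups without elements of order greater than five: centralisers and inverted elements.
-/

set_option autoImplicit false

namespace Cfsg.Agent.SpecFive

open Subgroup

variable {G : Type*} [Group G]

/-- No element has order above five. -/
def Ord (G : Type*) [Group G] : Prop := ∀ g : G, orderOf g ≤ 5

theorem Ord.subgroup (h : Ord G) (H : Subgroup G) : Ord H := fun g => by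
  rw [← Subgroup.orderOf_coe]
  exact h g

theorem Ord.quotient [Finite G] (h : Ord G) (N : Subgroup G) [N.Normal] : Ord (G ⧸ N) := fun g => by
  induction g using QuotientGroup.induction_on with
  | H g =>
    exact (Nat.le_of_dvd (orderOf_pos g) (orderOf_map_dvd (QuotientGroup.mk' N) g)).trans (h g)

variable [Finite G]

theorem Ord.dvd_cases (h : Ord G) {g : G} {n : ℕ} (hn : g ^ n = 1) :
    ∃ k, orderOf g = k ∧ k ∣ n ∧ 1 ≤ k ∧ k ≤ 5 :=
  ⟨_, rfl, orderOf_dvd_of_pow_eq_one hn, orderOf_pos g, h g⟩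

/-- An element commuting with an element of order `3` or `5` has the same order or is trivial. -/
theorem Ord.commute_prime (h : Ord G) {p : ℕ} (hp : p = 3 ∨ p = 5) {x g : G} (hx : orderOf x = p)
    (hc : Commute x g) : g ^ p = 1 := by
  have hpp : p.Prime := by rcases hp with rfl | rfl <;> norm_num
  have hg0 := orderOf_pos g
  have hg5 := h g
  by_cases hd : p ∣ orderOf g
  · have : orderOf g = p := by
      obtain ⟨k, hk⟩ := hd
      rcases hp with rfl | rfl <;> omega
    rw [← this, pow_orderOf_eq_one]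
  · have hcop : (orderOf x).Coprime (orderOf g) := by
      rw [hx]
      exact hpp.coprime_iff_not_dvd.2 hd
    have h5 := h (x * g)
    rw [hc.orderOf_mul_eq_mul_orderOf_of_coprime hcop, hx] at h5
    have h1 : orderOf g = 1 := by
      by_contra hne
      have : p * 2 ≤ p * orderOf g := Nat.mul_le_mul_left p (by omega)
      rcases hp with rfl | rfl <;> omega
    rw [orderOf_eq_one_iff.1 h1, one_pow]

theorem orderOf_of_pow {p : ℕ} (hp : p = 3 ∨ p = 5) {x : G} (hx : x ^ p = 1) (hx1 : x ≠ 1) :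
    orderOf x = p := by
  have : Fact p.Prime := ⟨by rcases hp with rfl | rfl <;> norm_num⟩
  exact orderOf_eq_prime hx hx1

/-- A `p`-group has exponent `p` for `p = 3, 5`. -/
theorem Ord.pow_eq_one_of_isPGroup (h : Ord G) {p : ℕ} (hp : p = 3 ∨ p = 5) {P : Subgroup G}
    (hP : IsPGroup p P) {g : G} (hg : g ∈ P) : g ^ p = 1 := by
  have : Fact p.Prime := ⟨by rcases hp with rfl | rfl <;> norm_num⟩
  obtain ⟨k, hk⟩ := IsPGroup.iff_orderOf.1 hP ⟨g, hg⟩
  rw [← Subgroup.orderOf_coe] at hk
  simp only at hk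
  have hle : k ≤ 1 := by
    by_contra hk2
    have h25 : p ^ 2 ≤ p ^ k := Nat.pow_le_pow_right this.out.pos (by omega)
    have := h g
    rcases hp with rfl | rfl <;> omega
  refine orderOf_dvd_iff_pow_eq_one.1 (hk ▸ ?_)
  exact (pow_dvd_pow p hle).trans (by rw [pow_one])

theorem Ord.centralizer_isPGroup (h : Ord G) {p : ℕ} (hp : p = 3 ∨ p = 5) {x : G}
    (hx : x ^ p = 1) (hx1 : x ≠ 1) : IsPGroup p (centralizer ({x} : Set G)) := fun g =>
  ⟨1, Subtype.ext (by
    rw [pow_one]
    exact h.commute_prime hp (orderOf_of_pow hp hx hx1)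
      (Subgroup.mem_centralizer_singleton_iff.1 g.2).symm)⟩

/-- An element inverting an element of order `3` or `5` is an involution. -/
theorem Ord.sq_of_inverts (h : Ord G) {p : ℕ} (hp : p = 3 ∨ p = 5) {g b : G} (hb : b ^ p = 1)
    (hb1 : b ≠ 1) (hg : g * b * g⁻¹ = b⁻¹) : g * g = 1 ∧ g ≠ 1 := by
  have hob := orderOf_of_pow hp hb hb1
  have hbb : b⁻¹ ≠ b := fun e => by
    have h2 : b ^ 2 = 1 := by rw [pow_two, ← mul_inv_eq_one.2 e.symm, inv_inv]
    have := Nat.le_of_dvd two_pos (orderOf_dvd_of_pow_eq_one h2)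
    rcases hp with rfl | rfl <;> omega
  have hg1 : g ≠ 1 := fun e => hbb (by rw [← hg, e, one_mul, inv_one, mul_one])
  have hc : Commute b (g * g) := by
    have h2 : g * g * b * (g * g)⁻¹ = b := by
      rw [show g * g * b * (g * g)⁻¹ = g * (g * b * g⁻¹) * g⁻¹ by group, hg]
      calc g * b⁻¹ * g⁻¹ = (g * b * g⁻¹)⁻¹ := by group
        _ = b := by rw [hg, inv_inv]
    exact (mul_inv_eq_iff_eq_mul.1 h2).symm
  have hgp : g ^ (2 * p) = 1 := by
    rw [pow_mul, pow_two]
    exact h.commute_prime hp hob hc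
  obtain ⟨k, hk, hkd, hk1, hk5⟩ := h.dvd_cases hgp
  have hnp : ¬ (g ^ p = 1) := fun hgp' => by
    have h3 : g = (g * g) ^ ((p + 1) / 2) := by
      rw [← pow_two, ← pow_mul, show 2 * ((p + 1) / 2) = p + 1 by rcases hp with rfl | rfl <;> norm_num,
        pow_succ, hgp', one_mul]
    have hcg : Commute b g := h3 ▸ hc.pow_right _
    exact hbb (by rw [← hg, ← hcg.eq, mul_inv_cancel_right])
  have : k = 2 := by
    rcases hp with rfl | rfl <;> interval_cases k <;>
      first
        | rfl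
        | exact absurd (orderOf_eq_one_iff.1 hk) hg1
        | exact absurd (by rw [← hk, pow_orderOf_eq_one]) hnp
        | norm_num at hkd
  exact ⟨by rw [← pow_two, ← this, ← hk, pow_orderOf_eq_one], hg1⟩

omit [Finite G] in
/-- A fixed-point-free involutory conjugation inverts. -/
theorem inverts_of_fpf {V : Subgroup G} [Finite V] {t : G} (ht : t * t = 1)
    (hn : ∀ v ∈ V, t * v * t ∈ V) (hf : ∀ v ∈ V, t * v * t = v → v = 1) :
    ∀ v ∈ V, t * v * t = v⁻¹ := by
  let f : V → V := fun v => ⟨(v : G)⁻¹ * (t * v * t), V.mul_mem (V.inv_mem v.2) (hn v v.2)⟩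
  have hinj : Function.Injective f := by
    rintro ⟨v, hv⟩ ⟨w, hw⟩ e
    simp only [f, Subtype.mk.injEq] at e
    have h1 : t * (w * v⁻¹) * t = w * v⁻¹ := by
      have h2 : t * v * t = v * (w⁻¹ * (t * w * t)) := by rw [← e, mul_inv_cancel_left]
      calc t * (w * v⁻¹) * t = (t * w * t) * (t * v * t)⁻¹ := by
            rw [mul_inv_rev, mul_inv_rev, inv_eq_of_mul_eq_one_right ht]
            simp only [mul_assoc]
            rw [← mul_assoc t t, ht, one_mul]
        _ = w * v⁻¹ := by rw [h2]; group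
    exact Subtype.ext (mul_inv_eq_one.1 (hf _ (V.mul_mem hw (V.inv_mem hv)) h1)).symm
  intro v hv
  obtain ⟨⟨u, hu⟩, e⟩ := (Finite.injective_iff_surjective.1 hinj) ⟨v, hv⟩
  simp only [f, Subtype.mk.injEq] at e
  subst e
  rw [mul_inv_rev, mul_inv_rev, mul_inv_rev, inv_eq_of_mul_eq_one_right ht, inv_inv]
  simp only [mul_assoc]
  rw [ht, mul_one]

/-- One inverted element makes the Sylow subgroup abelian, self-centralising and inverted. -/
theorem Ord.sylow_of_inverted (h : Ord G) {p : ℕ} (hp : p = 3 ∨ p = 5) {g b : G} (hb : b ^ p = 1)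
    (hb1 : b ≠ 1) (hg : g * b * g⁻¹ = b⁻¹) (P : Sylow p G) :
    (∀ x ∈ (P : Subgroup G), x ≠ 1 → centralizer ({x} : Set G) = P) ∧
    ∃ t : G, t * t = 1 ∧ t ≠ 1 ∧ ∀ x ∈ (P : Subgroup G), t * x * t = x⁻¹ := by
  have : Fact p.Prime := ⟨by rcases hp with rfl | rfl <;> norm_num⟩
  obtain ⟨ht, ht1⟩ := h.sq_of_inverts hp hb hb1 hg
  have hti : g⁻¹ = g := inv_eq_of_mul_eq_one_right ht
  rw [hti] at hg
  have hC := h.centralizer_isPGroup hp hb hb1
  obtain ⟨Q, hQ⟩ := hC.exists_le_sylow
  have hbC : b ∈ centralizer ({b} : Set G) := mem_centralizer_singleton_iff.2 rfl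
  have hfix : ∀ v : G, v ^ p = 1 → g * v * g = v → v = 1 := fun v hv e => by
    by_contra hv1
    have hc : Commute v g := by
      show v * g = g * v
      calc v * g = g * v * g * g := by rw [e]
        _ = g * v := by rw [mul_assoc, ht, mul_one]
    have hgp := h.commute_prime hp (orderOf_of_pow hp hv hv1) hc
    refine ht1 ?_
    have h2 : g ^ 2 = 1 := by rw [pow_two, ht]
    have := pow_gcd_eq_one.2 ⟨h2, hgp⟩
    rwa [show Nat.gcd 2 p = 1 by rcases hp with rfl | rfl <;> norm_num, pow_one] at this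
  -- the centraliser of `b` is inverted
  have hinvC : ∀ v ∈ centralizer ({b} : Set G), g * v * g = v⁻¹ := by
    refine inverts_of_fpf ht (fun v hv => ?_) fun v hv => hfix v (h.pow_eq_one_of_isPGroup hp hC hv)
    have hcv : Commute v b := mem_centralizer_singleton_iff.1 hv
    have h3 : Commute (g * v * g) b⁻¹ := by
      rw [← hg]
      have := hcv.map (MulAut.conj g).toMonoidHom
      simpa [hti] using this
    have h4 : Commute (g * v * g) b := by simpa using h3.inv_right
    exact mem_centralizer_singleton_iff.2 h4.eq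
  -- a central element of a Sylow subgroup
  obtain ⟨z, hzQ, hz1, hzc⟩ : ∃ z ∈ (Q : Subgroup G), z ≠ 1 ∧ ∀ x ∈ (Q : Subgroup G), x * z = z * x := by
    have : Nontrivial (Q : Subgroup G) :=
      (nontrivial_iff_ne_bot _).2 fun e => hb1 (by simpa [e] using hQ hbC)
    have := Q.isPGroup'.center_nontrivial
    obtain ⟨⟨⟨z, hz⟩, hzc⟩, hne⟩ := exists_ne (1 : center (Q : Subgroup G))
    exact ⟨z, hz, fun e => hne (Subtype.ext (Subtype.ext e)),
      fun x hx => congrArg Subtype.val (mem_center_iff.1 hzc ⟨x, hx⟩)⟩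
  have hzp := h.pow_eq_one_of_isPGroup hp Q.isPGroup' hzQ
  have hzinv : g * z * g = z⁻¹ := hinvC z (mem_centralizer_singleton_iff.2 (hzc b (hQ hbC)).symm)
  have hCz : centralizer ({z} : Set G) = Q :=
    Q.is_maximal' (h.centralizer_isPGroup hp hzp hz1) fun x hx =>
      mem_centralizer_singleton_iff.2 (hzc x hx)
  have hinvQ : ∀ v ∈ (Q : Subgroup G), g * v * g = v⁻¹ := by
    refine inverts_of_fpf ht (fun v hv => ?_) fun v hv => hfix v (h.pow_eq_one_of_isPGroup hp Q.isPGroup' hv)
    rw [← hCz, mem_centralizer_singleton_iff]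
    have h3 : Commute (g * v * g) z⁻¹ := by
      rw [← hzinv]
      have hvz : Commute v z := hzc v hv
      have := hvz.map (MulAut.conj g).toMonoidHom
      simpa [hti] using this
    simpa using h3.inv_right.eq
  have hcommQ : ∀ x ∈ (Q : Subgroup G), ∀ y ∈ (Q : Subgroup G), x * y = y * x := fun x hx y hy => by
    have h3 := hinvQ (x * y) (mul_mem hx hy)
    rw [show g * (x * y) * g = (g * x * g) * (g * y * g) by
        simp only [mul_assoc]; rw [← mul_assoc g g, ht, one_mul],
      hinvQ x hx, hinvQ y hy, ← mul_inv_rev, inv_inj] at h3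
    exact h3.symm
  have hQC : ∀ x ∈ (Q : Subgroup G), x ≠ 1 → centralizer ({x} : Set G) = Q := fun x hx hx1 =>
    Q.is_maximal' (h.centralizer_isPGroup hp (h.pow_eq_one_of_isPGroup hp Q.isPGroup' hx) hx1)
      fun y hy => mem_centralizer_singleton_iff.2 (hcommQ y hy x hx)
  -- transport
  obtain ⟨k, hk⟩ := MulAction.exists_smul_eq G Q P
  have hmem : ∀ x : G, x ∈ (P : Subgroup G) ↔ k⁻¹ * x * k ∈ (Q : Subgroup G) := fun x => by
    rw [← hk, Sylow.coe_subgroup_smul, Subgroup.mem_pointwise_smul_iff_inv_smul_mem]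
    simp [MulAut.smul_def, mul_assoc]
  refine ⟨fun x hx hx1 => ?_, k * g * k⁻¹, ?_, ?_, fun x hx => ?_⟩
  · have hy := (hmem x).1 hx
    have hy1 : k⁻¹ * x * k ≠ 1 := fun e => hx1 (by
      calc x = k * (k⁻¹ * x * k) * k⁻¹ := by group
        _ = 1 := by rw [e]; group)
    ext y
    rw [hmem y, ← hQC _ hy hy1, mem_centralizer_singleton_iff, mem_centralizer_singleton_iff]
    constructor
    · intro e
      calc k⁻¹ * y * k * (k⁻¹ * x * k) = k⁻¹ * (y * x) * k := by group
        _ = k⁻¹ * (x * y) * k := by rw [e]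
        _ = k⁻¹ * x * k * (k⁻¹ * y * k) := by group
    · intro e
      calc y * x = k * (k⁻¹ * y * k * (k⁻¹ * x * k)) * k⁻¹ := by group
        _ = k * (k⁻¹ * x * k * (k⁻¹ * y * k)) * k⁻¹ := by rw [e]
        _ = x * y := by group
  · calc k * g * k⁻¹ * (k * g * k⁻¹) = k * (g * g) * k⁻¹ := by group
      _ = 1 := by rw [ht]; group
  · simpa using ht1
  · calc k * g * k⁻¹ * x * (k * g * k⁻¹) = k * (g * (k⁻¹ * x * k) * g) * k⁻¹ := by group
      _ = k * (k⁻¹ * x * k)⁻¹ * k⁻¹ := by rw [hinvQ _ ((hmem x).1 hx)]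
      _ = x⁻¹ := by group

omit [Finite G] in
theorem s4_word {a b : G} (h1 : a * a = 1) (h3 : b * b * b = 1)
    (h4 : (a * b) * (a * b) * ((a * b) * (a * b)) = 1) :
    (a * b * a * (b * b) * a * b) * b * (a * b * a * (b * b) * a * b)⁻¹ = b⁻¹ := by
  have hb : b⁻¹ = b * b := inv_eq_of_mul_eq_one_right (by rw [← mul_assoc, h3])
  have ha : a⁻¹ = a := inv_eq_of_mul_eq_one_right h1
  have e1 : ∀ c, a * (a * c) = c := fun c => by rw [← mul_assoc, h1, one_mul]
  have e3 : ∀ c, b * (b * (b * c)) = c := fun c => by rw [← mul_assoc, ← mul_assoc, h3, one_mul]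
  have hX : a * b * (a * b) = b * b * a * (b * b * a) := by
    have := inv_eq_of_mul_eq_one_right h4
    rw [← this, mul_inv_rev, mul_inv_rev, ha, hb]
  set w := a * b * a * (b * b) * a * b with hw
  have hww : w * w = 1 := by
    calc w * w = a * b * a * (b * b) * (a * b * (a * b)) * (a * (b * b) * a * b) := by
          simp only [hw, mul_assoc]
      _ = a * b * a * (b * b) * (b * b * a * (b * b * a)) * (a * (b * b) * a * b) := by rw [hX]
      _ = (a * b) * (a * b) * ((a * b) * (a * b)) := by simp only [mul_assoc, e1, e3]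
      _ = 1 := h4
  have hwb : w * b * w = b * b := by
    calc w * b * w = a * b * a * (b * b * a * (b * b * a)) * b * a * (b * b) * a * b := by
          simp only [hw, mul_assoc]
      _ = a * b * a * (a * b * (a * b)) * b * a * (b * b) * a * b := by rw [hX]
      _ = a * ((b * b * a) * ((b * b * a) * (b * b * a))) * b := by simp only [mul_assoc, e1, e3]
      _ = a * ((b * b * a * (b * b * a)) * (b * b * a)) * b := by simp only [mul_assoc]
      _ = a * ((a * b * (a * b)) * (b * b * a)) * b := by rw [hX]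
      _ = b * a * a * b := by simp only [mul_assoc, e1, e3, h1, mul_one]
      _ = b * b := by simp only [mul_assoc, e1]
  rw [inv_eq_of_mul_eq_one_right hww, hb, hwb]

theorem k5_real : ∃ k : Matrix.SpecialLinearGroup (Fin 2) (ZMod 5),
    k * Cfsg.Agent.Classical.A5InPSL.x₁ * k⁻¹ = Cfsg.Agent.Classical.A5InPSL.x₁⁻¹ := by decide +kernel

/-- Without inverted elements of order three, involutions preserve the set of such elements. -/
theorem Ord.orderOf_mul_three (h : Ord G)
    (hno : ∀ g b : G, b ^ 3 = 1 → b ≠ 1 → g * b * g⁻¹ ≠ b⁻¹) {a b : G} (ha : a * a = 1)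
    (ha1 : a ≠ 1) (hb : b ^ 3 = 1) (hb1 : b ≠ 1) : (a * b) ^ 3 = 1 ∧ a * b ≠ 1 := by
  have hai : a⁻¹ = a := inv_eq_of_mul_eq_one_right ha
  have hne : a * b ≠ 1 := fun e => by
    have hab : b = a := by rw [← hai]; exact eq_inv_of_mul_eq_one_right e
    have h2 : a ^ 2 = 1 := by rw [pow_two, ha]
    rw [hab] at hb
    have := pow_gcd_eq_one.2 ⟨h2, hb⟩
    norm_num at this
    exact ha1 this
  refine ⟨?_, hne⟩
  obtain ⟨k, hk, -, hk1, hk5⟩ := h.dvd_cases (pow_orderOf_eq_one (a * b))
  have hp := hk ▸ pow_orderOf_eq_one (a * b)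
  interval_cases k
  · exact absurd (orderOf_eq_one_iff.1 hk) hne
  · rw [pow_two] at hp
    refine absurd ?_ (hno a b hb hb1)
    rw [hai]
    exact eq_inv_of_mul_eq_one_left (by simpa [mul_assoc] using hp)
  · exact hp
  · refine absurd (s4_word ha ?_ ?_) (hno _ b hb hb1)
    · rw [← hb, pow_succ, pow_two]
    · rw [← pow_two, ← pow_two, ← pow_mul]
      exact hp
  · obtain ⟨k, hk⟩ := k5_real
    obtain ⟨φ, hφx, -, -⟩ := Cfsg.Agent.Classical.A5InPSL.exists_hom (x := b) (y := (a * b)⁻¹) hb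
      (by rw [inv_pow, hp, inv_one])
      (by rw [mul_inv_rev, mul_inv_cancel_left, hai, pow_two, ha])
    exact absurd (by rw [← hφx, ← map_inv, ← map_inv, ← map_mul, ← map_mul, hk]) (hno (φ k) b hb hb1)

/-- A simple group with elements of orders two and three inverts an element of order three. -/
theorem Ord.exists_inverted_three [IsSimpleGroup G] (h : Ord G) {a b : G} (ha : a * a = 1)
    (ha1 : a ≠ 1) (hb : b ^ 3 = 1) (hb1 : b ≠ 1) :
    ∃ g c : G, c ^ 3 = 1 ∧ c ≠ 1 ∧ g * c * g⁻¹ = c⁻¹ := by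
  by_contra! hno
  have htop : closure (Group.conjugatesOfSet ({a} : Set G)) = ⊤ := by
    refine (IsSimpleGroup.eq_bot_or_eq_top_of_normal (normalClosure ({a} : Set G))
      inferInstance).resolve_left fun e => ha1 ?_
    have : a ∈ normalClosure ({a} : Set G) := subset_normalClosure rfl
    rwa [e, mem_bot] at this
  have key : ∀ g ∈ closure (Group.conjugatesOfSet ({a} : Set G)),
      ∀ c : G, c ^ 3 = 1 → c ≠ 1 → (g * c) ^ 3 = 1 ∧ g * c ≠ 1 := by
    intro g hg
    have hinv : ∀ x ∈ Group.conjugatesOfSet ({a} : Set G), x * x = 1 ∧ x ≠ 1 := by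
      intro x hx
      obtain ⟨a', rfl, hc⟩ := Group.mem_conjugatesOfSet_iff.1 hx
      obtain ⟨k, rfl⟩ := isConj_iff.1 hc
      refine ⟨?_, by simpa using ha1⟩
      calc k * a' * k⁻¹ * (k * a' * k⁻¹) = k * (a' * a') * k⁻¹ := by group
        _ = 1 := by rw [ha]; group
    induction hg using closure_induction_left with
    | one => intro c hc hc1; rw [one_mul]; exact ⟨hc, hc1⟩
    | mul_left x hx y _ ih =>
      intro c hc hc1
      rw [mul_assoc]
      exact h.orderOf_mul_three hno (hinv x hx).1 (hinv x hx).2 (ih c hc hc1).1 (ih c hc hc1).2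
    | inv_mul_cancel x hx y _ ih =>
      intro c hc hc1
      rw [inv_eq_of_mul_eq_one_right (hinv x hx).1, mul_assoc]
      exact h.orderOf_mul_three hno (hinv x hx).1 (hinv x hx).2 (ih c hc hc1).1 (ih c hc hc1).2
  exact (key b⁻¹ (by rw [htop]; exact mem_top _) b hb hb1).2 (inv_mul_cancel b)

end Cfsg.Agent.SpecFive
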