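import Cfsg.Agent.SpecFive.Basic
import Cfsg.Agent.S3992
import Cfsg.Agent.Invol.UniqueInvolution
import Mathlib.GroupTheory.Nilpotent
import Cfsg.Prelude.Def_OddOrderLocal

/-!
Sylow normalisers for the primes three and five in groups without elements of order above five.
-/

set_option autoImplicit false

namespace Cfsg.Agent.SpecFive

open Subgroup

variable {G : Type*} [Group G] [Finite G]

/-- Some element of order `p` is inverted. -/
def Inverted (p : ℕ) (G : Type*) [Group G] : Prop :=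
  ∃ g b : G, b ^ p = 1 ∧ b ≠ 1 ∧ g * b * g⁻¹ = b⁻¹

theorem Ord.prime_cases (h : Ord G) {q : ℕ} (hq : q.Prime) (hd : q ∣ Nat.card G) :
    q = 2 ∨ q = 3 ∨ q = 5 := by
  have : Fact q.Prime := ⟨hq⟩
  obtain ⟨g, hg⟩ := exists_prime_orderOf_dvd_card' q hd
  have := h g
  rw [hg] at this
  interval_cases q <;> simp_all (config := { decide := true })

/-- A normal-ised nontrivial `p`-group bounds the Sylow subgroups of the other odd primes. -/
theorem Ord.le_of_normalises (h : Ord G) {p s : ℕ} [Fact p.Prime] (hs : s = 3 ∨ s = 5) (hsp : s ≠ p)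
    {V A : Subgroup G} (hV : IsPGroup p V) (hV1 : V ≠ ⊥) (hA : IsPGroup s A)
    (hAV : A ≤ normalizer (V : Set G)) : Nat.card A ∣ s := by
  have hsp' : s.Prime := by rcases hs with rfl | rfl <;> norm_num
  have : Fact s.Prime := ⟨hsp'⟩
  obtain ⟨k, hk⟩ := IsPGroup.iff_card.1 hA
  by_contra hnd
  have hk2 : 2 ≤ k := by
    by_contra hlt
    exact hnd (hk ▸ (pow_dvd_pow s (show k ≤ 1 by omega)).trans (by rw [pow_one]))
  obtain ⟨B, hB⟩ := Sylow.exists_subgroup_card_pow_prime s (n := 2)
    (show s ^ 2 ∣ Nat.card A from hk ▸ pow_dvd_pow s hk2)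
  -- the centre of `V`
  set Z : Subgroup G := (center V).map V.subtype with hZ
  have hNZ : normalizer (V : Set G) ≤ normalizer (Z : Set G) := by
    intro g hg
    rw [mem_normalizer_iff]
    have hmem : ∀ x, x ∈ Z ↔ x ∈ V ∧ ∀ y ∈ V, y * x = x * y := by
      intro x
      simp only [hZ, mem_map, mem_center_iff, Subtype.forall, Subtype.exists, Subgroup.coe_subtype,
        MulMemClass.mk_mul_mk, Subtype.mk.injEq]
      exact ⟨fun ⟨a, ha, hc, e⟩ => e ▸ ⟨ha, hc⟩, fun ⟨ha, hc⟩ => ⟨x, ha, hc, rfl⟩⟩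
    intro x
    rw [hmem, hmem, (mem_normalizer_iff.1 hg x).symm]
    refine and_congr Iff.rfl ⟨fun hc y hy => ?_, fun hc y hy => ?_⟩
    · have hy' : g⁻¹ * y * g ∈ V := by
        rw [mem_normalizer_iff.1 hg]
        simpa [mul_assoc] using hy
      calc y * (g * x * g⁻¹) = g * ((g⁻¹ * y * g) * x) * g⁻¹ := by group
        _ = g * (x * (g⁻¹ * y * g)) * g⁻¹ := by rw [hc _ hy']
        _ = g * x * g⁻¹ * y := by group
    · have hy' : g * y * g⁻¹ ∈ V := (mem_normalizer_iff.1 hg y).1 hy
      calc y * x = g⁻¹ * (g * y * g⁻¹ * (g * x * g⁻¹)) * g := by group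
        _ = g⁻¹ * (g * x * g⁻¹ * (g * y * g⁻¹)) * g := by rw [hc _ hy']
        _ = x * y := by group
  have hZp : IsPGroup p Z := hV.to_le (by rw [hZ]; exact map_subtype_le _)
  have hZ1 : Z ≠ ⊥ := by
    have : Nontrivial V := (nontrivial_iff_ne_bot _).2 hV1
    have := hV.center_nontrivial
    rw [hZ, ne_eq, Subgroup.map_eq_bot_iff_of_injective _ (subtype_injective V)]
    exact (nontrivial_iff_ne_bot _).1 this
  have : IsMulCommutative Z := ⟨⟨fun a b => by
    obtain ⟨a', ha', e⟩ := mem_map.1 a.2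
    obtain ⟨b', hb', e'⟩ := mem_map.1 b.2
    refine Subtype.ext ?_
    show (a : G) * b = b * a
    rw [← e, ← e']
    exact congrArg Subtype.val (mem_center_iff.1 hb' a')⟩⟩
  let _ : CommGroup Z := { (inferInstance : Group Z) with mul_comm := fun a b => IsMulCommutative.is_comm.comm a b }
  let φ : B →* MulAut Z := (Z.normalizerMonoidHom).comp
    ((inclusion (hAV.trans hNZ)).comp B.subtype)
  obtain ⟨z, hz, hz1⟩ := (bot_or_exists_ne_one Z).resolve_left hZ1
  have hexp : ∀ x : B, x ^ s = 1 := fun x => Subtype.ext (Subtype.ext (by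
    simpa using h.pow_eq_one_of_isPGroup hs hA (x : A).2))
  refine hz1 (congrArg Subtype.val (Cfsg.Agent.S3992.eq_one_of_fpf_elementary (K := B) (V := Z) Fact.out hsp' hsp
    (by rw [hB, pow_two]) hexp hZp φ (fun x hx v hv => ?_) (⟨z, hz⟩ : Z)))
  by_contra hv1
  have hv' : ((x : A) : G) * (v : G) * ((x : A) : G)⁻¹ = v := congrArg Subtype.val hv
  have hc : Commute ((x : A) : G) (v : G) := mul_inv_eq_iff_eq_mul.1 hv'
  have hxs : ((x : A) : G) ^ s = 1 := h.pow_eq_one_of_isPGroup hs hA (x : A).2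
  have hvs := h.commute_prime hs (orderOf_of_pow hs hxs fun e => hx (Subtype.ext (Subtype.ext e))) hc
  obtain ⟨j, hj⟩ := IsPGroup.iff_orderOf.1 hZp v
  have h2 : orderOf v ∣ s := orderOf_dvd_of_pow_eq_one (Subtype.ext (by simpa using hvs))
  rw [hj] at h2
  rcases Nat.eq_zero_or_pos j with hj0 | hj0
  · rw [hj0, pow_zero] at hj
    exact hv1 (orderOf_eq_one_iff.1 hj)
  · exact hsp ((Nat.prime_dvd_prime_iff_eq Fact.out hsp').1 ((dvd_pow_self p (by omega)).trans h2)).symm

/-- The normaliser of an inverted Sylow subgroup. -/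
theorem Ord.normalizer_of_inverted (h : Ord G) {p : ℕ} [Fact p.Prime] (hp : p = 3 ∨ p = 5)
    (hI : Inverted p G) (P : Sylow p G) (hP1 : (P : Subgroup G) ≠ ⊥) :
    (P : Subgroup G).relIndex (normalizer ((P : Subgroup G) : Set G)) ∈ ({2, 4, 8} : Finset ℕ) := by
  obtain ⟨g, b, hb, hb1, hg⟩ := hI
  obtain ⟨hC, t, ht, ht1, hinv⟩ := h.sylow_of_inverted hp hb hb1 hg P
  have hfix : ∀ u : G, u * u = 1 → ∀ x ∈ (P : Subgroup G), x ≠ 1 → u * x * u = x → u = 1 := by
    intro u hu x hx hx1 e
    have hc : Commute x u := by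
      show x * u = u * x
      calc x * u = u * x * u * u := by rw [e]
        _ = u * x := by rw [mul_assoc, hu, mul_one]
    have h1 := h.commute_prime hp (orderOf_of_pow hp (h.pow_eq_one_of_isPGroup hp P.isPGroup' hx) hx1) hc
    have h2 : u ^ 2 = 1 := by rw [pow_two, hu]
    have := pow_gcd_eq_one.2 ⟨h2, h1⟩
    rwa [show Nat.gcd 2 p = 1 by rcases hp with rfl | rfl <;> norm_num, pow_one] at this
  have hti : t⁻¹ = t := inv_eq_of_mul_eq_one_right ht
  set N := normalizer ((P : Subgroup G) : Set G) with hN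
  have htN : t ∈ N := by
    rw [hN, mem_normalizer_iff]
    intro x
    rw [hti]
    refine ⟨fun hx => hinv x hx ▸ inv_mem hx, fun hx => ?_⟩
    have := hinv _ hx
    rw [show t * (t * x * t) * t = x by simp only [mul_assoc, ht, mul_one]; rw [← mul_assoc, ht, one_mul]] at this
    rw [this]
    exact inv_mem hx
  set P' := (P : Subgroup G).subgroupOf N with hP'
  have : P'.Normal := normal_in_normalizer
  rw [show (P : Subgroup G).relIndex N = Nat.card (N ⧸ P') by rw [← index_eq_card]; rfl]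
  set π := QuotientGroup.mk' P' with hπ
  have hker : ∀ n : N, π n = 1 ↔ (n : G) ∈ (P : Subgroup G) := fun n => by
    rw [hπ, QuotientGroup.mk'_apply, QuotientGroup.eq_one_iff, mem_subgroupOf]
  -- lifts of involutions
  have hlift : ∀ n : N, π n * π n = 1 → π n ≠ 1 → π n = π ⟨t, htN⟩ := by
    intro n hn hn1
    have hn2 : (n : G) * n ∈ (P : Subgroup G) := (hker (n * n)).1 (by rw [map_mul, hn])
    have hn2p : ((n : G) * n) ^ p = 1 := h.pow_eq_one_of_isPGroup hp P.isPGroup' hn2
    have hne : (n : G) ∉ (P : Subgroup G) := fun e => hn1 ((hker n).2 e)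
    obtain ⟨k, hk, hkd, hk1, hk5⟩ := h.dvd_cases (show (n : G) ^ (2 * p) = 1 by rw [pow_mul, pow_two, hn2p])
    have hnn : (n : G) * n = 1 := by
      by_contra hne2
      have hnotp : ¬ (n : G) ^ p = 1 := fun hnp => hne (by
        have h3 : (n : G) = ((n : G) * n) ^ ((p + 1) / 2) := by
          rw [← pow_two, ← pow_mul, show 2 * ((p + 1) / 2) = p + 1 by rcases hp with rfl | rfl <;> norm_num,
            pow_succ, hnp, one_mul]
        rw [h3]
        exact pow_mem hn2 _)
      have hnot2 : k ≠ 2 ∧ k ≠ 1 ∧ k ≠ p := ⟨fun e => hne2 (by rw [← pow_two, ← e, ← hk, pow_orderOf_eq_one]),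
        fun e => hne2 (by rw [orderOf_eq_one_iff.1 (hk.trans e), one_mul]),
        fun e => hnotp (by rw [← e, ← hk, pow_orderOf_eq_one])⟩
      rcases hp with rfl | rfl <;> interval_cases k <;> omega
    have hn' : ∀ x ∈ (P : Subgroup G), (n : G) * x * n ∈ (P : Subgroup G) := fun x hx => by
      have := (mem_normalizer_iff.1 n.2 x).1 hx
      rwa [inv_eq_of_mul_eq_one_right hnn] at this
    have hinvn := inverts_of_fpf hnn hn' fun x hx e => by
      by_contra hx1
      exact hne (by rw [hfix _ hnn x hx hx1 e]; exact one_mem _)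
    obtain ⟨x, hx, hx1⟩ := (bot_or_exists_ne_one (P : Subgroup G)).resolve_left hP1
    have hmem : t * (n : G) ∈ (P : Subgroup G) := by
      rw [← hC x hx hx1, mem_centralizer_singleton_iff]
      have h1 := hinvn x hx
      have h2 := hinv _ (inv_mem hx)
      rw [inv_inv] at h2
      calc t * (n : G) * x = t * (n * x * n) * n := by
            simp only [mul_assoc]; rw [hnn, mul_one]
        _ = t * x⁻¹ * n := by rw [h1]
        _ = (t * x⁻¹ * t) * (t * n) := by simp only [mul_assoc]; rw [← mul_assoc t t, ht, one_mul]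
        _ = x * (t * n) := by rw [h2]
    have : π (⟨t, htN⟩ * n) = 1 := (hker _).2 hmem
    rw [map_mul] at this
    calc π n = π n * (π ⟨t, htN⟩ * π n) := by rw [this, mul_one]
      _ = π n * π ⟨t, htN⟩ * π n := (mul_assoc _ _ _).symm
      _ = π ⟨t, htN⟩ := by
        rw [eq_inv_of_mul_eq_one_left this, inv_mul_cancel_right, eq_comm, inv_eq_iff_mul_eq_one, hn]
  set τ := π ⟨t, htN⟩
  have hτ : τ * τ = 1 := by
    rw [← map_mul, show (⟨t, htN⟩ * ⟨t, htN⟩ : N) = 1 from Subtype.ext ht, map_one]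
  have hτ1 : τ ≠ 1 := fun e => by
    have htP := (hker _).1 e
    obtain ⟨x, hx, hx1⟩ := (bot_or_exists_ne_one (P : Subgroup G)).resolve_left hP1
    exact ht1 (hfix t ht x hx hx1 (by
      have h1 : t ∈ centralizer ({x} : Set G) := by rw [hC x hx hx1]; exact htP
      rw [mem_centralizer_singleton_iff.1 h1, mul_assoc, ht, mul_one]))
  have huniq : ∀ u : N ⧸ P', orderOf u = 2 → u = τ := by
    intro u hu
    induction u using QuotientGroup.induction_on with
    | H n =>
      refine hlift n ?_ ?_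
      · have := pow_orderOf_eq_one (π n)
        rwa [show orderOf (π n) = 2 from hu, pow_two] at this
      · intro e
        have h1 : orderOf (π n) = 2 := hu
        rw [e, orderOf_one] at h1
        omega
  have hcen : ∀ u : N ⧸ P', Commute τ u := by
    intro u
    have h1 : orderOf (u * τ * u⁻¹) = 2 := by
      rw [show u * τ * u⁻¹ = MulAut.conj u τ by simp, MulEquiv.orderOf_eq]
      exact orderOf_eq_prime (by rw [pow_two, hτ]) hτ1
    exact (mul_inv_eq_iff_eq_mul.1 (huniq _ h1)).symm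
  have hle5 : ∀ u : N ⧸ P', orderOf u ≤ 5 := (h.subgroup N).quotient P'
  have hcop : ∀ u : N ⧸ P', ¬ p ∣ orderOf u := fun u hu => by
    have h1 : ¬ p ∣ P'.index := by
      show ¬ p ∣ (P : Subgroup G).relIndex N
      intro hd
      refine P.not_dvd_index ?_
      rw [← relIndex_mul_index (le_normalizer (H := (P : Subgroup G)))]
      exact hd.mul_right _
    rw [index_eq_card] at h1
    exact h1 (hu.trans (orderOf_dvd_natCard u))
  have h2grp : IsPGroup 2 (N ⧸ P') := by
    have : Fact (Nat.Prime 2) := ⟨Nat.prime_two⟩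
    rw [IsPGroup.iff_orderOf]
    intro u
    have h1 := hle5 u
    have h0 := orderOf_pos u
    have hodd : ¬ (orderOf u = 3 ∨ orderOf u = 5) := by
      intro ho
      have hc := hle5 (τ * u)
      rw [(hcen u).orderOf_mul_eq_mul_orderOf_of_coprime (by
        rw [orderOf_eq_prime (by rw [pow_two, hτ]) hτ1]
        rcases ho with e | e <;> rw [e] <;> norm_num)] at hc
      rw [orderOf_eq_prime (by rw [pow_two, hτ]) hτ1] at hc
      omega
    rcases (show orderOf u = 1 ∨ orderOf u = 2 ∨ orderOf u = 4 by omega) with e | e | e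
    · exact ⟨0, e⟩
    · exact ⟨1, e⟩
    · exact ⟨2, e⟩
  have hu2 : ∀ x y : N ⧸ P', orderOf x = 2 → orderOf y = 2 → x = y := fun x y hx hy =>
    (huniq x hx).trans (huniq y hy).symm
  have : Nontrivial (N ⧸ P') := ⟨⟨τ, 1, hτ1⟩⟩
  obtain ⟨j, hj⟩ := IsPGroup.iff_card.1 h2grp
  have hj3 : j ≤ 3 := by
    by_cases hc : IsCyclic (N ⧸ P')
    · obtain ⟨u, hu⟩ := hc.exists_generator
      have := hle5 u
      rw [orderOf_eq_card_of_forall_mem_zpowers hu, hj] at this
      by_contra hj4
      have : 2 ^ 4 ≤ 2 ^ j := Nat.pow_le_pow_right two_pos (by omega)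
      omega
    · obtain ⟨a, k, -, ha, hi, -⟩ := Cfsg.Agent.Invol.exists_cyclic_index_two h2grp hu2 hc
      have h5 := hle5 a
      have := (zpowers a).card_mul_index
      rw [hi, Nat.card_zpowers, hj] at this
      by_contra hj4
      have : 2 ^ 4 ≤ 2 ^ j := Nat.pow_le_pow_right two_pos (by omega)
      omega
  have hj1 : 1 ≤ j := by
    have := Finite.one_lt_card (α := N ⧸ P')
    rw [hj] at this
    by_contra hj0
    rw [show j = 0 by omega] at this
    simp at this
  rw [hj]
  interval_cases j <;> simp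

variable {R : Sylow 5 G}

theorem Ord.no_invol_normaliser (h : Ord G) (hni : ¬ Inverted 5 G) {D : Subgroup G}
    (hD : IsPGroup 5 D) (hD1 : D ≠ ⊥) : Odd (Nat.card (normalizer (D : Set G))) := by
  by_contra hodd
  have : Fact (Nat.Prime 2) := ⟨Nat.prime_two⟩
  have hd : 2 ∣ Nat.card (normalizer (D : Set G)) := (Nat.not_odd_iff_even.1 hodd).two_dvd
  obtain ⟨⟨t, htN⟩, ht⟩ := exists_prime_orderOf_dvd_card' 2 hd
  rw [← Subgroup.orderOf_coe] at ht
  have htt : t * t = 1 := by rw [← pow_two, ← ht, pow_orderOf_eq_one]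
  obtain ⟨x, hx, hx1⟩ := (bot_or_exists_ne_one D).resolve_left hD1
  refine hni ⟨t, x, h.pow_eq_one_of_isPGroup (Or.inr rfl) hD hx, hx1, ?_⟩
  rw [inv_eq_of_mul_eq_one_right htt]
  refine inverts_of_fpf htt (fun v hv => ?_) (fun v hv e => ?_) x hx
  · have := (mem_normalizer_iff.1 htN v).1 hv
    rwa [inv_eq_of_mul_eq_one_right htt] at this
  · by_contra hv1
    have hc : Commute v t := by
      show v * t = t * v
      calc v * t = t * v * t * t := by rw [e]
        _ = t * v := by rw [mul_assoc, htt, mul_one]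
    have h1 := h.commute_prime (Or.inr rfl)
      (orderOf_of_pow (Or.inr rfl) (h.pow_eq_one_of_isPGroup (Or.inr rfl) hD hv) hv1) hc
    have := orderOf_dvd_of_pow_eq_one h1
    rw [show orderOf t = 2 from ht] at this
    norm_num at this

/-- The normaliser of a nontrivial 5-subgroup has a unique Sylow 5-subgroup when nothing is inverted. -/
theorem Ord.card_local (h : Ord G) (hni : ¬ Inverted 5 G) {D : Subgroup G} (hD : IsPGroup 5 D)
    (hD1 : D ≠ ⊥) : ∀ U : Sylow 5 (normalizer (D : Set G)), (U : Subgroup (normalizer (D : Set G))).index ∣ 3 := by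
  set L := normalizer (D : Set G)
  intro U
  have h5 : Fact (Nat.Prime 5) := ⟨Nat.prime_five⟩
  have h3 : Fact (Nat.Prime 3) := ⟨Nat.prime_three⟩
  have hodd := h.no_invol_normaliser hni hD hD1
  have hoL := h.subgroup L
  obtain ⟨T⟩ : Nonempty (Sylow 3 L) := inferInstance
  have hT : Nat.card (T : Subgroup L) ∣ 3 := by
    have h1 := h.le_of_normalises (p := 5) (s := 3) (Or.inl rfl) (by norm_num) hD hD1
      (A := (T : Subgroup L).map L.subtype) (T.isPGroup'.map _) (map_subtype_le _)
    rwa [card_map_of_injective (subtype_injective L)] at h1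
  have hpow := Nat.eq_prime_pow_of_unique_prime_dvd (p := 3) (n := (U : Subgroup L).index)
    index_ne_zero_of_finite (fun {d} hd hdi => by
      rcases hoL.prime_cases hd (hdi.trans (U : Subgroup L).index_dvd_card) with rfl | rfl | rfl
      · exact absurd (hodd.of_dvd_nat (hdi.trans (U : Subgroup L).index_dvd_card)) (by decide)
      · rfl
      · exact absurd hdi U.not_dvd_index)
  rw [hpow]
  exact (T.pow_dvd_card_of_pow_dvd_card (hpow ▸ (U : Subgroup L).index_dvd_card)).trans hT

theorem Ord.unique_local (h : Ord G) (hni : ¬ Inverted 5 G) {D : Subgroup G} (hD : IsPGroup 5 D)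
    (hD1 : D ≠ ⊥) (U : Sylow 5 (normalizer (D : Set G))) :
    (U : Subgroup (normalizer (D : Set G))).Normal := by
  have : Fact (Nat.Prime 5) := ⟨Nat.prime_five⟩
  have h1 := h.card_local hni hD hD1 U
  have h2 := card_sylow_modEq_one 5 (normalizer (D : Set G))
  have h3 := Nat.le_of_dvd (by norm_num) (U.card_dvd_index.trans h1)
  have : Nat.card (Sylow 5 (normalizer (D : Set G))) = 1 := by
    rw [Nat.ModEq] at h2
    omega
  have : Subsingleton (Sylow 5 (normalizer (D : Set G))) := (Nat.card_eq_one_iff_unique.1 this).1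
  exact U.normal_of_subsingleton

/-- Without inversion the Sylow 5-subgroups intersect trivially. -/
theorem Ord.ti_five (h : Ord G) (hni : ¬ Inverted 5 G) (R S : Sylow 5 G) (hne : R ≠ S) :
    (R : Subgroup G) ⊓ S = ⊥ := by
  classical
  have : Fact (Nat.Prime 5) := ⟨Nat.prime_five⟩
  by_contra hne1
  let K := {RS : Sylow 5 G × Sylow 5 G // RS.1 ≠ RS.2 ∧ (RS.1 : Subgroup G) ⊓ RS.2 ≠ ⊥}
  have : Nonempty K := ⟨⟨(R, S), hne, hne1⟩⟩
  obtain ⟨⟨⟨A, B⟩, hAB, hD1⟩, hmax⟩ := Finite.exists_max
    fun x : K => Nat.card ((x.1.1 : Subgroup G) ⊓ x.1.2 : Subgroup G)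
  set D := (A : Subgroup G) ⊓ B with hDdef
  have hDp : IsPGroup 5 D := A.isPGroup'.to_le inf_le_left
  obtain ⟨U⟩ : Nonempty (Sylow 5 (normalizer (D : Set G))) := inferInstance
  have hU := h.unique_local hni hDp hD1 U
  set V := (U : Subgroup (normalizer (D : Set G))).map (normalizer (D : Set G)).subtype
  obtain ⟨W, hW⟩ := (U.isPGroup'.map _ : IsPGroup 5 V).exists_le_sylow
  have key : ∀ T : Sylow 5 G, D < (T : Subgroup G) → W = T := by
    intro T hlt
    by_contra hWT
    have hnil : Group.IsNilpotent (T : Subgroup G) := T.isPGroup'.isNilpotent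
    have hlt' : D.subgroupOf (T : Subgroup G) < ⊤ := by
      rw [lt_top_iff_ne_top, ne_eq, subgroupOf_eq_top]
      exact hlt.not_ge
    have h1 := (Group.normalizerCondition_of_isNilpotent (G := (T : Subgroup G))) _ hlt'
    obtain ⟨x, hxN, hxD⟩ := SetLike.exists_of_lt h1
    have hxG : (x : G) ∈ normalizer (D : Set G) := by
      rw [mem_normalizer_iff]
      intro y
      rw [mem_normalizer_iff] at hxN
      constructor
      · intro hy
        simpa [mem_subgroupOf] using (hxN ⟨y, hlt.le hy⟩).1 hy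
      · intro hy
        have hy' : y ∈ (T : Subgroup G) := by
          have := mul_mem (mul_mem (inv_mem x.2) (hlt.le hy)) x.2
          simpa [mul_assoc] using this
        simpa [mem_subgroupOf] using (hxN ⟨y, hy'⟩).2 (by simpa [mem_subgroupOf] using hy)
    have hmem : ∀ y ∈ normalizer (D : Set G), y ∈ (T : Subgroup G) → y ∈ (W : Subgroup G) := by
      intro y hy hyT
      refine hW ⟨⟨y, hy⟩, ?_, rfl⟩
      have hp : IsPGroup 5 (zpowers (⟨y, hy⟩ : normalizer (D : Set G))) := by
        rw [IsPGroup.iff_card]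
        obtain ⟨k, hk⟩ := IsPGroup.iff_orderOf.1 T.isPGroup' ⟨y, hyT⟩
        refine ⟨k, ?_⟩
        rw [Nat.card_zpowers, ← Subgroup.orderOf_coe, ← hk, ← Subgroup.orderOf_coe]
      have hsup := U.is_maximal' (hp.to_sup_of_normal_right U.isPGroup') le_sup_right
      exact hsup ▸ le_sup_left (α := Subgroup _) (mem_zpowers _)
    have hbig : D < (W : Subgroup G) ⊓ T := by
      refine lt_of_le_of_ne (le_inf (fun y hy => hmem y (le_normalizer hy) (hlt.le hy)) hlt.le) fun e => ?_
      exact hxD (mem_subgroupOf.2 (e.symm ▸ ⟨hmem x hxG x.2, x.2⟩ : (x : G) ∈ D))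
    have hne2 : (W : Subgroup G) ⊓ T ≠ ⊥ := ne_bot_of_gt hbig
    have hle := hmax ⟨(W, T), hWT, hne2⟩
    have : Nat.card D < Nat.card ((W : Subgroup G) ⊓ T : Subgroup G) := by
      by_contra hge
      exact hbig.ne (eq_of_le_of_card_ge hbig.le (not_lt.1 hge))
    exact absurd hle (not_le.2 this)
  have hA : D < (A : Subgroup G) := lt_of_le_of_ne inf_le_left fun e =>
    hAB (Sylow.ext ((A.is_maximal' B.isPGroup' (inf_eq_left.1 e)).symm))
  have hB : D < (B : Subgroup G) := lt_of_le_of_ne inf_le_right fun e =>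
    hAB (Sylow.ext (B.is_maximal' A.isPGroup' (inf_eq_right.1 e)))
  exact hAB ((key A hA).symm.trans (key B hB))

/-- The normaliser of a Sylow 5-subgroup without inversion. -/
theorem Ord.normalizer_five (h : Ord G) (hni : ¬ Inverted 5 G) (R : Sylow 5 G)
    (hR1 : (R : Subgroup G) ≠ ⊥) :
    ((R : Subgroup G).relIndex (normalizer ((R : Subgroup G) : Set G)) = 1 ∨
      (R : Subgroup G).relIndex (normalizer ((R : Subgroup G) : Set G)) = 3) ∧
      Odd (Nat.card (normalizer ((R : Subgroup G) : Set G))) := by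
  have : Fact (Nat.Prime 5) := ⟨Nat.prime_five⟩
  refine ⟨?_, h.no_invol_normaliser hni R.isPGroup' hR1⟩
  have h1 := h.card_local hni R.isPGroup' hR1 (R.subtype le_normalizer)
  exact (Nat.dvd_prime Nat.prime_three).1 h1

/-- A Sylow 5-subgroup with trivial automiser gives a normal complement. -/
theorem Ord.centralizer_le_five (h : Ord G) (hni : ¬ Inverted 5 G) (R : Sylow 5 G) :
    ∀ x ∈ (R : Subgroup G), x ≠ 1 → centralizer ({x} : Set G) ≤ R := by
  intro x hx hx1
  have : Fact (Nat.Prime 5) := ⟨Nat.prime_five⟩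
  have hp := h.centralizer_isPGroup (Or.inr rfl) (h.pow_eq_one_of_isPGroup (Or.inr rfl) R.isPGroup' hx) hx1
  obtain ⟨S, hS⟩ := hp.exists_le_sylow
  by_contra hle
  have hne : S ≠ R := fun e => hle (e ▸ hS)
  have := h.ti_five hni S R hne
  exact hx1 (by
    have h2 : x ∈ (S : Subgroup G) ⊓ R := ⟨hS (mem_centralizer_singleton_iff.2 rfl), hx⟩
    rwa [this, mem_bot] at h2)

theorem Ord.isTI_five (h : Ord G) (hni : ¬ Inverted 5 G) (R : Sylow 5 G) :
    Cfsg.IsTISubset ((R : Subgroup G) : Set G) := by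
  intro g hg x hx hgx
  by_contra hx1
  refine hg ((Sylow.smul_eq_iff_mem_normalizer).1 ?_)
  by_contra hne
  have h1 : g * x * g⁻¹ ∈ ((g • R : Sylow 5 G) : Subgroup G) ⊓ R := by
    refine ⟨?_, hgx⟩
    show g * x * g⁻¹ ∈ ((g • R : Sylow 5 G) : Subgroup G)
    rw [Sylow.coe_subgroup_smul, Subgroup.mem_pointwise_smul_iff_inv_smul_mem]
    simpa [MulAut.smul_def, mul_assoc] using (show x ∈ (R : Subgroup G) from hx)
  rw [h.ti_five hni _ _ hne, mem_bot] at h1
  exact hx1 (conj_eq_one_iff.1 h1)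

end Cfsg.Agent.SpecFive
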