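import Cfsg.Agent.SpecFive.Side
import Cfsg.Agent.SpecFive.Normaliser
import Cfsg.Agent.SmallOrder.ExceptionalOrders

/-!
Degrees forced by the Sylow subgroups for three and five.
-/

set_option autoImplicit false

namespace Cfsg.Agent.SpecFive

open Subgroup
open Cfsg.Agent.CharArith (charDegree_spec)
open scoped ComplexConjugate

universe u

section Data

variable {G : Type u} [Group G] [Fintype G] {r e : ℕ}

theorem deg_one' : charDegree ((one' G : IrrCharacter G) : G → ℂ) = 1 := by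
  have h := charDegree_spec (Char.IsIrr.isCharacter (one' G).2)
  have h1 : ((one' G : IrrCharacter G) : G → ℂ) 1 = 1 := rfl
  rw [h1] at h
  exact_mod_cast h.symm

theorem deg_eq_one_iff [IsSimpleGroup G] (hna : ¬ IsMulCommutative G) (χ : IrrCharacter G) :
    charDegree (χ : G → ℂ) = 1 ↔ χ = one' G := by
  refine ⟨fun h => Subtype.ext ?_, fun h => by rw [h, deg_one']⟩
  refine SmallOrder.linear_trivial hna χ ?_
  rw [charDegree_spec (Char.IsIrr.isCharacter χ.2), h, Nat.cast_one]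

open scoped Classical in
/-- The part of the norm outside the trivial character. -/
theorem Side.norm' (S : Side G r e) :
    ∑ χ ∈ ((Finset.univ : Finset (IrrCharacter G)) \ S.Img).erase (one' G), S.c χ ^ 2 +
      ((S.m : ℤ) * S.A ^ 2 - 2 * S.A) = (e : ℤ) - 1 := by
  have h := S.norm
  rw [← Finset.add_sum_erase _ _ (Finset.mem_sdiff.2 ⟨Finset.mem_univ (one' G), S.one_notMem⟩), S.c_one] at h
  linear_combination h

theorem Side.sq_le (S : Side G r e) {χ : IrrCharacter G} (hχ : χ ∉ S.Img) (h1 : χ ≠ one' G) :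
    S.c χ ^ 2 + ((S.m : ℤ) * S.A ^ 2 - 2 * S.A) ≤ (e : ℤ) - 1 := by
  classical
  have h := S.norm'
  have h2 : S.c χ ^ 2 ≤ ∑ ψ ∈ ((Finset.univ : Finset (IrrCharacter G)) \ S.Img).erase (one' G), S.c ψ ^ 2 :=
    Finset.single_le_sum (f := fun ψ => S.c ψ ^ 2) (fun ψ _ => sq_nonneg _)
      (Finset.mem_erase.2 ⟨h1, Finset.mem_sdiff.2 ⟨Finset.mem_univ _, hχ⟩⟩)
  linarith

theorem Side.A_le (S : Side G r e) : (S.m : ℤ) * S.A ^ 2 - 2 * S.A ≤ (e : ℤ) - 1 := by
  classical
  have h := S.norm'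
  have h2 : 0 ≤ ∑ ψ ∈ ((Finset.univ : Finset (IrrCharacter G)) \ S.Img).erase (one' G), S.c ψ ^ 2 :=
    Finset.sum_nonneg fun ψ _ => sq_nonneg _
  linarith

theorem Side.A_zero (S : Side G r e) (hm : e + 2 ≤ S.m) : S.A = 0 := by
  have h := S.A_le
  by_contra hA
  have h1 : 1 ≤ S.A ^ 2 := by
    have := sq_pos_of_ne_zero hA
    omega
  have h2 : (e : ℤ) + 2 ≤ S.m := by exact_mod_cast hm
  have he : (0 : ℤ) ≤ e := Int.natCast_nonneg e
  have h3 : S.A ≤ S.A ^ 2 := Int.le_self_sq _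
  have h4 : (e : ℤ) * 1 ≤ ((S.m : ℤ) - 2) * S.A ^ 2 :=
    mul_le_mul (by omega) h1 zero_le_one (by omega)
  linarith

open scoped Classical in
/-- A nontrivial character of odd degree in the support. -/
theorem Side.odd_member (S : Side G r e) :
    ∃ χ : IrrCharacter G, χ ≠ one' G ∧ Odd (charDegree (χ : G → ℂ)) ∧ ∃ s : ℤ,
      (r : ℤ) ∣ (charDegree (χ : G → ℂ) : ℤ) - s ∧
      ((Odd s ∧ s ^ 2 + ((S.m : ℤ) * S.A ^ 2 - 2 * S.A) ≤ (e : ℤ) - 1) ∨ s = S.A + e ∨ s = -(S.A + e)) := by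
  by_cases hex : ∃ χ, χ ∉ S.Img ∧ χ ≠ one' G ∧ Odd (S.c χ * (charDegree (χ : G → ℂ) : ℤ))
  · obtain ⟨χ, hχ, h1, hodd⟩ := hex
    rw [Int.odd_mul, Int.odd_coe_nat] at hodd
    exact ⟨χ, h1, hodd.2, S.c χ, S.cong χ hχ, Or.inl ⟨hodd.1, S.sq_le hχ h1⟩⟩
  push Not at hex
  have h := S.relation
  rw [← Finset.add_sum_erase _ _ (Finset.mem_sdiff.2 ⟨Finset.mem_univ (one' G), S.one_notMem⟩), S.c_one,
    deg_one'] at h
  obtain ⟨k, hk⟩ : (2 : ℤ) ∣ ∑ χ ∈ ((Finset.univ : Finset (IrrCharacter G)) \ S.Img).erase (one' G),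
      S.c χ * (charDegree (χ : G → ℂ) : ℤ) := Finset.dvd_sum fun χ hχ =>
    (Int.not_odd_iff_even.1 (hex χ (Finset.mem_sdiff.1 (Finset.mem_erase.1 hχ).2).2
      (Finset.mem_erase.1 hχ).1)).two_dvd
  have hF : Odd (S.F * ((S.m : ℤ) * S.A - 1)) := ⟨-k - 1, by push_cast at h; linarith⟩
  rw [Int.odd_mul] at hF
  obtain ⟨χ, hχ, hd | hd⟩ := S.base
  · refine ⟨χ, fun e => S.one_notMem (e ▸ hχ), ?_, S.A + e, ?_, Or.inr (Or.inl rfl)⟩
    · rw [← Int.odd_coe_nat, hd]; exact hF.1
    · rw [hd, show S.F - (S.A + e) = S.F - S.A - e by ring]; exact S.congF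
  · refine ⟨χ, fun e => S.one_notMem (e ▸ hχ), ?_, -(S.A + e), ?_, Or.inr (Or.inr rfl)⟩
    · rw [← Int.odd_coe_nat, hd]; exact hF.1.neg
    · rw [hd, show -S.F - -(S.A + e) = -(S.F - S.A - e) by ring]; exact S.congF.neg_right

/-- A degree which is a power of the prime is divisible by the order. -/
theorem Side.pow_dvd (S : Side G r e) {p : ℕ} (hp : p.Prime) (hp3 : 3 ≤ p) (hpr : p ∣ r) (he : e ≤ 8)
    (hm : 2 ≤ S.m)
    (hA : ∀ A : ℤ, (S.m : ℤ) * A ^ 2 - 2 * A ≤ (e : ℤ) - 1 →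
      ¬ (p : ℤ) ∣ A + e ∧ ¬ (r : ℤ) ∣ A + e - 1 ∧ ¬ (r : ℤ) ∣ A + e + 1)
    {χ : IrrCharacter G} {j : ℕ} (hj : 1 ≤ j) (hd : charDegree (χ : G → ℂ) = p ^ j) :
    r ∣ charDegree (χ : G → ℂ) := by
  classical
  have hpd : (p : ℤ) ∣ (charDegree (χ : G → ℂ) : ℤ) := by
    rw [hd, Nat.cast_pow]; exact dvd_pow_self _ (by omega)
  have hpr' : (p : ℤ) ∣ (r : ℤ) := Int.natCast_dvd_natCast.2 hpr
  obtain ⟨hA1, hA2, hA3⟩ := hA S.A S.A_le
  by_cases hχ : χ ∈ S.Img
  · exfalso
    obtain ⟨w, -, hw⟩ := S.img χ hχ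
    have hF : S.F.natAbs ∣ p ^ j := by
      rw [← hd]
      refine ⟨w, ?_⟩
      rcases hw with h | h <;>
        · have := congrArg Int.natAbs h
          simpa [Int.natAbs_mul] using this
    obtain ⟨i, -, hi⟩ := (Nat.dvd_prime_pow hp).1 hF
    rcases Nat.eq_zero_or_pos i with rfl | hi0
    · rw [pow_zero] at hi
      rcases Int.natAbs_eq S.F with h | h <;> rw [hi] at h
      · refine hA2 ?_
        have := S.congF.neg_right
        rwa [h, show -(((1 : ℕ) : ℤ) - S.A - e) = S.A + e - 1 by push_cast; ring] at this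
      · refine hA3 ?_
        have := S.congF.neg_right
        rwa [h, show -(-((1 : ℕ) : ℤ) - S.A - e) = S.A + e + 1 by push_cast; ring] at this
    · refine hA1 ?_
      have h1 : (p : ℤ) ∣ S.F := by
        rw [Int.natCast_dvd, hi]; exact dvd_pow_self _ (by omega)
      have h2 := dvd_sub h1 (hpr'.trans S.congF)
      rwa [show S.F - (S.F - S.A - e) = S.A + e by ring] at h2
  · have h1 : χ ≠ one' G := by
      intro h
      rw [h, deg_one'] at hd
      have : p ^ 1 ≤ p ^ j := Nat.pow_le_pow_right hp.pos hj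
      rw [pow_one, ← hd] at this
      omega
    have hle := S.sq_le hχ h1
    have hpc : (p : ℤ) ∣ S.c χ := by
      have h2 := dvd_sub hpd (hpr'.trans (S.cong χ hχ))
      rwa [sub_sub_cancel] at h2
    have hm' : (2 : ℤ) ≤ S.m := by exact_mod_cast hm
    have hnn : 0 ≤ (S.m : ℤ) * S.A ^ 2 - 2 * S.A := by
      have := mul_le_mul_of_nonneg_right hm' (sq_nonneg S.A)
      have := Int.le_self_sq S.A
      linarith
    have hc : S.c χ = 0 := by
      obtain ⟨k, hk⟩ := hpc
      by_contra hc0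
      have hk0 : k ≠ 0 := fun e => hc0 (by rw [hk, e, mul_zero])
      have h9 : 9 ≤ S.c χ ^ 2 := by
        rw [hk, mul_pow]
        have h3 : (3 : ℤ) ≤ p := by exact_mod_cast hp3
        have : 1 ≤ k ^ 2 := by have := sq_pos_of_ne_zero hk0; omega
        calc (9 : ℤ) = 3 ^ 2 * 1 := by norm_num
          _ ≤ (p : ℤ) ^ 2 * k ^ 2 := mul_le_mul (pow_le_pow_left₀ (by norm_num) h3 2) this zero_le_one (sq_nonneg _)
      have : (e : ℤ) ≤ 8 := by exact_mod_cast he
      linarith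
    have := S.cong χ hχ
    rw [hc, sub_zero] at this
    exact Int.natCast_dvd_natCast.1 this

open scoped Classical in
/-- For an automiser of order two two degrees are consecutive. -/
theorem Side.two (S : Side G r 2) (hm : 4 ≤ S.m) :
    ∃ χ ψ : IrrCharacter G, ∃ D E : ℤ, χ ≠ one' G ∧ ψ ≠ one' G ∧
      D.natAbs = charDegree (χ : G → ℂ) ∧ E.natAbs = charDegree (ψ : G → ℂ) ∧
      E = D + 1 ∧ (r : ℤ) ∣ D - 1 ∧ (r : ℤ) ∣ E - 2 := by
  have hA := S.A_zero hm
  have h := S.norm'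
  rw [hA] at h
  have hsum : ∑ χ ∈ ((Finset.univ : Finset (IrrCharacter G)) \ S.Img).erase (one' G), S.c χ ^ 2 = 1 := by
    push_cast at h
    linarith
  obtain ⟨χ, hχ, hc⟩ : ∃ χ ∈ ((Finset.univ : Finset (IrrCharacter G)) \ S.Img).erase (one' G), S.c χ ≠ 0 := by
    by_contra! h0
    rw [Finset.sum_eq_zero fun χ hχ => by rw [h0 χ hχ]; norm_num] at hsum
    norm_num at hsum
  have hzero : ∀ ψ ∈ (((Finset.univ : Finset (IrrCharacter G)) \ S.Img).erase (one' G)).erase χ, S.c ψ = 0 := by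
    intro ψ hψ
    rw [← Finset.add_sum_erase _ _ hχ] at hsum
    have h2 := Finset.single_le_sum (f := fun φ => S.c φ ^ 2) (fun φ _ => sq_nonneg _) hψ
    have := sq_pos_of_ne_zero hc
    have h3 : S.c ψ ^ 2 = 0 := le_antisymm (by linarith) (sq_nonneg _)
    exact pow_eq_zero_iff (by norm_num : 2 ≠ 0) |>.1 h3
  have hc1 : S.c χ * S.c χ = 1 := by
    rw [← Finset.add_sum_erase _ _ hχ, Finset.sum_eq_zero (fun ψ hψ => by rw [hzero ψ hψ]; norm_num), add_zero,
      pow_two] at hsum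
    exact hsum
  have hrel := S.relation
  rw [← Finset.add_sum_erase _ _ (Finset.mem_sdiff.2 ⟨Finset.mem_univ (one' G), S.one_notMem⟩), S.c_one,
    deg_one', ← Finset.add_sum_erase _ _ hχ, Finset.sum_eq_zero (fun ψ hψ => by rw [hzero ψ hψ, zero_mul]),
    hA] at hrel
  obtain ⟨hχ1, hχI⟩ := Finset.mem_erase.1 hχ
  have hcong := S.cong χ (Finset.mem_sdiff.1 hχI).2
  obtain ⟨ψ, hψ, hdψ⟩ := S.base
  refine ⟨χ, ψ, S.c χ * (charDegree (χ : G → ℂ) : ℤ), S.F, hχ1, fun e => S.one_notMem (e ▸ hψ), ?_, ?_, ?_, ?_, ?_⟩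
  · have habs : (S.c χ).natAbs = 1 := by
      rcases (Int.mul_eq_one_iff_eq_one_or_neg_one.1 hc1) with ⟨e, -⟩ | ⟨e, -⟩ <;> rw [e] <;> rfl
    rw [Int.natAbs_mul, habs, one_mul, Int.natAbs_natCast]
  · rcases hdψ with e | e
    · rw [← e, Int.natAbs_natCast]
    · rw [← Int.natAbs_neg, ← e, Int.natAbs_natCast]
  · push_cast at hrel
    linarith
  · have := hcong.mul_left (S.c χ)
    rwa [mul_sub, hc1] at this
  · have := S.congF
    rwa [hA, sub_zero] at this

end Data

section Existence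

variable {G : Type u} [Group G] [Fintype G]

theorem isTI_of_centralizer {p : ℕ} {P : Sylow p G}
    (hC : ∀ x ∈ (P : Subgroup G), x ≠ 1 → centralizer ({x} : Set G) = P) :
    IsTISubset ((P : Subgroup G) : Set G) := by
  intro g hg x hx hgx
  by_contra hx1
  refine hg (mem_normalizer_iff.2 fun y => ?_)
  have hgx1 : g * x * g⁻¹ ≠ 1 := fun e => hx1 (conj_eq_one_iff.1 e)
  show y ∈ (P : Subgroup G) ↔ g * y * g⁻¹ ∈ (P : Subgroup G)
  conv_lhs => rw [← hC x hx hx1]
  rw [← hC _ hgx hgx1, mem_centralizer_singleton_iff, mem_centralizer_singleton_iff]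
  constructor
  · intro h
    calc g * y * g⁻¹ * (g * x * g⁻¹) = g * (y * x) * g⁻¹ := by group
      _ = g * x * g⁻¹ * (g * y * g⁻¹) := by rw [h]; group
  · intro h
    calc y * x = g⁻¹ * (g * y * g⁻¹ * (g * x * g⁻¹)) * g := by group
      _ = g⁻¹ * (g * x * g⁻¹ * (g * y * g⁻¹)) * g := by rw [h]
      _ = x * y := by group

theorem lt_normalizer_of_relIndex {K : Subgroup G} (h : K.relIndex (normalizer (K : Set G)) ≠ 1) :
    K < normalizer (K : Set G) := by
  refine lt_of_le_of_ne le_normalizer fun e => h ?_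
  rw [← e, relIndex_self]

/-- Coherence data for an abelian self-centralising T.I. Sylow subgroup. -/
theorem exists_side_abelian {p : ℕ} [Fact p.Prime] (P : Sylow p G) (hP1 : (P : Subgroup G) ≠ ⊥)
    (hC : ∀ x ∈ (P : Subgroup G), x ≠ 1 → centralizer ({x} : Set G) = P)
    (he : (P : Subgroup G).relIndex (normalizer ((P : Subgroup G) : Set G)) ≠ 1)
    (hne : Nat.card (P : Subgroup G) ≠ (P : Subgroup G).relIndex (normalizer ((P : Subgroup G) : Set G)) + 1) :
    Nonempty (Side G (Nat.card (P : Subgroup G))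
      ((P : Subgroup G).relIndex (normalizer ((P : Subgroup G) : Set G)))) := by
  classical
  have := Fintype.ofFinite (normalizer ((P : Subgroup G) : Set G))
  have hle : ∀ k ∈ (P : Subgroup G), k ≠ 1 → centralizer ({k} : Set G) ≤ P := fun k hk hk1 => (hC k hk hk1).le
  have hcomm : ∀ a ∈ (P : Subgroup G), ∀ b ∈ (P : Subgroup G), a * b = b * a := fun a ha b hb => by
    by_cases hb1 : b = 1
    · rw [hb1, mul_one, one_mul]
    · exact mem_centralizer_singleton_iff.1 (by rw [hC b hb hb1]; exact ha)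
  obtain ⟨z, hz, hz1⟩ := (bot_or_exists_ne_one (P : Subgroup G)).resolve_left hP1
  have hTI := isTI_of_centralizer hC
  have hlt := lt_normalizer_of_relIndex he
  have hnil : Group.IsNilpotent (P : Subgroup G) := P.isPGroup'.isNilpotent
  have hab : IsMulCommutative (P : Subgroup G) := ⟨⟨fun a b => Subtype.ext (hcomm a a.2 b b.2)⟩⟩
  refine exists_side hTI hle hlt ?_ hz hz1 fun k hk => hcomm k hk z hz
  refine OddChars.frob_coherent (OddChars.ti_cent_le hle) (OddChars.ti_iso hTI hle)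
    (OddChars.ti_nilpotent hnil) (OddChars.ti_ne_bot hP1) (OddChars.ti_ne_top hlt) ?_
    (Or.inl (OddChars.ti_isMulCommutative_iff.2 hab))
  rw [OddChars.ti_card]
  exact hne

/-- Coherence data for a Sylow 5-subgroup with automiser of order three. -/
theorem exists_side_five (h : Ord G) (hni : ¬ Inverted 5 G) (R : Sylow 5 G) (hR1 : (R : Subgroup G) ≠ ⊥)
    (he : (R : Subgroup G).relIndex (normalizer ((R : Subgroup G) : Set G)) = 3) :
    Nonempty (Side G (Nat.card (R : Subgroup G)) 3) := by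
  classical
  have : Fact (Nat.Prime 5) := ⟨Nat.prime_five⟩
  have := Fintype.ofFinite (normalizer ((R : Subgroup G) : Set G))
  have hTI := h.isTI_five hni R
  have hle := h.centralizer_le_five hni R
  have hodd := (h.normalizer_five hni R hR1).2
  have hlt := lt_normalizer_of_relIndex (K := (R : Subgroup G)) (by rw [he]; norm_num)
  have : Nontrivial (R : Subgroup G) := (nontrivial_iff_ne_bot _).2 hR1
  have := R.isPGroup'.center_nontrivial
  obtain ⟨⟨⟨z, hz⟩, hzc⟩, hne⟩ := exists_ne (1 : center (R : Subgroup G))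
  rw [← he]
  refine exists_side hTI hle hlt ?_ hz (fun e => hne (Subtype.ext (Subtype.ext e)))
    fun k hk => congrArg Subtype.val (mem_center_iff.1 hzc ⟨k, hk⟩)
  by_cases hab : IsMulCommutative (R : Subgroup G)
  · refine OddChars.frob_coherent (OddChars.ti_cent_le hle) (OddChars.ti_iso hTI hle)
      (OddChars.ti_nilpotent R.isPGroup'.isNilpotent) (OddChars.ti_ne_bot hR1) (OddChars.ti_ne_top hlt) ?_
      (Or.inl (OddChars.ti_isMulCommutative_iff.2 hab))
    rw [OddChars.ti_card]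
    intro e4
    change Nat.card (R : Subgroup G) = (R : Subgroup G).relIndex (normalizer ((R : Subgroup G) : Set G)) + 1 at e4
    obtain ⟨k, hk⟩ := IsPGroup.iff_card.1 R.isPGroup'
    rw [he, hk] at e4
    rcases Nat.eq_zero_or_pos k with rfl | hk0
    · norm_num at e4
    · have : 5 ^ 1 ≤ 5 ^ k := Nat.pow_le_pow_right (by norm_num) hk0
      omega
  · exact OddChars.ti_sibley R rfl hTI hlt hle hodd hab

open scoped Classical in
theorem second_orthogonality' {P : Subgroup G} (z : G)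
    (hC : ∀ x ∈ P, x ≠ 1 → centralizer ({x} : Set G) = P) (hz : z ∈ P) (hz1 : z ≠ 1)
    (hP : Nat.card P = 9) (c : IrrCharacter G → ℤ) (hc : ∀ χ : IrrCharacter G, (χ : G → ℂ) z = (c χ : ℂ)) :
    (∑ χ, c χ ^ 2 = 9) ∧ ∑ χ : IrrCharacter G, c χ * (charDegree (χ : G → ℂ) : ℤ) = 0 := by
  have h1 := Char.second_orthogonality z z
  rw [if_pos (IsConj.refl _), hC z hz hz1, hP,
    Finset.sum_congr rfl (fun (χ : IrrCharacter G) _ => show (χ : G → ℂ) z * conj ((χ : G → ℂ) z) = ((c χ ^ 2 : ℤ) : ℂ) by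
      rw [hc χ, map_intCast, pow_two, Int.cast_mul]), ← Int.cast_sum] at h1
  have h2 := Char.second_orthogonality z (1 : G)
  rw [if_neg fun h => hz1 (isConj_one_left.1 h),
    Finset.sum_congr rfl (fun (χ : IrrCharacter G) _ => show (χ : G → ℂ) z * conj ((χ : G → ℂ) 1) =
      ((c χ * (charDegree (χ : G → ℂ) : ℤ) : ℤ) : ℂ) by
        rw [hc χ, charDegree_spec (Char.IsIrr.isCharacter χ.2)]; simp), ← Int.cast_sum] at h2
  exact ⟨by exact_mod_cast h1, by exact_mod_cast h2⟩

/-- The case of a Sylow subgroup of order nine with regular automiser. -/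
theorem nine_eight (P : Sylow 3 G) (hP : Nat.card (P : Subgroup G) = 9)
    (hC : ∀ x ∈ (P : Subgroup G), x ≠ 1 → centralizer ({x} : Set G) = P)
    (he : (P : Subgroup G).relIndex (normalizer ((P : Subgroup G) : Set G)) = 8) :
    (∃ χ : IrrCharacter G, χ ≠ one' G ∧ Odd (charDegree (χ : G → ℂ)) ∧
      ∃ s : ℤ, (9 : ℤ) ∣ (charDegree (χ : G → ℂ) : ℤ) - s ∧ Odd s ∧ s ^ 2 ≤ 8) ∧
    ∀ (χ : IrrCharacter G) (j : ℕ), 1 ≤ j → charDegree (χ : G → ℂ) = 3 ^ j →
      9 ∣ charDegree (χ : G → ℂ) := by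
  classical
  have hP1 : (P : Subgroup G) ≠ ⊥ := fun e => by simp [e] at hP
  obtain ⟨z, hz, hz1⟩ := (bot_or_exists_ne_one (P : Subgroup G)).resolve_left hP1
  set N := normalizer ((P : Subgroup G) : Set G)
  set P' := (P : Subgroup G).subgroupOf N
  have hconj : ∀ x ∈ (P : Subgroup G), x ≠ 1 → ∃ n : G, n * z * n⁻¹ = x := by
    let g : N ⧸ P' → {x : (P : Subgroup G) // x ≠ 1} := Quotient.lift
      (fun n : N => ⟨⟨(n : G) * z * (n : G)⁻¹, (mem_normalizer_iff.1 n.2 z).1 hz⟩,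
        fun e => hz1 (conj_eq_one_iff.1 (congrArg Subtype.val e))⟩)
      (fun a b hab => by
        have h1 : ((a : G)⁻¹ * b) ∈ (P : Subgroup G) := mem_subgroupOf.1 (QuotientGroup.leftRel_apply.1 hab)
        have h2 : ((a : G)⁻¹ * b) * z = z * ((a : G)⁻¹ * b) :=
          mem_centralizer_singleton_iff.1 (by rw [hC z hz hz1]; exact h1)
        refine Subtype.ext (Subtype.ext ?_)
        show (a : G) * z * (a : G)⁻¹ = (b : G) * z * (b : G)⁻¹
        calc (a : G) * z * (a : G)⁻¹ = a * (z * ((a : G)⁻¹ * b)) * (b : G)⁻¹ := by group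
          _ = a * (((a : G)⁻¹ * b) * z) * (b : G)⁻¹ := by rw [h2]
          _ = _ := by group)
    have hginj : Function.Injective g := by
      intro a b
      induction a using QuotientGroup.induction_on with
      | H a =>
      induction b using QuotientGroup.induction_on with
      | H b =>
      intro e
      have e' : (a : G) * z * (a : G)⁻¹ = (b : G) * z * (b : G)⁻¹ :=
        congrArg (fun x => ((x : {x : (P : Subgroup G) // x ≠ 1}).1 : G)) e
      refine QuotientGroup.eq.2 (mem_subgroupOf.2 ?_)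
      show (a : G)⁻¹ * b ∈ (P : Subgroup G)
      rw [← hC z hz hz1, mem_centralizer_singleton_iff]
      calc (a : G)⁻¹ * b * z = (a : G)⁻¹ * ((b : G) * z * (b : G)⁻¹) * b := by group
        _ = (a : G)⁻¹ * ((a : G) * z * (a : G)⁻¹) * b := by rw [e']
        _ = _ := by group
    have hbij : Function.Bijective g := by
      refine (Nat.bijective_iff_injective_and_card g).2 ⟨hginj, ?_⟩
      rw [show Nat.card (N ⧸ P') = 8 from (index_eq_card P').symm.trans he]
      have h1 := Nat.card_congr (Equiv.sumCompl fun x : (P : Subgroup G) => x = 1)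
      rw [Nat.card_sum, hP, show Nat.card {x : (P : Subgroup G) // x = 1} = 1 from Nat.card_unique] at h1
      simp only [ne_eq] at h1 ⊢
      omega
    intro x hx hx1
    obtain ⟨n, hn⟩ := hbij.2 ⟨⟨x, hx⟩, fun e => hx1 (congrArg Subtype.val e)⟩
    induction n using QuotientGroup.induction_on with
    | H n => exact ⟨n, congrArg (fun y => ((y : {x : (P : Subgroup G) // x ≠ 1}).1 : G)) hn⟩
  have hcex : ∀ χ : IrrCharacter G, ∃ c : ℤ, (χ : G → ℂ) z = (c : ℂ) ∧
      (9 : ℤ) ∣ (charDegree (χ : G → ℂ) : ℤ) - c := by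
    intro χ
    have hχc := Char.IsIrr.isCharacter χ.2
    have := Fintype.ofFinite (P : Subgroup G)
    obtain ⟨A0, hA0⟩ := Char.classInner_isCharacter_eq_natCast
      (Char.isCharacter_res (P : Subgroup G) hχc) (Char.isCharacter_one (G := (P : Subgroup G)))
    simp only [classInner, map_one, mul_one, hP] at hA0
    rw [inv_mul_eq_iff_eq_mul₀ (by norm_num), ← Finset.add_sum_erase _ _ (Finset.mem_univ 1),
      Finset.sum_congr rfl (fun (x : (P : Subgroup G)) hx => show (χ : G → ℂ) x = (χ : G → ℂ) z by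
        obtain ⟨n, hn⟩ := hconj x x.2 (fun e => (Finset.mem_erase.1 hx).1 (Subtype.ext e))
        rw [← hn, Char.isClassFunction_of_isIrr χ.2 z n]), Finset.sum_const,
      Finset.card_erase_of_mem (Finset.mem_univ _), Finset.card_univ, ← Nat.card_eq_fintype_card, hP,
      OneMemClass.coe_one, charDegree_spec hχc, nsmul_eq_mul] at hA0
    norm_num at hA0
    obtain ⟨c, hc⟩ := Char.exists_int_of_isIntegral_rat
      (q := ((9 : ℚ) * A0 - (charDegree (χ : G → ℂ) : ℚ)) / 8) (by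
        have : ((((9 : ℚ) * A0 - (charDegree (χ : G → ℂ) : ℚ)) / 8 : ℚ) : ℂ) = (χ : G → ℂ) z := by
          push_cast
          linear_combination (-(1 : ℂ) / 8) * hA0
        rw [this]
        exact Char.IsChar.isIntegral hχc z)
    have hcq : ((((9 : ℚ) * A0 - (charDegree (χ : G → ℂ) : ℚ)) / 8 : ℚ) : ℂ) = ((c : ℚ) : ℂ) :=
      congrArg _ hc.symm
    push_cast at hcq
    have hcz : (χ : G → ℂ) z = (c : ℂ) := by linear_combination hcq + ((1 : ℂ) / 8) * hA0
    refine ⟨c, hcz, (A0 : ℤ) - c, ?_⟩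
    have : ((charDegree (χ : G → ℂ) : ℂ) - c) = (((9 : ℤ) * ((A0 : ℤ) - c) : ℤ) : ℂ) := by
      push_cast
      rw [hcz] at hA0
      linear_combination hA0
    exact_mod_cast this
  choose c hc hcd using hcex
  have hzz := second_orthogonality' z hC hz hz1 hP c hc
  obtain ⟨hsq, hrel⟩ := hzz
  have hc1 : c (one' G) = 1 := by
    have h := hc (one' G)
    exact_mod_cast (show ((c (one' G) : ℤ) : ℂ) = 1 from h.symm)
  rw [← Finset.add_sum_erase _ _ (Finset.mem_univ (one' G)), hc1] at hsq hrel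
  have hle : ∀ χ, χ ≠ one' G → c χ ^ 2 ≤ 8 := fun χ hχ => by
    have := Finset.single_le_sum (f := fun ψ => c ψ ^ 2) (fun ψ _ => sq_nonneg _)
      (Finset.mem_erase.2 ⟨hχ, Finset.mem_univ χ⟩)
    linarith
  refine ⟨?_, fun χ j hj hd => ?_⟩
  · by_contra! hex
    obtain ⟨k, hk⟩ : (2 : ℤ) ∣ ∑ χ ∈ (Finset.univ : Finset (IrrCharacter G)).erase (one' G),
        c χ * (charDegree (χ : G → ℂ) : ℤ) := Finset.dvd_sum fun χ hχ => by
      have hχ1 := (Finset.mem_erase.1 hχ).1
      refine (Int.not_odd_iff_even.1 fun hodd => ?_).two_dvd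
      rw [Int.odd_mul, Int.odd_coe_nat] at hodd
      exact absurd (hle χ hχ1) (not_le.2 (hex χ hχ1 hodd.2 (c χ) (hcd χ) hodd.1))
    rw [deg_one', hk] at hrel
    push_cast at hrel
    omega
  · have h1 : χ ≠ one' G := by
      intro h
      rw [h, deg_one'] at hd
      have : 3 ^ 1 ≤ 3 ^ j := Nat.pow_le_pow_right (by norm_num) hj
      omega
    have h3 : (3 : ℤ) ∣ c χ := by
      have h2 : (3 : ℤ) ∣ (charDegree (χ : G → ℂ) : ℤ) := by
        rw [hd, Nat.cast_pow]; exact dvd_pow_self _ (by omega)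
      have := dvd_sub h2 (Dvd.dvd.trans (by norm_num : (3 : ℤ) ∣ 9) (hcd χ))
      rwa [sub_sub_cancel] at this
    have hc0 : c χ = 0 := by
      obtain ⟨k, hk⟩ := h3
      by_contra hne
      have hk0 : k ≠ 0 := fun e => hne (by rw [hk, e, mul_zero])
      have := sq_pos_of_ne_zero hk0
      have := hle χ h1
      rw [hk, mul_pow] at this
      omega
    have := hcd χ
    rw [hc0, sub_zero] at this
    exact_mod_cast this

end Existence

end Cfsg.Agent.SpecFive
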