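import Cfsg.Agent.SpecFive.Normaliser
import Cfsg.Agent.Jordan.Explicit
import Mathlib.RingTheory.RootsOfUnity.Complex
import Mathlib.GroupTheory.GroupAction.ConjAct

/-!
Counting elements of given order, and the bound on a 2-group with a faithful character of degree five.
-/

set_option autoImplicit false

namespace Cfsg.Agent.SpecFive

open Subgroup

/-- A 2-group of exponent four with a faithful character of degree five has order at most `2 ^ 13`. -/
theorem two_group_bound {S : Type*} [Group S] [Finite S] (hS : IsPGroup 2 S) (hexp : ∀ g : S, g ^ 4 = 1)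
    {χ : S → ℂ} (hχ : Cfsg.IsCharacter S χ) (hf : ∀ g, χ g = χ 1 → g = 1) (h5 : χ 1 = (5 : ℕ)) :
    Nat.card S ≤ 2 ^ 13 := by
  classical
  have : Fact (Nat.Prime 2) := ⟨Nat.prime_two⟩
  have := Fintype.ofFinite S
  obtain ⟨A, hA, hAi⟩ := Jordan.exists_comm_index_dvd_factorial hS hχ hf h5
  have hidx : A.index ≤ 8 := by
    obtain ⟨k, hk⟩ := hS.index A
    rw [hk] at hAi ⊢
    have : k ≤ 3 := by
      by_contra hlt
      have h16 : (2 : ℕ) ^ 4 ∣ 2 ^ k := pow_dvd_pow 2 (by omega)
      have := h16.trans hAi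
      norm_num [Nat.factorial] at this
    calc 2 ^ k ≤ 2 ^ 3 := Nat.pow_le_pow_right two_pos this
      _ = 8 := by norm_num
  have := Fintype.ofFinite A
  have hθ : Cfsg.IsCharacter A (fun a : A => χ a) := Char.isCharacter_res A hχ
  obtain ⟨m, hm, hexpn, -⟩ := Char.IsChar.exists_mult hθ
  have hcomm : IsMulCommutative A := ⟨⟨fun a b => Subtype.ext (hA a a.2 b b.2)⟩⟩
  have hdeg : ∀ ψ : Cfsg.IrrCharacter A, (ψ : A → ℂ) 1 = 1 :=
    fun ψ => Char.IsIrr.degree_one_of_isMulCommutative ψ.2
  choose l hl using fun ψ : Cfsg.IrrCharacter A => Char.IsChar.exists_hom (Char.IsIrr.isCharacter ψ.2) (hdeg ψ)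
  set T := (Finset.univ : Finset (Cfsg.IrrCharacter A)).filter fun ψ => m ψ ≠ 0
  have hT : T.card ≤ 5 := by
    have h1 : ((∑ ψ, m ψ : ℕ) : ℂ) = ((5 : ℕ) : ℂ) := by
      rw [← h5, show χ 1 = (fun a : A => χ a) 1 from rfl, hexpn]
      simp [Finset.sum_apply, hdeg]
    rw [← Nat.cast_inj.1 h1, Finset.card_eq_sum_ones]
    exact (Finset.sum_le_sum fun ψ hψ => Nat.one_le_iff_ne_zero.2 (Finset.mem_filter.1 hψ).2).trans
      (Finset.sum_le_sum_of_subset (Finset.filter_subset _ _))
  let Φ : A → (T → rootsOfUnity 4 ℂ) := fun a ψ => ⟨l ψ.1 a, by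
    rw [mem_rootsOfUnity, ← map_pow, show a ^ 4 = 1 from Subtype.ext (by simpa using hexp a), map_one]⟩
  have hinj : Function.Injective Φ := by
    intro a b hab
    have h1 : (a⁻¹ * b : A) = 1 := by
      refine Subtype.ext (hf _ ?_)
      show (fun a : A => χ a) (a⁻¹ * b) = (fun a : A => χ a) 1
      rw [hexpn]
      simp only [Finset.sum_apply, Pi.smul_apply, smul_eq_mul]
      refine Finset.sum_congr rfl fun ψ _ => ?_
      by_cases h0 : m ψ = 0
      · simp [h0]
      have h2 : l ψ a = l ψ b := congrArg Subtype.val (congrFun hab ⟨ψ, Finset.mem_filter.2 ⟨Finset.mem_univ _, h0⟩⟩)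
      simp only [hl ψ, map_mul, map_inv, h2, inv_mul_cancel, map_one]
    exact inv_mul_eq_one.1 h1
  have hcard : Nat.card A ≤ 4 ^ 5 := by
    refine (Nat.card_le_card_of_injective Φ hinj).trans ?_
    rw [Nat.card_fun, Complex.card_rootsOfUnity,
      Nat.card_eq_fintype_card, Fintype.card_coe]
    exact Nat.pow_le_pow_right (by norm_num) hT
  rw [← A.card_mul_index]
  calc Nat.card A * A.index ≤ 4 ^ 5 * 8 := Nat.mul_le_mul hcard hidx
    _ = 2 ^ 13 := by norm_num

variable {G : Type*} [Group G] [Finite G]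

/-- Elements of order `p` when the Sylow subgroups are T.I. of exponent `p`. -/
theorem Ord.card_orderOf (h : Ord G) {p : ℕ} [Fact p.Prime] (hp : p = 3 ∨ p = 5)
    (hti : ∀ P Q : Sylow p G, P ≠ Q → (P : Subgroup G) ⊓ Q = ⊥) (P : Sylow p G) :
    Nat.card {g : G // orderOf g = p} * Nat.card (normalizer ((P : Subgroup G) : Set G)) =
      Nat.card G * (Nat.card (P : Subgroup G) - 1) := by
  classical
  let f : (Σ Q : Sylow p G, {x : (Q : Subgroup G) // x ≠ 1}) → {g : G // orderOf g = p} := fun s =>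
    ⟨(s.2.1 : G), orderOf_of_pow hp (h.pow_eq_one_of_isPGroup hp s.1.isPGroup' s.2.1.2)
      fun e => s.2.2 (Subtype.ext e)⟩
  have hbij : Function.Bijective f := by
    constructor
    · rintro ⟨Q, x, hx⟩ ⟨Q', x', hx'⟩ e
      have e' : (x : G) = (x' : G) := congrArg Subtype.val e
      have hQ : Q = Q' := by
        by_contra hne
        have h1 : (x : G) ∈ (Q : Subgroup G) ⊓ Q' := ⟨x.2, e' ▸ x'.2⟩
        rw [hti Q Q' hne, mem_bot] at h1
        exact hx (Subtype.ext h1)
      subst hQ
      exact Sigma.ext rfl (heq_of_eq (Subtype.ext (Subtype.ext e')))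
    · rintro ⟨g, hg⟩
      have hz : IsPGroup p (zpowers g) := IsPGroup.of_card (n := 1) (by rw [Nat.card_zpowers, hg, pow_one])
      obtain ⟨Q, hQ⟩ := hz.exists_le_sylow
      exact ⟨⟨Q, ⟨g, hQ (mem_zpowers g)⟩, fun e => by
        have : g = 1 := congrArg Subtype.val e
        rw [this, orderOf_one] at hg
        exact (Fact.out : p.Prime).ne_one hg.symm⟩, rfl⟩
  have := Fintype.ofFinite (Sylow p G)
  rw [← Nat.card_eq_of_bijective f hbij, Nat.card_sigma]
  rw [Finset.sum_congr rfl (fun (Q : Sylow p G) _ => show Nat.card {x : (Q : Subgroup G) // x ≠ 1} = Nat.card (P : Subgroup G) - 1 by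
      have h1 := Nat.card_congr (Equiv.sumCompl fun x : (Q : Subgroup G) => x = 1)
      rw [Nat.card_sum, show Nat.card {x : (Q : Subgroup G) // x = 1} = 1 from Nat.card_unique] at h1
      have h2 : Nat.card (Q : Subgroup G) = Nat.card (P : Subgroup G) := by
        rw [Q.card_eq_multiplicity, P.card_eq_multiplicity]
      simp only [ne_eq] at h1 ⊢
      omega), Finset.sum_const, Finset.card_univ, ← Nat.card_eq_fintype_card, smul_eq_mul,
    Sylow.card_eq_index_normalizer P,
    show (normalizer (P : Set G)).index = (normalizer ((P : Subgroup G) : Set G)).index from rfl]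
  have := (normalizer ((P : Subgroup G) : Set G)).card_mul_index
  rw [← this]
  ring

/-- A set closed under conjugation without centralised elements of odd order has size divisible by `45`. -/
theorem forty_five_dvd_card [Fintype G] (X : Finset G) (hX : ∀ g ∈ X, ∀ k : G, k * g * k⁻¹ ∈ X)
    (h45 : ∀ g ∈ X, 45 ∣ (centralizer ({g} : Set G)).index) : 45 ∣ X.card := by
  classical
  rw [Finset.card_eq_sum_card_fiberwise (s := X) (t := X.image ConjClasses.mk) (f := ConjClasses.mk)
    (fun g hg => Finset.mem_image_of_mem _ hg)]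
  refine Finset.dvd_sum fun C hC => ?_
  obtain ⟨g, hg, rfl⟩ := Finset.mem_image.1 hC
  have heq : X.filter (fun x => ConjClasses.mk x = ConjClasses.mk g) =
      (ConjClasses.mk g).carrier.toFinset := by
    ext x
    rw [Finset.mem_filter, Set.mem_toFinset, ConjClasses.mem_carrier_iff_mk_eq]
    refine ⟨fun h => h.2, fun h => ⟨?_, h⟩⟩
    obtain ⟨k, hk⟩ := isConj_iff.1 (ConjClasses.mk_eq_mk_iff_isConj.1 h.symm)
    exact hk ▸ hX g hg k
  rw [heq, Set.toFinset_card, ← Nat.card_eq_fintype_card,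
    show Nat.card (ConjClasses.mk g).carrier = (centralizer ({g} : Set G)).index from ?_]
  · exact h45 g hg
  rw [← ConjAct.orbit_eq_carrier_conjClasses, Nat.card_coe_set_eq, ← MulAction.index_stabilizer (ConjAct G) g]
  rw [Subgroup.centralizer_eq_comap_stabilizer]
  exact (Subgroup.index_comap_of_surjective _ ConjAct.toConjAct.surjective).symm

end Cfsg.Agent.SpecFive
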