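import Cfsg.Agent.SpecFive.Simple
import Cfsg.Agent.SpecFive.AltSix
import Cfsg.Agent.Invol.BaerSuzuki

/-!
The alternating group of degree six has no overgroup of index two without larger element orders.
-/

set_option autoImplicit false

namespace Cfsg.Agent.SpecFive

open Subgroup

universe u

variable {G : Type u} [Group G] [Finite G]

theorem Ord.not_index_two (h : Ord G)
    (hno : ∀ (p : ℕ) (V : Subgroup G), p.Prime → V.Normal → IsPGroup p V → V = ⊥)
    {M : Subgroup G} [M.Normal] (φ : M ≃* alternatingGroup (Fin 6)) (hidx : M.index = 2)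
    (P : Sylow 3 G) (hP : Nat.card (P : Subgroup G) = 9) (hPM : (P : Subgroup G) ≤ M)
    (heG : (P : Subgroup G).relIndex (normalizer ((P : Subgroup G) : Set G)) = 8) : False := by
  classical
  have : Fact (Nat.Prime 2) := ⟨Nat.prime_two⟩
  have : Fact (Nat.Prime 3) := ⟨Nat.prime_three⟩
  -- the computed facts
  have hreal : ∀ x ∈ M, x ≠ 1 → (x ^ 3 = 1 ∨ x ^ 5 = 1) → ∃ s ∈ M, s * s = 1 ∧ s * x * s = x⁻¹ := by
    intro x hx hx1 hord
    obtain ⟨s, hs1, hs2⟩ := altSix_real (φ ⟨x, hx⟩)
      (fun e => hx1 (congrArg Subtype.val (φ.injective (e.trans φ.map_one.symm)))) (by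
        rcases hord with e | e
        · left
          rw [← map_mul, ← map_mul, ← φ.map_one]
          exact congrArg φ (Subtype.ext (by simpa [pow_succ] using e))
        · right
          rw [← map_mul, ← map_mul, ← map_mul, ← map_mul, ← φ.map_one]
          exact congrArg φ (Subtype.ext (by simpa [pow_succ] using e)))
    refine ⟨φ.symm s, (φ.symm s).2, ?_, ?_⟩
    · rw [← Subgroup.coe_mul, ← map_mul, hs1, map_one, OneMemClass.coe_one]
    · have := congrArg φ.symm hs2
      rw [map_mul, map_mul, MulEquiv.symm_apply_apply, map_inv, MulEquiv.symm_apply_apply] at this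
      exact congrArg Subtype.val this
  -- the involution in `M` inverting `P`
  obtain ⟨x₀, hx₀, hx₀1⟩ := (bot_or_exists_ne_one (P : Subgroup G)).resolve_left fun e => by
    rw [e, Subgroup.card_bot] at hP; omega
  have hx₀3 : x₀ ^ 3 = 1 := h.pow_eq_one_of_isPGroup (Or.inl rfl) P.isPGroup' hx₀
  obtain ⟨s₀, hs₀M, hs₀, hs₀x⟩ := hreal x₀ (hPM hx₀) hx₀1 (Or.inl hx₀3)
  obtain ⟨hC, -⟩ := h.sylow_of_inverted (Or.inl rfl) hx₀3 hx₀1
    (g := s₀) (by rw [inv_eq_of_mul_eq_one_right hs₀, hs₀x]) P
  obtain ⟨t, ht, ht1, htinv, htM⟩ : ∃ t : G, t * t = 1 ∧ t ≠ 1 ∧ (∀ x ∈ (P : Subgroup G), t * x * t = x⁻¹) ∧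
      t ∈ M := by
    refine ⟨s₀, hs₀, fun e => ?_, ?_, hs₀M⟩
    · rw [e, one_mul, mul_one] at hs₀x
      have h2 : x₀ ^ 2 = 1 := by rw [pow_two]; nth_rewrite 2 [hs₀x]; exact mul_inv_cancel x₀
      have := pow_gcd_eq_one.2 ⟨h2, hx₀3⟩
      rw [show Nat.gcd 2 3 = 1 by norm_num, pow_one] at this
      exact hx₀1 this
    intro x hx
    refine inverts_of_fpf hs₀ (fun v hv => ?_) (fun v hv e => ?_) x hx
    · rw [← hC x₀ hx₀ hx₀1, mem_centralizer_singleton_iff] at hv ⊢
      have hc : Commute (s₀ * v * s₀) (s₀ * x₀ * s₀) := by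
        have := (show Commute v x₀ from hv).map (MulAut.conj s₀).toMonoidHom
        simpa [inv_eq_of_mul_eq_one_right hs₀] using this
      rw [hs₀x] at hc
      simpa using hc.inv_right.eq
    · by_contra hv1
      have h1 : s₀ ∈ (P : Subgroup G) := by
        rw [← hC v hv hv1, mem_centralizer_singleton_iff]
        calc s₀ * v = s₀ * v * s₀ * s₀ := by rw [mul_assoc _ s₀ s₀, hs₀, mul_one]
          _ = v * s₀ := by rw [e]
      have h2 := h.pow_eq_one_of_isPGroup (Or.inl rfl) P.isPGroup' h1
      have h3 : s₀ ^ 2 = 1 := by rw [pow_two, hs₀]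
      have := pow_gcd_eq_one.2 ⟨h3, h2⟩
      rw [show Nat.gcd 2 3 = 1 by norm_num, pow_one] at this
      rw [this, one_mul, mul_one] at hs₀x
      have h4 : x₀ ^ 2 = 1 := by rw [pow_two]; nth_rewrite 2 [hs₀x]; exact mul_inv_cancel x₀
      have := pow_gcd_eq_one.2 ⟨h4, hx₀3⟩
      rw [show Nat.gcd 2 3 = 1 by norm_num, pow_one] at this
      exact hx₀1 this
  set N := normalizer ((P : Subgroup G) : Set G) with hN
  set K := N ⊓ centralizer ({t} : Set G) with hK
  have hti : t⁻¹ = t := inv_eq_of_mul_eq_one_right ht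
  have htN : t ∈ N := by
    rw [hN, mem_normalizer_iff]
    intro x
    rw [hti]
    refine ⟨fun hx => htinv x hx ▸ inv_mem hx, fun hx => ?_⟩
    have := htinv _ hx
    rw [show t * (t * x * t) * t = x by
      simp only [mul_assoc, ht, mul_one]; rw [← mul_assoc, ht, one_mul]] at this
    rw [this]
    exact inv_mem hx
  have hKP : ∀ k ∈ K, k ∈ (P : Subgroup G) → k = 1 := by
    intro k hk hkP
    have h1 : t * k * t = k := by
      have hkt : k * t = t * k := mem_centralizer_singleton_iff.1 hk.2
      rw [← hkt, mul_assoc, ht, mul_one]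
    rw [htinv k hkP] at h1
    have h2 : k ^ 2 = 1 := by rw [pow_two]; nth_rewrite 1 [← h1]; exact inv_mul_cancel k
    have h3 := h.pow_eq_one_of_isPGroup (Or.inl rfl) P.isPGroup' hkP
    have := pow_gcd_eq_one.2 ⟨h2, h3⟩
    rwa [show Nat.gcd 2 3 = 1 by norm_num, pow_one] at this
  have hKcard : Nat.card K = 8 := by
    let π : K → N ⧸ (P : Subgroup G).subgroupOf N := fun k => QuotientGroup.mk ⟨k, k.2.1⟩
    have hbij : Function.Bijective π := by
      constructor
      · intro a b e
        have h1 := mem_subgroupOf.1 (QuotientGroup.eq.1 e)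
        have h2 := hKP _ (mul_mem (inv_mem a.2) b.2) h1
        exact Subtype.ext (inv_mul_eq_one.1 h2)
      · intro q
        induction q using QuotientGroup.induction_on with
        | H n =>
          set c := t * ((n : G) * t * (n : G)⁻¹) with hc
          have hcP : c ∈ (P : Subgroup G) := by
            rw [← hC x₀ hx₀ hx₀1, mem_centralizer_singleton_iff, hc]
            have hy : (n : G)⁻¹ * x₀ * n ∈ (P : Subgroup G) := by
              have := (mem_normalizer_iff.1 (inv_mem n.2) x₀).1 hx₀
              simpa using this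
            have h1 := htinv _ hy
            have h2 := htinv _ (inv_mem hx₀)
            rw [inv_inv] at h2
            calc t * ((n : G) * t * (n : G)⁻¹) * x₀
                = t * (n : G) * (t * ((n : G)⁻¹ * x₀ * n) * t) * (t * (n : G)⁻¹) := by
                  simp only [mul_assoc]; rw [← mul_assoc t t, ht, one_mul, mul_inv_cancel, mul_one]
              _ = t * (n : G) * ((n : G)⁻¹ * x₀ * n)⁻¹ * (t * (n : G)⁻¹) := by rw [h1]
              _ = t * x₀⁻¹ * ((n : G) * t * (n : G)⁻¹) := by group
              _ = (t * x₀⁻¹ * t) * (t * ((n : G) * t * (n : G)⁻¹)) := by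
                  simp only [mul_assoc]; rw [← mul_assoc t t, ht, one_mul]
              _ = x₀ * (t * ((n : G) * t * (n : G)⁻¹)) := by rw [h2]
          have hc3 := h.pow_eq_one_of_isPGroup (Or.inl rfl) P.isPGroup' hcP
          set p := c * c with hp
          have hpP : p ∈ (P : Subgroup G) := mul_mem hcP hcP
          have hnt : (n : G) * t * (n : G)⁻¹ = t * c := by rw [hc, ← mul_assoc, ht, one_mul]
          have hptc : p * (t * c) * p⁻¹ = t := by
            have h1 := htinv p hpP
            have h2 : p * t = t * p⁻¹ := by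
              rw [← h1]
              simp only [← mul_assoc, ht, one_mul]
            calc p * (t * c) * p⁻¹ = (p * t) * (c * p⁻¹) := by simp only [mul_assoc]
              _ = t * (p⁻¹ * c * p⁻¹) := by rw [h2]; simp only [mul_assoc]
              _ = t * (c ^ 3)⁻¹ := by rw [hp]; group
              _ = t := by rw [hc3, inv_one, mul_one]
          have hk : p * (n : G) ∈ K := by
            refine ⟨mul_mem (le_normalizer hpP) n.2, mem_centralizer_singleton_iff.2 ?_⟩
            calc p * (n : G) * t = p * ((n : G) * t * (n : G)⁻¹) * p⁻¹ * (p * n) := by group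
              _ = t * (p * n) := by rw [hnt, hptc]
          refine ⟨⟨_, hk⟩, QuotientGroup.eq.2 (mem_subgroupOf.2 ?_)⟩
          show (p * (n : G))⁻¹ * n ∈ (P : Subgroup G)
          rw [show (p * (n : G))⁻¹ * n = (n : G)⁻¹ * p⁻¹ * n by group]
          simpa using (mem_normalizer_iff.1 (inv_mem n.2) p⁻¹).1 (inv_mem hpP)
    rw [Nat.card_eq_of_bijective π hbij, ← index_eq_card]
    exact heG
  have htK : t ∈ K := ⟨htN, mem_centralizer_singleton_iff.2 rfl⟩
  have huniqK : ∀ u ∈ K, u * u = 1 → u ≠ 1 → u = t := by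
    intro u hu huu hu1
    have hui : u⁻¹ = u := inv_eq_of_mul_eq_one_right huu
    have huinv := inverts_of_fpf huu (V := (P : Subgroup G)) (fun v hv => by
        have := (mem_normalizer_iff.1 hu.1 v).1 hv
        rwa [hui] at this) fun v hv e => by
      by_contra hv1
      have h1 : u ∈ (P : Subgroup G) := by
        rw [← hC v hv hv1, mem_centralizer_singleton_iff]
        calc u * v = u * v * u * u := by rw [mul_assoc _ u u, huu, mul_one]
          _ = v * u := by rw [e]
      exact hu1 (hKP u hu h1)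
    have hmem : t * u ∈ (P : Subgroup G) := by
      rw [← hC x₀ hx₀ hx₀1, mem_centralizer_singleton_iff]
      have h1 := huinv x₀ hx₀
      have h2 := htinv _ (inv_mem hx₀)
      rw [inv_inv] at h2
      calc t * u * x₀ = t * (u * x₀ * u) * u := by simp only [mul_assoc, huu, mul_one]
        _ = (t * x₀⁻¹ * t) * (t * u) := by
          rw [h1]; simp only [mul_assoc]; rw [← mul_assoc t t, ht, one_mul]
        _ = x₀ * (t * u) := by rw [h2]
    have := hKP _ (mul_mem htK hu) hmem
    rw [← hui]
    exact (eq_inv_of_mul_eq_one_left this).symm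
  have hord : ∀ k ∈ K, k * k ≠ 1 → k * k = t ∧ k * k * (k * k) = 1 := by
    intro k hk hk2
    have hk1 : k ≠ 1 := fun e => hk2 (by rw [e, one_mul])
    have hd : orderOf k ∣ 8 := by
      rw [← hKcard]; exact Subgroup.orderOf_dvd_natCard K hk
    have h5 := h k
    have h0 := orderOf_pos k
    have hne1 : orderOf k ≠ 1 := fun e => hk1 (orderOf_eq_one_iff.1 e)
    have hne2 : orderOf k ≠ 2 := fun e => hk2 (by rw [← pow_two, ← e, pow_orderOf_eq_one])
    have h4 : orderOf k = 4 := by
      generalize orderOf k = o at *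
      interval_cases o <;> first | rfl | omega
    have h44 : k * k * (k * k) = 1 := by
      rw [← pow_two, ← pow_two, ← pow_mul, show 2 * 2 = orderOf k by omega, pow_orderOf_eq_one]
    exact ⟨huniqK _ (mul_mem hk hk) h44 hk2, h44⟩
  -- `K` is not inside `M`
  obtain ⟨k, hkK, hkM⟩ : ∃ k ∈ K, k ∉ M := by
    by_contra! hall
    have hd : Nat.card K ∣ Nat.card (N ⊓ M : Subgroup G) :=
      Subgroup.card_dvd_of_le (le_inf inf_le_left hall)
    have hNM : Nat.card (N ⊓ M : Subgroup G) * 2 ∣ Nat.card N := by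
      have h1 := ((N ⊓ M).subgroupOf N).card_mul_index
      rw [Nat.card_congr (subgroupOfEquivOfLe inf_le_left).toEquiv] at h1
      have h2 : ((N ⊓ M).subgroupOf N).index = M.relIndex N := by
        rw [inf_subgroupOf_left]; rfl
      have h3 : M.relIndex N ∣ 2 := hidx ▸ relIndex_dvd_index_of_normal M N
      rcases (Nat.dvd_prime Nat.prime_two).1 h3 with e | e
      · exfalso
        have hle : N ≤ M := relIndex_eq_one.1 e
        have hsup := Sylow.normalizer_sup_eq_top' P hPM
        have : normalizer (P : Set G) ⊔ M ≤ M := sup_le hle le_rfl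
        rw [hsup] at this
        rw [top_le_iff.1 this, index_top] at hidx
        omega
      · rw [h2, e] at h1; exact ⟨1, by omega⟩
    have hNc : Nat.card N = 72 := by
      rw [← Subgroup.relIndex_bot_left, ← Subgroup.relIndex_mul_relIndex ⊥ (P : Subgroup G) _ bot_le le_normalizer,
        Subgroup.relIndex_bot_left, hP, heG]
    obtain ⟨w, hw⟩ := hd
    rw [hKcard] at hw
    rw [hNc, hw] at hNM
    obtain ⟨v, hv⟩ := hNM
    have : w * v * 16 = 72 := by rw [hv]; ring
    omega
  have hKM : Nat.card (K ⊓ M : Subgroup G) = 4 := by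
    have h1 := ((K ⊓ M).subgroupOf K).card_mul_index
    rw [Nat.card_congr (subgroupOfEquivOfLe inf_le_left).toEquiv, inf_subgroupOf_left, hKcard] at h1
    have h3 : M.relIndex K ∣ 2 := hidx ▸ relIndex_dvd_index_of_normal M K
    change Nat.card (K ⊓ M : Subgroup G) * M.relIndex K = 8 at h1
    rcases (Nat.dvd_prime Nat.prime_two).1 h3 with e | e
    · exact absurd (relIndex_eq_one.1 e hkK) hkM
    · rw [e] at h1; omega
  obtain ⟨a, ha, ha2⟩ : ∃ a ∈ K ⊓ M, a * a ≠ 1 := by
    by_contra! hall
    have hsub : ∀ x : (K ⊓ M : Subgroup G), x = 1 ∨ x = ⟨t, htK, htM⟩ := fun x => by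
      by_cases hx : (x : G) = 1
      · exact Or.inl (Subtype.ext hx)
      · exact Or.inr (Subtype.ext (huniqK _ x.2.1 (hall _ x.2) hx))
    have : Nat.card (K ⊓ M : Subgroup G) ≤ 2 := by
      refine le_trans (Nat.card_le_card_of_surjective (fun b : Bool => if b then (1 : (K ⊓ M : Subgroup G))
        else ⟨t, htK, htM⟩) fun x => ?_) (by simp)
      rcases hsub x with e | e
      · exact ⟨true, by simp [e]⟩
      · exact ⟨false, by simp [e]⟩
    omega
  obtain ⟨haa, ha4⟩ := hord a ha.1 ha2
  have hk2 : k * k ≠ 1 := fun e => hkM (by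
    rw [huniqK k hkK e fun e1 => hkM (by rw [e1]; exact M.one_mem)]
    exact htM)
  obtain ⟨hkk, -⟩ := hord k hkK hk2
  have hmemM : ∀ x y : G, x ∉ M → (x * y ∈ M ↔ y ∉ M) := fun x y hx => by
    rw [Subgroup.mul_mem_iff_of_index_two hidx]
    exact ⟨fun h' hy => hx (h'.2 hy), fun hy => ⟨fun h' => absurd h' hx, fun h' => absurd h' hy⟩⟩
  -- `k` inverts `a`
  have hinvka : k * a * k⁻¹ = a⁻¹ := by
    set a' := k * a * k⁻¹ with ha'
    have ha'K : a' ∈ K ⊓ M := ⟨K.mul_mem (K.mul_mem hkK ha.1) (K.inv_mem hkK), (inferInstance : M.Normal).conj_mem a ha.2 k⟩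
    have hz : zpowers a = K ⊓ M := by
      refine eq_of_le_of_card_ge (zpowers_le.2 ha) ?_
      rw [hKM, Nat.card_zpowers]
      have h1 : orderOf a ∣ 4 := orderOf_dvd_of_pow_eq_one (by rw [show a ^ 4 = a * a * (a * a) by simp [pow_succ, mul_assoc]]; exact ha4)
      have h2 : ¬ orderOf a ∣ 2 := fun h' => ha2 (by rw [← pow_two]; exact orderOf_dvd_iff_pow_eq_one.1 h')
      have := Nat.le_of_dvd (by norm_num) h1
      by_contra hlt
      interval_cases hh : orderOf a <;> first | omega | (norm_num at h2) | (norm_num at h1)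
    have ho : orderOf a = 4 := by rw [← Nat.card_zpowers, hz, hKM]
    rw [← hz] at ha'K
    obtain ⟨i, hi, hia⟩ : ∃ i, i < 4 ∧ a ^ i = a' := by
      obtain ⟨i, hi, hia⟩ := Finset.mem_image.1 ((mem_zpowers_iff_mem_range_orderOf).1 ha'K)
      exact ⟨i, by rw [ho] at hi; exact Finset.mem_range.1 hi, hia⟩
    interval_cases i
    · rw [pow_zero, ha'] at hia
      exact absurd (by rw [conj_eq_one_iff.1 hia.symm, one_mul]) ha2
    · exfalso
      rw [pow_one, ha'] at hia
      have hcomm : k * a = a * k := by nth_rewrite 2 [hia]; group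
      have h1 : (k * a) * (k * a) = 1 := by
        calc k * a * (k * a) = k * (a * k) * a := by group
          _ = k * (k * a) * a := by rw [hcomm]
          _ = k * k * (a * a) := by group
          _ = 1 := by rw [hkk, haa, ht]
      have hne : k * a ≠ 1 := fun e => hkM (by
        rw [eq_inv_of_mul_eq_one_left e]; exact M.inv_mem ha.2)
      have := huniqK _ (mul_mem hkK ha.1) h1 hne
      exact hkM (by rw [show k = t * a⁻¹ by rw [← this]; group]; exact M.mul_mem htM (M.inv_mem ha.2))
    · exfalso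
      rw [pow_two, haa, ha'] at hia
      refine ha2 ?_
      have : a = k⁻¹ * t * k := by rw [hia]; group
      rw [this]
      calc k⁻¹ * t * k * (k⁻¹ * t * k) = k⁻¹ * (t * t) * k := by group
        _ = 1 := by rw [ht]; group
    · rw [← hia]
      exact eq_inv_of_mul_eq_one_left (by
        rw [← pow_succ, show a ^ (3 + 1) = a * a * (a * a) by simp [pow_succ, mul_assoc], ha4])
  -- an element of `M` inverting `a`
  have haφ : φ ⟨a, ha.2⟩ * φ ⟨a, ha.2⟩ ≠ 1 := fun e => ha2 (by
    rw [← map_mul, ← φ.map_one] at e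
    exact congrArg Subtype.val (φ.injective e))
  have haφ4 : φ ⟨a, ha.2⟩ * φ ⟨a, ha.2⟩ * (φ ⟨a, ha.2⟩ * φ ⟨a, ha.2⟩) = 1 := by
    rw [← map_mul, ← map_mul, ← φ.map_one]
    exact congrArg φ (Subtype.ext ha4)
  obtain ⟨s', hs'1, hs'2⟩ := altSix_four_inv _ haφ haφ4
  set s : G := (φ.symm s' : G) with hs
  have hsM : s ∈ M := (φ.symm s').2
  have hss : s * s = 1 := by rw [hs, ← Subgroup.coe_mul, ← map_mul, hs'1, map_one, OneMemClass.coe_one]
  have hsa : s * a * s = a⁻¹ := by
    have := congrArg φ.symm hs'2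
    rw [map_mul, map_mul, MulEquiv.symm_apply_apply, map_inv, MulEquiv.symm_apply_apply] at this
    exact congrArg Subtype.val this
  set u := s * k with hu
  have huM : u ∉ M := fun e => hkM ((M.mul_mem_cancel_left hsM).1 e)
  have hua : u * a = a * u := by
    calc u * a = s * (k * a * k⁻¹) * k := by rw [hu]; group
      _ = (s * a⁻¹ * s) * (s * k) := by
        rw [hinvka]; simp only [mul_assoc]; rw [← mul_assoc s s, hss, one_mul]
      _ = a * u := by
        rw [hu]
        congr 1
        have : (s * a * s)⁻¹ = a := by rw [hsa, inv_inv]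
        rwa [mul_inv_rev, mul_inv_rev, inv_eq_of_mul_eq_one_right hss, ← mul_assoc] at this
  have huu : u * u ∈ M := (hmemM u u huM).2 huM
  have hu4 : u * u * (u * u) = 1 := by
    have h5 := h u
    have h0 := orderOf_pos u
    have hp := pow_orderOf_eq_one u
    have hno : ∀ n, u ^ n = 1 → n ≠ 1 ∧ n ≠ 3 ∧ n ≠ 5 := fun n hn => by
      refine ⟨?_, ?_, ?_⟩ <;> rintro rfl
      · exact huM (by rw [pow_one] at hn; rw [hn]; exact M.one_mem)
      · rw [show u ^ 3 = u * u * u by simp [pow_succ, mul_assoc]] at hn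
        exact huM (by rw [eq_inv_of_mul_eq_one_right hn]; exact M.inv_mem huu)
      · rw [show u ^ 5 = u * u * (u * u) * u by simp [pow_succ, mul_assoc]] at hn
        exact huM (by rw [eq_inv_of_mul_eq_one_right hn]; exact M.inv_mem (M.mul_mem huu huu))
    obtain ⟨h1, h3, h5'⟩ := hno _ hp
    rcases (show orderOf u = 2 ∨ orderOf u = 4 by omega) with e | e
    · rw [e, pow_two] at hp; rw [hp, one_mul]
    · rw [e] at hp; rw [← hp]; simp [pow_succ, mul_assoc]
  have hcase := altSix_four_cent _ haφ haφ4 (φ ⟨u * u, huu⟩)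
    (by rw [← map_mul, ← φ.map_one]; exact congrArg φ (Subtype.ext hu4))
    (by
      rw [← map_mul, ← map_mul]
      refine congrArg φ (Subtype.ext ?_)
      show u * u * a = a * (u * u)
      rw [mul_assoc, hua, ← mul_assoc, hua, mul_assoc])
  obtain ⟨d, hdM, hdd⟩ : ∃ d, d ∉ M ∧ d * d = 1 := by
    rcases hcase with e | e
    · exact ⟨u, huM, congrArg Subtype.val (φ.injective (e.trans φ.map_one.symm))⟩
    · refine ⟨u * a, fun e' => huM ((M.mul_mem_cancel_right ha.2).1 e'), ?_⟩
      have e2 : u * u = a * a := by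
        rw [← map_mul] at e
        exact congrArg Subtype.val (φ.injective e)
      calc u * a * (u * a) = u * (a * u) * a := by group
        _ = u * u * (a * a) := by rw [← hua]; group
        _ = 1 := by rw [e2, ha4]
  -- Baer–Suzuki
  have hdi : d⁻¹ = d := inv_eq_of_mul_eq_one_right hdd
  have hd1 : d ≠ 1 := fun e => hdM (e ▸ M.one_mem)
  have hd2 : IsPGroup 2 (zpowers d) := IsPGroup.of_card (n := 1) (by
    rw [Nat.card_zpowers, orderOf_eq_prime (by rw [pow_two, hdd]) hd1, pow_one])
  have hpair : ∀ g : G, IsPGroup 2 ↥(zpowers d ⊔ (zpowers d).map (MulAut.conj g).toMonoidHom) := by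
    intro g
    rw [MonoidHom.map_zpowers]
    set d' := (MulAut.conj g).toMonoidHom d with hd'
    have hd'eq : d' = g * d * g⁻¹ := by simp [hd']
    have hd'd' : d' * d' = 1 := by rw [hd', ← map_mul, hdd, map_one]
    have hd'M : d' ∉ M := fun e => hdM (by
      have h2 := (inferInstance : M.Normal).conj_mem _ e g⁻¹
      rw [hd'eq, show g⁻¹ * (g * d * g⁻¹) * g⁻¹⁻¹ = d by group] at h2
      exact h2)
    set x := d * d' with hx
    have hxM : x ∈ M := (hmemM d d' hdM).2 hd'M
    have hdx : d * x * d = x⁻¹ := by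
      rw [hx, mul_inv_rev, hdi, inv_eq_of_mul_eq_one_right hd'd', ← mul_assoc, hdd, one_mul]
    have hx2 : IsPGroup 2 (zpowers x) := by
      have h5 := h x
      have h0 := orderOf_pos x
      have hnot : ¬ (orderOf x = 3 ∨ orderOf x = 5) := fun ho => by
        have hx1 : x ≠ 1 := fun e => by rw [e, orderOf_one] at ho; omega
        have hpow : x ^ orderOf x = 1 := pow_orderOf_eq_one x
        obtain ⟨s₁, hs₁M, hs₁, hs₁x⟩ := hreal x hxM hx1 (by
          rcases ho with e | e <;> rw [e] at hpow
          exacts [Or.inl hpow, Or.inr hpow])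
        have hc : Commute x (d * s₁) := by
          show x * (d * s₁) = d * s₁ * x
          have h1 : s₁ * x = x⁻¹ * s₁ := by
            rw [← hs₁x, mul_assoc, hs₁, mul_one]
          have h2 : d * x⁻¹ = x * d := by
            rw [← hdx, ← mul_assoc, ← mul_assoc, hdd, one_mul]
          calc x * (d * s₁) = x * d * s₁ := (mul_assoc _ _ _).symm
            _ = d * x⁻¹ * s₁ := by rw [h2]
            _ = d * (x⁻¹ * s₁) := mul_assoc _ _ _
            _ = d * (s₁ * x) := by rw [h1]
            _ = d * s₁ * x := (mul_assoc _ _ _).symm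
        have hds : d * s₁ ∉ M := fun e => hdM ((M.mul_mem_cancel_right hs₁M).1 e)
        have h1 := h.commute_prime (p := orderOf x) (by omega) rfl hc
        have h2 : (d * s₁) * (d * s₁) ∈ M := (hmemM _ _ hds).2 hds
        refine hds ?_
        rcases ho with e | e <;> rw [e] at h1
        · rw [show (d * s₁) ^ 3 = d * s₁ * (d * s₁) * (d * s₁) by simp [pow_succ, mul_assoc]] at h1
          rw [eq_inv_of_mul_eq_one_right h1]
          exact M.inv_mem h2
        · rw [show (d * s₁) ^ 5 = d * s₁ * (d * s₁) * (d * s₁ * (d * s₁)) * (d * s₁) by simp [pow_succ, mul_assoc]] at h1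
          rw [eq_inv_of_mul_eq_one_right h1]
          exact M.inv_mem (M.mul_mem h2 h2)
      rcases (show orderOf x = 1 ∨ orderOf x = 2 ∨ orderOf x = 4 by omega) with e | e | e
      · exact IsPGroup.of_card (n := 0) (by rw [Nat.card_zpowers, e, pow_zero])
      · exact IsPGroup.of_card (n := 1) (by rw [Nat.card_zpowers, e, pow_one])
      · exact IsPGroup.of_card (n := 2) (by rw [Nat.card_zpowers, e]; norm_num)
    have hnorm : zpowers d ≤ normalizer (zpowers x : Set G) := by
      rw [zpowers_le, mem_normalizer_iff]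
      intro y
      have hmap : ∀ y, y ∈ zpowers x → d * y * d⁻¹ ∈ zpowers x := by
        intro y hy
        obtain ⟨i, rfl⟩ := mem_zpowers_iff.1 hy
        refine mem_zpowers_iff.2 ⟨-i, ?_⟩
        rw [← conj_zpow, hdi, hdx, zpow_neg, ← inv_zpow]
      refine ⟨hmap y, fun hy => ?_⟩
      have := hmap _ hy
      rwa [hdi, show d * (d * y * d) * d = y by
        simp only [mul_assoc, hdd, mul_one]; rw [← mul_assoc, hdd, one_mul]] at this
    refine (hx2.to_sup_of_normal_left' hd2 hnorm).to_le (sup_le le_sup_right ?_)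
    rw [zpowers_le, show d' = d * x by rw [hx, ← mul_assoc, hdd, one_mul]]
    exact mul_mem (le_sup_right (α := Subgroup G) (mem_zpowers d)) (le_sup_left (α := Subgroup G) (mem_zpowers x))
  obtain ⟨V, hVn, hV, hdV⟩ := Invol.baerSuzuki (zpowers d) hd2 hpair
  have := hno 2 V Nat.prime_two hVn hV
  exact hd1 (by simpa [this] using hdV (mem_zpowers d))

end Cfsg.Agent.SpecFive
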