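import Cfsg.Agent.OddChars.TICoherence
import Cfsg.Agent.Char.Exceptional
import Cfsg.Agent.Char.TIFrob

/-!
Degrees and values on a coherent T.I. subgroup whose normaliser is a Frobenius group.
-/

set_option autoImplicit false

namespace Cfsg.Agent.SpecFive

open Subgroup
open Cfsg.Agent.Char
open Cfsg.Agent.CharArith (charDegree_spec)
open scoped ComplexConjugate

universe u

/-- The trivial character. -/
noncomputable def one' (G : Type u) [Group G] : IrrCharacter G := ⟨fun _ => 1, isIrrCharacter_one⟩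

/-- What coherence gives for a subgroup of order `r` with automiser of order `e`. -/
structure Side (G : Type u) [Group G] [Fintype G] (r e : ℕ) where
  Img : Finset (IrrCharacter G)
  c : IrrCharacter G → ℤ
  A : ℤ
  F : ℤ
  m : ℕ
  card_eq : e * m + 1 = r
  one_notMem : one' G ∉ Img
  c_one : c (one' G) = 1
  norm : ∑ χ ∈ (Finset.univ : Finset (IrrCharacter G)) \ Img, c χ ^ 2 + ((m : ℤ) * A ^ 2 - 2 * A) = e
  cong : ∀ χ, χ ∉ Img → (r : ℤ) ∣ (charDegree (χ : G → ℂ) : ℤ) - c χ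
  img : ∀ χ ∈ Img, ∃ w : ℕ, 0 < w ∧
    ((charDegree (χ : G → ℂ) : ℤ) = F * w ∨ (charDegree (χ : G → ℂ) : ℤ) = -(F * w))
  base : ∃ χ ∈ Img, (charDegree (χ : G → ℂ) : ℤ) = F ∨ (charDegree (χ : G → ℂ) : ℤ) = -F
  congF : (r : ℤ) ∣ F - A - e
  relation : ∑ χ ∈ (Finset.univ : Finset (IrrCharacter G)) \ Img,
    c χ * (charDegree (χ : G → ℂ) : ℤ) + F * ((m : ℤ) * A - 1) = 0

/-- A generalized character of norm one is a signed irreducible character. -/
theorem sirr_of_norm_one {X : Type u} [Group X] [Fintype X] {θ : X → ℂ}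
    (h : IsGeneralizedCharacter X θ) (h1 : classInner θ θ = 1) : Coherence.SIrr X θ := by
  classical
  obtain ⟨m, -, he, hn⟩ := Char.IsGen.exists_mult h
  rw [h1] at hn
  have hs : ∑ ψ, m ψ ^ 2 = 1 := by exact_mod_cast hn.symm
  obtain ⟨a, ha⟩ : ∃ a, m a ≠ 0 := by
    by_contra! h0
    simp [h0] at hs
  have hrest : ∀ b, b ≠ a → m b = 0 := fun b hb => by
    by_contra hb0
    have h2 := Finset.sum_le_sum_of_subset_of_nonneg (Finset.subset_univ {a, b})
      (fun i _ _ => sq_nonneg (m i))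
    rw [Finset.sum_pair hb.symm, hs] at h2
    have := sq_pos_of_ne_zero ha
    have := sq_pos_of_ne_zero hb0
    omega
  have hma : m a ^ 2 = 1 := by
    rw [← hs, Finset.sum_eq_single a (fun b _ hb => by simp [hrest b hb]) (by simp)]
  have hθ : θ = (m a : ℂ) • (a : X → ℂ) := by
    rw [he, Finset.sum_eq_single a (fun b _ hb => by simp [hrest b hb]) (by simp)]
  rcases sq_eq_one_iff.1 hma with e | e
  · exact Or.inl (by rw [hθ, e]; simpa using a.2)
  · exact Or.inr (by rw [hθ, e]; simpa using a.2)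

variable {G : Type u} [Group G] [Fintype G] {K : Subgroup G}

local notation "N" => Subgroup.normalizer (K : Set G)

local notation "K'" => Subgroup.subgroupOf K (Subgroup.normalizer (K : Set G))

theorem exists_side [Fintype (normalizer (K : Set G))] (hTI : IsTISubset (K : Set G))
    (hC : ∀ k ∈ K, k ≠ 1 → centralizer ({k} : Set G) ≤ K) (hlt : K < normalizer (K : Set G))
    (hcoh : IsCoherent (inducedIrrAbove (K.subgroupOf (normalizer (K : Set G))) ⊥) {1}ᶜ
      (fun α : normalizer (K : Set G) → ℂ => indFun (normalizer (K : Set G)) α))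
    {z : G} (hz : z ∈ K) (hz1 : z ≠ 1) (hzc : ∀ k ∈ K, k * z = z * k) :
    Nonempty (Side G (Nat.card K) (K.relIndex (normalizer (K : Set G)))) := by
  classical
  have : (K').Normal := normal_in_normalizer
  have := Fintype.ofFinite K'
  have hC' : ∀ k ∈ K', k ≠ 1 → centralizer ({k} : Set N) ≤ K' := OddChars.ti_cent_le hC
  set z' : N := ⟨z, le_normalizer hz⟩ with hz'def
  have hz' : z' ∈ K' := mem_subgroupOf.2 hz
  have hz'1 : z' ≠ 1 := fun e => hz1 (congrArg Subtype.val e)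
  have hbot : K' ≠ ⊥ := fun e => hz'1 (by rwa [e, mem_bot] at hz')
  have htop : K' ≠ ⊤ := OddChars.ti_ne_top hlt
  set e := (K').index with hedef
  have he' : K.relIndex N = e := rfl
  rw [he']
  set r := Nat.card K with hrdef
  have hr' : Nat.card K' = r := OddChars.ti_card
  have hN : Nat.card N = r * e := by rw [← hr', hedef, (K').card_mul_index]
  have hr1 : 1 < r := by
    have : Nontrivial K := ⟨⟨⟨z, hz⟩, 1, fun e => hz1 (congrArg Subtype.val e)⟩⟩
    exact Finite.one_lt_card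
  -- the family
  set S := inducedIrrAbove K' (⊥ : Subgroup N) with hSdef
  obtain ⟨⟨α₀, hα₀, hα₀ne⟩, τ₁, hτ₁, hag⟩ := hcoh
  have hSeq : S = {χ | Exceptional.InS K' χ} := OddChars.frob_set_eq hC'
  set T : Finset (IrrCharacter N) := Finset.univ.filter fun ψ : IrrCharacter N => Exceptional.InS K' (ψ : N → ℂ)
  have hT : ∀ ψ, ψ ∈ T ↔ Exceptional.InS K' (ψ : N → ℂ) := fun ψ => by simp [T]
  have hTS : ∀ ψ ∈ T, (ψ : N → ℂ) ∈ S := fun ψ hψ => by rw [hSeq]; exact (hT ψ).1 hψ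
  set f : IrrCharacter N → G → ℂ := fun ψ => τ₁ (ψ : N → ℂ) with hfdef
  have hf_inner : ∀ ψ ∈ T, ∀ φ ∈ T, classInner (f ψ) (f φ) = if ψ = φ then 1 else 0 := fun ψ hψ φ hφ => by
    rw [hfdef]
    simp only
    rw [hτ₁.2.2.1 _ (Coherence.mem_zspan_of_mem (hTS ψ hψ)) _ (Coherence.mem_zspan_of_mem (hTS φ hφ)),
      Char.classInner_irrChar]
  have hf_sirr : ∀ ψ ∈ T, Coherence.SIrr G (f ψ) := fun ψ hψ =>
    sirr_of_norm_one (hτ₁.2.2.2 _ (Coherence.mem_zspan_of_mem (hTS ψ hψ)))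
      (by rw [hf_inner ψ hψ ψ hψ, if_pos rfl])
  have hsig : ∀ ψ, ∃ p : IrrCharacter G × ℤ, (p.2 = 1 ∨ p.2 = -1) ∧
      (ψ ∈ T → f ψ = (p.2 : ℂ) • (p.1 : G → ℂ)) := fun ψ => by
    by_cases hψ : ψ ∈ T
    · obtain ⟨χ, h | h⟩ := (hf_sirr ψ hψ).exists_eq
      · exact ⟨(χ, 1), Or.inl rfl, fun _ => by simp [h]⟩
      · exact ⟨(χ, -1), Or.inr rfl, fun _ => by simp [h]⟩
    · exact ⟨(one' G, 1), Or.inl rfl, fun h => absurd h hψ⟩
  choose p hp1 hp2 using hsig
  set χo : IrrCharacter N → IrrCharacter G := fun ψ => (p ψ).1 with hχo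
  set δ : IrrCharacter N → ℤ := fun ψ => (p ψ).2 with hδ
  have hδ2 : ∀ ψ, (δ ψ : ℂ) * (δ ψ : ℂ) = 1 := fun ψ => by
    rcases hp1 ψ with h | h <;> simp [hδ, h]
  have hδ2' : ∀ ψ, δ ψ * δ ψ = 1 := fun ψ => by
    rcases hp1 ψ with h | h <;> simp [hδ, h]
  have hinj : ∀ ψ ∈ T, ∀ φ ∈ T, χo ψ = χo φ → ψ = φ := fun ψ hψ φ hφ he => by
    by_contra hne
    have h0 := hf_inner ψ hψ φ hφ
    rw [if_neg hne, hp2 ψ hψ, hp2 φ hφ, classInner_smul_left, classInner_smul_right, map_intCast,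
      show (p ψ).1 = (p φ).1 from he, Char.classInner_irrChar, if_pos rfl, mul_one] at h0
    rcases hp1 ψ with h | h <;> rcases hp1 φ with h' | h' <;> simp [h, h'] at h0
  -- degrees in the family
  obtain ⟨χ₀, hχ₀, hχ₀1⟩ := Exceptional.exists_min_degree hC' hbot htop
  set ψ₀ : IrrCharacter N := ⟨χ₀, hχ₀.1⟩
  have hψ₀ : ψ₀ ∈ T := (hT _).2 hχ₀
  have hψ₀1 : (ψ₀ : N → ℂ) 1 = (e : ℂ) := hχ₀1
  have hdeg : ∀ ψ, ∃ d : ℕ, ψ ∈ T → 0 < d ∧ (ψ : N → ℂ) 1 = (e : ℂ) * d := fun ψ => by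
    by_cases hψ : ψ ∈ T
    · obtain ⟨d, hd0, hd⟩ := Exceptional.InS.degree hC' ((hT ψ).1 hψ)
      exact ⟨d, fun _ => ⟨hd0, by rw [hd, hedef, Nat.cast_mul]⟩⟩
    · exact ⟨0, fun h => absurd h hψ⟩
  choose d hd using hdeg
  -- restrictions
  set res : IrrCharacter G → N → ℂ := fun χ n => (χ : G → ℂ) n with hres
  set u : IrrCharacter G → IrrCharacter N → ℤ := fun χ ψ => if χ = χo ψ then δ ψ else 0 with hu
  have hu_eq : ∀ χ : IrrCharacter G, ∀ ψ ∈ T, classInner (χ : G → ℂ) (f ψ) = (u χ ψ : ℂ) := fun χ ψ hψ => by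
    rw [hp2 ψ hψ, classInner_smul_right, Char.classInner_irrChar, map_intCast, hu]
    simp only
    by_cases h1 : χ = χo ψ
    · rw [if_pos h1, if_pos h1, mul_one]
    · rw [if_neg h1, if_neg h1]; simp
  set Fr : IrrCharacter G → N → ℂ := fun χ => res χ - ∑ ψ ∈ T, (u χ ψ : ℂ) • (ψ : N → ℂ) with hFr
  have hFcl : ∀ χ, IsClassFunction N (Fr χ) := fun χ g h => by
    simp only [hFr, Pi.sub_apply, Finset.sum_apply, Pi.smul_apply, hres, Subgroup.coe_mul, Subgroup.coe_inv]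
    congr 1
    · exact Char.isClassFunction_of_isIrr χ.2 _ _
    · exact Finset.sum_congr rfl fun ψ _ => by rw [Char.isClassFunction_of_isIrr ψ.2]
  have horth : ∀ χ, ∀ a b : N → ℂ, Exceptional.InS K' a → Exceptional.InS K' b →
      classInner (Fr χ) (b 1 • a - a 1 • b) = 0 := by
    intro χ a b ha hb
    obtain ⟨na, -, hna⟩ := IsIrr.degree ha.1
    obtain ⟨nb, -, hnb⟩ := IsIrr.degree hb.1
    set ψa : IrrCharacter N := ⟨a, ha.1⟩
    set ψb : IrrCharacter N := ⟨b, hb.1⟩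
    have hma : ψa ∈ T := (hT _).2 ha
    have hmb : ψb ∈ T := (hT _).2 hb
    have haS := Coherence.mem_zspan_of_mem (hTS ψa hma)
    have hbS := Coherence.mem_zspan_of_mem (hTS ψb hmb)
    set α := (nb : ℤ) • a - (na : ℤ) • b with hα
    have hαeq : b 1 • a - a 1 • b = α := by
      rw [hα, hna, hnb]
      funext x; simp
    have hαmem : α ∈ zspanOn S {1}ᶜ := Coherence.mem_zspanOn_compl_one.2
      ⟨Coherence.zspan_sub (Coherence.zspan_zsmul _ haS) (Coherence.zspan_zsmul _ hbS),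
        by simp [hα, hna, hnb, mul_comm]⟩
    have hind : indFun N α = (nb : ℂ) • f ψa - (na : ℂ) • f ψb := by
      rw [← show τ₁ α = indFun N α from hag α hαmem, hα,
        Coherence.iso_zspan_sub hτ₁ (Coherence.zspan_zsmul _ haS) (Coherence.zspan_zsmul _ hbS),
        hτ₁.2.1 _ haS, hτ₁.2.1 _ hbS]
      funext x; simp [hfdef, ψa, ψb]
    have h1 : classInner (res χ) α = (nb : ℂ) * (u χ ψa : ℂ) - (na : ℂ) * (u χ ψb : ℂ) := by
      rw [hres, ← classInner_indFun_right N α (Char.isClassFunction_of_isIrr χ.2), hind,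
        classInner_sub_right, classInner_smul_right, classInner_smul_right, hu_eq χ ψa hma,
        hu_eq χ ψb hmb, map_natCast, map_natCast]
    rw [hαeq, hFr]
    simp only
    rw [classInner_sub_left, h1, classInner_sum_left]
    have h2 : ∀ ψ ∈ T, classInner ((u χ ψ : ℂ) • (ψ : N → ℂ)) α =
        (if ψ = ψa then (nb : ℂ) * (u χ ψa : ℂ) else 0) - if ψ = ψb then (na : ℂ) * (u χ ψb : ℂ) else 0 := by
      intro ψ _
      rw [classInner_smul_left, hα, show (nb : ℤ) • a = (nb : ℂ) • (ψa : N → ℂ) by funext x; simp [ψa],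
        show (na : ℤ) • b = (na : ℂ) • (ψb : N → ℂ) by funext x; simp [ψb], classInner_sub_right,
        classInner_smul_right, classInner_smul_right, Char.classInner_irrChar, Char.classInner_irrChar,
        map_natCast, map_natCast, mul_sub]
      split_ifs with p1 p2 p2
      · rw [← p1, ← p2]; ring
      · rw [p1]; ring
      · rw [p2]; ring
      · ring
    rw [Finset.sum_congr rfl h2, Finset.sum_sub_distrib, Finset.sum_ite_eq', Finset.sum_ite_eq',
      if_pos hma, if_pos hmb, sub_self]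
  have hconst : ∀ χ, ∀ k ∈ K', k ≠ 1 → Fr χ k = Fr χ z' := fun χ k hk hk1 =>
    Exceptional.const_of_orth hC' ⟨χ₀, hχ₀⟩ (hFcl χ) (horth χ) hk hz' hk1 hz'1
  -- sums over `K'`
  have hsumS : ∀ ψ ∈ T, ∑ k : K', (ψ : N → ℂ) k = 0 := by
    intro ψ hψ
    have hS' := (hT ψ).1 hψ
    have h0 : ∑ n : N, (ψ : N → ℂ) n = 0 := by
      have h1 : classInner (ψ : N → ℂ) (fun _ => (1 : ℂ)) = 0 := classInner_irr_ne ψ.2 isIrrCharacter_one
        fun e => by
          obtain ⟨k, -, hk⟩ := hS'.2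
          exact hk (by rw [e])
      simp only [classInner, map_one, mul_one, mul_eq_zero, inv_eq_zero, Nat.cast_eq_zero] at h1
      exact h1.resolve_left Nat.card_pos.ne'
    rw [← h0, ← Finset.sum_subset (Finset.subset_univ (Finset.univ.map ⟨_, (K').subtype_injective⟩))
      (fun x _ hx => hS'.off hC' fun hxK => hx (Finset.mem_map.2 ⟨⟨x, hxK⟩, Finset.mem_univ _, rfl⟩)),
      Finset.sum_map]
    rfl
  have hcint : ∀ χ, ∃ c : ℤ, Fr χ z' = (c : ℂ) ∧
      (r : ℤ) ∣ (charDegree (χ : G → ℂ) : ℤ) - c - ∑ ψ ∈ T, u χ ψ * ((e : ℤ) * d ψ) := by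
    intro χ
    have hχc := IsIrr.isCharacter χ.2
    obtain ⟨A0, hA0⟩ := classInner_isCharacter_eq_natCast
      (isCharacter_comp ((N).subtype.comp (K').subtype) hχc) (isCharacter_one (G := K'))
    simp only [classInner, map_one, mul_one, hr', MonoidHom.coe_comp, Subgroup.coe_subtype, Function.comp_apply] at hA0
    rw [inv_mul_eq_iff_eq_mul₀ (Nat.cast_ne_zero.2 (show r ≠ 0 by omega))] at hA0
    set S1 : ℤ := ∑ ψ ∈ T, u χ ψ * ((e : ℤ) * d ψ) with hS1
    have hF1 : Fr χ 1 = (charDegree (χ : G → ℂ) : ℂ) - (S1 : ℂ) := by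
      simp only [hFr, Pi.sub_apply, Finset.sum_apply, Pi.smul_apply, smul_eq_mul, hres, OneMemClass.coe_one,
        hS1, Int.cast_sum, Int.cast_mul, Int.cast_natCast]
      rw [charDegree_spec hχc]
      congr 1
      exact Finset.sum_congr rfl fun ψ hψ => by rw [(hd ψ hψ).2]
    have hsum : ∑ k : K', Fr χ k = (r : ℂ) * A0 := by
      rw [← hA0]
      simp only [hFr, Pi.sub_apply, Finset.sum_apply, Pi.smul_apply, smul_eq_mul, Finset.sum_sub_distrib]
      rw [Finset.sum_comm (γ := K'), Finset.sum_eq_zero (s := T) (fun ψ hψ => by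
        rw [← Finset.mul_sum, hsumS ψ hψ, mul_zero]), sub_zero]
    rw [← Finset.add_sum_erase _ _ (Finset.mem_univ (1 : K')), Finset.sum_congr rfl (fun (k : K') hk =>
      hconst χ (k : N) k.2 fun e => (Finset.mem_erase.1 hk).1 (Subtype.ext e)), Finset.sum_const,
      Finset.card_erase_of_mem (Finset.mem_univ _), Finset.card_univ, ← Nat.card_eq_fintype_card, hr',
      OneMemClass.coe_one, hF1, nsmul_eq_mul, Nat.cast_sub hr1.le, Nat.cast_one] at hsum
    have hr0 : ((r : ℂ) - 1) ≠ 0 := sub_ne_zero.2 fun e => by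
      have : r = 1 := by exact_mod_cast e
      omega
    obtain ⟨c, hc⟩ := exists_int_of_isIntegral_rat
      (q := ((r : ℚ) * A0 - ((charDegree (χ : G → ℂ) : ℚ) - (S1 : ℚ))) / ((r : ℚ) - 1)) (by
      have heq : (((r : ℚ) * A0 - ((charDegree (χ : G → ℂ) : ℚ) - (S1 : ℚ))) / ((r : ℚ) - 1) : ℚ) =
          (Fr χ z' : ℂ) := by
        push_cast
        rw [div_eq_iff hr0]
        linear_combination -hsum
      rw [heq]
      simp only [hFr, Pi.sub_apply, Finset.sum_apply, Pi.smul_apply, smul_eq_mul, hres]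
      exact (IsChar.isIntegral hχc _).sub (IsIntegral.sum _ fun ψ _ =>
        IsIntegral.mul (isIntegral_algebraMap (R := ℤ) (x := u χ ψ)) (IsChar.isIntegral (IsIrr.isCharacter ψ.2) _)))
    have hcC : Fr χ z' = (c : ℂ) := by
      have h1 : ((((r : ℚ) * A0 - ((charDegree (χ : G → ℂ) : ℚ) - (S1 : ℚ))) / ((r : ℚ) - 1) : ℚ) : ℂ) = ((c : ℚ) : ℂ) :=
        congrArg _ hc.symm
      push_cast at h1
      rw [div_eq_iff hr0] at h1
      exact mul_right_cancel₀ hr0 (by linear_combination hsum + h1)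
    refine ⟨c, hcC, (A0 : ℤ) - c, ?_⟩
    rw [hcC] at hsum
    have : ((charDegree (χ : G → ℂ) : ℂ) - S1 + ((r : ℂ) - 1) * c) = (r : ℂ) * A0 := hsum
    have hz : ((charDegree (χ : G → ℂ) : ℤ) - S1 + ((r : ℤ) - 1) * c) = (r : ℤ) * A0 := by
      exact_mod_cast this
    linear_combination hz
  choose c hc hcdiv using hcint
  set Img := T.image χo with hImg
  -- values at `z`
  have hu_single : ∀ ψ ∈ T, ∀ (h : IrrCharacter N → ℂ), ∑ φ ∈ T, (u (χo ψ) φ : ℂ) * h φ = (δ ψ : ℂ) * h ψ := by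
    intro ψ hψ h
    rw [Finset.sum_eq_single ψ (fun φ hφ hne => by
      rw [hu]
      simp only
      rw [if_neg fun e => hne (hinj ψ hψ φ hφ e).symm, Int.cast_zero, zero_mul]) (fun h => absurd hψ h)]
    simp [hu]
  have hu_none : ∀ χ, χ ∉ Img → ∀ φ ∈ T, u χ φ = 0 := fun χ hχ φ hφ => by
    rw [hu]
    simp only
    exact if_neg fun (e : χ = χo φ) => hχ (by rw [e]; exact Finset.mem_image_of_mem _ hφ)
  have hval_not : ∀ χ, χ ∉ Img → (χ : G → ℂ) z = (c χ : ℂ) := by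
    intro χ hχ
    rw [← hc χ]
    simp only [hFr, Pi.sub_apply, Finset.sum_apply, Pi.smul_apply, smul_eq_mul, hres]
    rw [Finset.sum_eq_zero (fun φ hφ => by rw [hu_none χ hχ φ hφ, Int.cast_zero, zero_mul]), sub_zero]
  set Aψ : IrrCharacter N → ℤ := fun ψ => δ ψ * c (χo ψ) with hAψ
  have hfz : ∀ ψ ∈ T, f ψ z = (Aψ ψ : ℂ) + (ψ : N → ℂ) z' := by
    intro ψ hψ
    have h1 := hc (χo ψ)
    simp only [hFr, Pi.sub_apply, Finset.sum_apply, Pi.smul_apply, smul_eq_mul, hres] at h1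
    rw [hu_single ψ hψ] at h1
    rw [hp2 ψ hψ, Pi.smul_apply, smul_eq_mul, hAψ, Int.cast_mul]
    have := hδ2 ψ
    linear_combination (δ ψ : ℂ) * h1 + (ψ : N → ℂ) z' * this
  set A : ℤ := Aψ ψ₀ with hA
  set F : ℤ := δ ψ₀ * (charDegree (χo ψ₀ : G → ℂ) : ℤ) with hF
  have hf1 : ∀ ψ ∈ T, f ψ 1 = ((δ ψ * (charDegree (χo ψ : G → ℂ) : ℤ) : ℤ) : ℂ) := fun ψ hψ => by
    rw [hp2 ψ hψ, Pi.smul_apply, smul_eq_mul, Int.cast_mul, Int.cast_natCast,
      charDegree_spec (IsIrr.isCharacter (χo ψ).2)]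
  have hprop : ∀ ψ ∈ T, Aψ ψ = (d ψ : ℤ) * A ∧
      δ ψ * (charDegree (χo ψ : G → ℂ) : ℤ) = (d ψ : ℤ) * F := by
    intro ψ hψ
    have hS1 := Coherence.mem_zspan_of_mem (hTS ψ hψ)
    have hS0 := Coherence.mem_zspan_of_mem (hTS ψ₀ hψ₀)
    set α := (ψ : N → ℂ) - (d ψ : ℤ) • (ψ₀ : N → ℂ) with hα
    have hα1 : α 1 = 0 := by simp [hα, (hd ψ hψ).2, hψ₀1, mul_comm]
    have hαmem : α ∈ zspanOn S {1}ᶜ := Coherence.mem_zspanOn_compl_one.2
      ⟨Coherence.zspan_sub hS1 (Coherence.zspan_zsmul _ hS0), hα1⟩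
    have hind : indFun N α = f ψ - (d ψ : ℂ) • f ψ₀ := by
      rw [← show τ₁ α = indFun N α from hag α hαmem, hα,
        Coherence.iso_zspan_sub hτ₁ hS1 (Coherence.zspan_zsmul _ hS0), hτ₁.2.1 _ hS0]
      funext x; simp [hfdef]
    have hoff : ∀ x : N, (x : G) ∉ K → α x = 0 := fun x hx => by
      have hx' : x ∉ K' := fun h => hx (mem_subgroupOf.1 h)
      simp [hα, ((hT ψ).1 hψ).off hC' hx', ((hT ψ₀).1 hψ₀).off hC' hx']
    have hαcl : IsClassFunction N α := fun g h => by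
      simp [hα, Char.isClassFunction_of_isIrr ψ.2 g h, Char.isClassFunction_of_isIrr ψ₀.2 g h]
    have h1 := indFun_ti_frob K hTI hC hαcl hoff hα1 z'
    rw [show ((z' : N) : G) = z from rfl] at h1
    have h2 : indFun N α 1 = 0 := by rw [indFun_apply_one, hα1, mul_zero]
    rw [hind, Pi.sub_apply, Pi.smul_apply, smul_eq_mul] at h1 h2
    rw [hfz ψ hψ, hfz ψ₀ hψ₀] at h1
    rw [hf1 ψ hψ, hf1 ψ₀ hψ₀, sub_eq_zero] at h2
    simp only [hα, Pi.sub_apply, Pi.smul_apply, Pi.mul_apply, Pi.natCast_apply, Pi.intCast_apply, zsmul_eq_mul, Int.cast_natCast] at h1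
    refine ⟨?_, by rw [hF]; exact_mod_cast h2⟩
    have h3 : (Aψ ψ : ℂ) = (((d ψ : ℤ) * A : ℤ) : ℂ) := by
      push_cast
      linear_combination h1
    exact_mod_cast h3
  -- identities in the normaliser
  have hnon : ∀ φ, φ ∉ T → ∀ k ∈ K', (φ : N → ℂ) k = (φ : N → ℂ) 1 := fun φ hφ k hk => by
    by_contra hne
    exact hφ ((hT φ).2 ⟨φ.2, k, hk, hne⟩)
  have hconj1 : ∀ φ : IrrCharacter N, conj ((φ : N → ℂ) 1) = (φ : N → ℂ) 1 := fun φ => by
    obtain ⟨n, -, hn⟩ := IsIrr.degree φ.2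
    rw [hn, map_natCast]
  set Tc := (Finset.univ : Finset (IrrCharacter N)) \ T with hTc
  set Q : ℂ := ∑ φ ∈ Tc, (φ : N → ℂ) 1 * (φ : N → ℂ) 1 with hQ
  have hQe : Q = (e : ℂ) := by
    have h1 : ∀ k : K', ∑ φ : IrrCharacter N, (φ : N → ℂ) k * conj ((φ : N → ℂ) 1) =
        if k = 1 then (Nat.card N : ℂ) else 0 := fun k => by
      rw [second_orthogonality]
      by_cases hk : k = 1
      · rw [if_pos hk, hk, OneMemClass.coe_one, if_pos (IsConj.refl _)]
        rw [show centralizer ({(1 : N)} : Set N) = ⊤ by ext x; simp [mem_centralizer_singleton_iff],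
          card_top]
      · rw [if_neg hk, if_neg fun h => hk (Subtype.ext (isConj_one_left.1 h))]
    have h2 := Finset.sum_congr rfl fun k (_ : k ∈ (Finset.univ : Finset K')) => h1 k
    rw [Finset.sum_comm, Finset.sum_ite_eq', if_pos (Finset.mem_univ _),
      ← Finset.sum_sdiff (Finset.subset_univ T)] at h2
    rw [Finset.sum_eq_zero (s := T) (fun φ hφ => by rw [← Finset.sum_mul, hsumS φ hφ, zero_mul]),
      add_zero] at h2
    have h3 : ∀ φ ∈ Tc, ∑ k : K', (φ : N → ℂ) k * conj ((φ : N → ℂ) 1) =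
        (r : ℂ) * ((φ : N → ℂ) 1 * (φ : N → ℂ) 1) := fun φ hφ => by
      rw [Finset.sum_congr rfl (fun k _ => by
        rw [hnon φ (Finset.mem_sdiff.1 hφ).2 k k.2, hconj1]), Finset.sum_const, Finset.card_univ,
        ← Nat.card_eq_fintype_card, hr', nsmul_eq_mul]
    rw [← hTc, Finset.sum_congr rfl h3, ← Finset.mul_sum, ← hQ, hN, Nat.cast_mul] at h2
    exact mul_left_cancel₀ (Nat.cast_ne_zero.2 (by omega)) h2
  have hz'C : centralizer ({z'} : Set N) = K' := le_antisymm (hC' z' hz' hz'1) fun x hx =>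
    mem_centralizer_singleton_iff.2 (Subtype.ext (hzc x (mem_subgroupOf.1 hx)))
  have hzC : centralizer ({z} : Set G) = K := le_antisymm (hC z hz hz1) fun x hx =>
    mem_centralizer_singleton_iff.2 (hzc x hx)
  have hNzz : ∑ ψ ∈ T, (ψ : N → ℂ) z' * conj ((ψ : N → ℂ) z') = (r : ℂ) - e := by
    have h := second_orthogonality z' z'
    rw [if_pos (IsConj.refl _), hz'C, hr', ← Finset.sum_sdiff (Finset.subset_univ T), ← hTc] at h
    rw [Finset.sum_congr rfl (fun φ hφ => by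
      rw [hnon φ (Finset.mem_sdiff.1 hφ).2 z' hz', hconj1]), ← hQ, hQe] at h
    linear_combination h
  have hNz1 : ∑ ψ ∈ T, (d ψ : ℂ) * (ψ : N → ℂ) z' = -1 := by
    have h := second_orthogonality z' (1 : N)
    rw [if_neg fun h => hz'1 (isConj_one_left.1 h), ← Finset.sum_sdiff (Finset.subset_univ T), ← hTc] at h
    rw [Finset.sum_congr rfl (fun φ hφ => by
      rw [hnon φ (Finset.mem_sdiff.1 hφ).2 z' hz', hconj1]), ← hQ, hQe,
      Finset.sum_congr rfl (fun (ψ : IrrCharacter N) hψ => show (ψ : N → ℂ) z' * conj ((ψ : N → ℂ) 1) =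
        (e : ℂ) * ((d ψ : ℂ) * (ψ : N → ℂ) z') by rw [hconj1, (hd ψ hψ).2]; ring), ← Finset.mul_sum] at h
    have he0 : (e : ℂ) ≠ 0 := Nat.cast_ne_zero.2 (K').index_ne_zero_of_finite
    refine mul_left_cancel₀ he0 ?_
    linear_combination h
  set m := ∑ ψ ∈ T, d ψ * d ψ with hm
  have hcard : e * m + 1 = r := by
    have h := second_orthogonality (1 : N) (1 : N)
    rw [if_pos (IsConj.refl _),
      show centralizer ({(1 : N)} : Set N) = ⊤ by ext x; simp [mem_centralizer_singleton_iff], card_top,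
      ← Finset.sum_sdiff (Finset.subset_univ T), ← hTc] at h
    rw [Finset.sum_congr rfl (fun φ (_ : φ ∈ Tc) => by rw [hconj1]), ← hQ, hQe,
      Finset.sum_congr rfl (fun (ψ : IrrCharacter N) hψ => show (ψ : N → ℂ) 1 * conj ((ψ : N → ℂ) 1) =
        (e : ℂ) * e * ((d ψ : ℂ) * d ψ) by rw [hconj1, (hd ψ hψ).2]; ring), ← Finset.mul_sum, hN] at h
    have h2 : e + e * e * m = r * e := by
      have : ((e + e * e * m : ℕ) : ℂ) = ((r * e : ℕ) : ℂ) := by
        rw [← h, hm]; push_cast; rfl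
      exact_mod_cast this
    have he0 : 0 < e := Nat.pos_of_ne_zero (K').index_ne_zero_of_finite
    refine Nat.eq_of_mul_eq_mul_left he0 ?_
    linear_combination h2
  -- two members and the trivial character
  have hone : one' G ∉ Img := by
    intro h
    obtain ⟨ψ, hψ, he⟩ := Finset.mem_image.1 h
    obtain ⟨φ, hφ, hne⟩ : ∃ φ ∈ T, φ ≠ ψ := by
      by_contra! hall
      obtain ⟨n, hn⟩ := Coherence.zspan_induction (P := fun α => ∃ n : ℤ, α = n • (ψ : N → ℂ)) hα₀.1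
        (fun χ hχ => by
          rw [hSeq] at hχ
          exact ⟨1, by rw [one_zsmul, ← hall ⟨χ, hχ.1⟩ ((hT _).2 hχ)]⟩)
        ⟨0, by simp⟩ (fun a b _ _ ⟨x, hx⟩ ⟨y, hy⟩ => ⟨x + y, by rw [hx, hy, add_zsmul]⟩)
        (fun k a _ ⟨x, hx⟩ => ⟨k * x, by rw [hx, mul_zsmul]⟩)
      have h1 := (Coherence.mem_zspanOn_compl_one.1 hα₀).2
      rw [hn] at h1
      simp only [Pi.smul_apply, zsmul_eq_mul, mul_eq_zero, IsIrr.one_ne_zero ψ.2, or_false, Int.cast_eq_zero] at h1
      exact hα₀ne (by rw [hn, h1, zero_zsmul])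
    have h1 := horth (one' G) φ ψ ((hT φ).1 hφ) ((hT ψ).1 hψ)
    have hres1 : res (one' G) = fun _ => 1 := rfl
    have h0 : ∀ ρ ∈ T, classInner (fun _ : N => (1 : ℂ)) (ρ : N → ℂ) = 0 := fun ρ hρ =>
      classInner_irr_ne isIrrCharacter_one ρ.2 fun e => by
        obtain ⟨k, -, hk⟩ := ((hT ρ).1 hρ).2
        exact hk (by rw [← e])
    have huψ : u (one' G) ψ = δ ψ := by rw [hu]; simp [he]
    have huφ : u (one' G) φ = 0 := by
      rw [hu]; simp only
      rw [if_neg fun e => hne (hinj φ hφ ψ hψ (e.symm.trans he.symm))]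
    rw [hFr] at h1
    simp only [hres1] at h1
    rw [classInner_sub_left, classInner_sum_left, classInner_sub_right, classInner_smul_right,
      classInner_smul_right, h0 φ hφ, h0 ψ hψ, mul_zero, mul_zero, sub_zero, zero_sub, neg_eq_zero,
      Finset.sum_eq_single ψ (fun ρ hρ hne' => by
        rw [hu]; simp only; rw [if_neg fun e => hne' (hinj ρ hρ ψ hψ (e.symm.trans he.symm))]; simp [Char.classInner_zero_left]) (fun h => absurd hψ h), huψ, classInner_smul_left,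
      classInner_sub_right, classInner_smul_right, classInner_smul_right, Char.classInner_irrChar,
      Char.classInner_irrChar, if_neg hne.symm, if_pos rfl, mul_zero, mul_one, zero_sub, mul_neg, neg_eq_zero,
      hconj1, mul_eq_zero] at h1
    rcases h1 with h1 | h1
    · rcases hp1 ψ with h' | h' <;> simp [hδ, h'] at h1
    · exact IsIrr.one_ne_zero φ.2 h1
  refine ⟨Side.mk Img c A F m hcard hone ?_ ?_ ?_ ?_ ?_ ?_ ?_⟩
  · have h1 := hval_not _ hone
    exact_mod_cast (show ((c (one' G) : ℤ) : ℂ) = 1 from h1.symm)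
  · have h := second_orthogonality z z
    rw [if_pos (IsConj.refl _), hzC, ← Finset.sum_sdiff (Finset.subset_univ Img),
      Finset.sum_congr rfl (fun χ hχ => by
        rw [hval_not χ (Finset.mem_sdiff.1 hχ).2, map_intCast, ← Int.cast_mul, ← pow_two]),
      hImg, Finset.sum_image hinj,
      Finset.sum_congr rfl (s₁ := T) (fun (ψ : IrrCharacter N) hψ => show (χo ψ : G → ℂ) z * conj ((χo ψ : G → ℂ) z) =
        ((d ψ : ℂ) * A + (ψ : N → ℂ) z') * ((d ψ : ℂ) * A + conj ((ψ : N → ℂ) z')) by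
          have h1 := hfz ψ hψ
          rw [hp2 ψ hψ, (hprop ψ hψ).1] at h1
          simp only [Pi.smul_apply, smul_eq_mul, Int.cast_mul, Int.cast_natCast] at h1
          have h2 := congrArg conj h1
          simp only [map_mul, map_add, map_intCast, map_natCast] at h2
          rw [← h2, ← h1]
          linear_combination (-(χo ψ : G → ℂ) z * conj ((χo ψ : G → ℂ) z)) * hδ2 ψ)] at h
    have hconjsum : ∑ ψ ∈ T, (d ψ : ℂ) * conj ((ψ : N → ℂ) z') = -1 := by
      have := congrArg conj hNz1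
      simpa [map_sum] using this
    have hexp : ∑ ψ ∈ T, ((d ψ : ℂ) * A + (ψ : N → ℂ) z') * ((d ψ : ℂ) * A + conj ((ψ : N → ℂ) z')) =
        (m : ℂ) * A ^ 2 - 2 * A + ((r : ℂ) - e) := by
      have h1 : ∀ ψ ∈ T, ((d ψ : ℂ) * A + (ψ : N → ℂ) z') * ((d ψ : ℂ) * A + conj ((ψ : N → ℂ) z')) =
          (A : ℂ) ^ 2 * ((d ψ : ℂ) * d ψ) + (A : ℂ) * ((d ψ : ℂ) * (ψ : N → ℂ) z') +
            (A : ℂ) * ((d ψ : ℂ) * conj ((ψ : N → ℂ) z')) +
            (ψ : N → ℂ) z' * conj ((ψ : N → ℂ) z') := fun ψ _ => by ring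
      rw [Finset.sum_congr rfl h1, Finset.sum_add_distrib, Finset.sum_add_distrib, Finset.sum_add_distrib,
        ← Finset.mul_sum, ← Finset.mul_sum, ← Finset.mul_sum, hNz1, hconjsum, hNzz, hm]
      push_cast
      ring
    rw [hexp, ← hrdef] at h
    have hh : ((∑ χ ∈ Finset.univ \ Img, c χ ^ 2 + ((m : ℤ) * A ^ 2 - 2 * A) : ℤ) : ℂ) = ((e : ℤ) : ℂ) := by
      push_cast at h ⊢
      rw [hImg]
      linear_combination h
    exact_mod_cast hh
  · intro χ hχ
    have h1 := hcdiv χ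
    rwa [Finset.sum_eq_zero (fun φ hφ => by rw [hu_none χ hχ φ hφ, zero_mul]), sub_zero] at h1
  · intro χ hχ
    obtain ⟨ψ, hψ, rfl⟩ := Finset.mem_image.1 hχ
    refine ⟨d ψ, (hd ψ hψ).1, ?_⟩
    have h1 := (hprop ψ hψ).2
    rcases hp1 ψ with h' | h' <;> simp only [hδ, h', one_mul, neg_mul] at h1
    · exact Or.inl (by rw [h1, mul_comm])
    · exact Or.inr (by rw [← neg_neg (charDegree (χo ψ : G → ℂ) : ℤ), h1, mul_comm])
  · refine ⟨χo ψ₀, Finset.mem_image_of_mem _ hψ₀, ?_⟩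
    rcases hp1 ψ₀ with h' | h' <;> simp [hF, hδ, h']
  · have h1 := hcdiv (χo ψ₀)
    have hd0 : d ψ₀ = 1 := by
      have := (hd ψ₀ hψ₀).2
      rw [hψ₀1] at this
      have he0 : e ≠ 0 := (K').index_ne_zero_of_finite
      have h2 : e = e * d ψ₀ := by exact_mod_cast this
      exact (Nat.eq_of_mul_eq_mul_left (Nat.pos_of_ne_zero he0) (by rw [mul_one]; exact h2)).symm
    rw [Finset.sum_eq_single ψ₀ (fun φ hφ hne => by
      rw [hu]
      simp only
      rw [if_neg fun e => hne (hinj ψ₀ hψ₀ φ hφ e).symm, zero_mul]) (fun h => absurd hψ₀ h), hd0] at h1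
    simp only [hu, if_true] at h1
    refine h1.trans ⟨δ ψ₀, ?_⟩
    simp only [hF, hA, hAψ]
    push_cast
    linear_combination (e : ℤ) * hδ2' ψ₀
  · have h := second_orthogonality z (1 : G)
    rw [if_neg fun h => hz1 (isConj_one_left.1 h), ← Finset.sum_sdiff (Finset.subset_univ Img),
      Finset.sum_congr rfl (fun (χ : IrrCharacter G) hχ => show (χ : G → ℂ) z * conj ((χ : G → ℂ) 1) =
        ((c χ * (charDegree (χ : G → ℂ) : ℤ) : ℤ) : ℂ) by
          rw [hval_not χ (Finset.mem_sdiff.1 hχ).2, charDegree_spec (IsIrr.isCharacter χ.2)]; simp),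
      hImg, Finset.sum_image hinj,
      Finset.sum_congr rfl (s₁ := T) (fun (ψ : IrrCharacter N) hψ => show (χo ψ : G → ℂ) z * conj ((χo ψ : G → ℂ) 1) =
        (F : ℂ) * ((A : ℂ) * ((d ψ : ℂ) * d ψ) + (d ψ : ℂ) * (ψ : N → ℂ) z') by
          have h1 := hfz ψ hψ
          rw [hp2 ψ hψ, (hprop ψ hψ).1] at h1
          simp only [Pi.smul_apply, smul_eq_mul, Int.cast_mul, Int.cast_natCast] at h1
          have h2 : ((δ ψ * (charDegree (χo ψ : G → ℂ) : ℤ) : ℤ) : ℂ) = (((d ψ : ℤ) * F : ℤ) : ℂ) :=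
            congrArg _ (hprop ψ hψ).2
          push_cast at h2
          rw [charDegree_spec (IsIrr.isCharacter (χo ψ).2), map_natCast]
          linear_combination (δ ψ : ℂ) * (charDegree (χo ψ : G → ℂ) : ℂ) * h1 +
            ((d ψ : ℂ) * A + (ψ : N → ℂ) z') * h2 -
            (χo ψ : G → ℂ) z * (charDegree (χo ψ : G → ℂ) : ℂ) * hδ2 ψ)] at h
    rw [← Finset.mul_sum, Finset.sum_add_distrib, ← Finset.mul_sum, hNz1] at h
    have hh : ((∑ χ ∈ Finset.univ \ Img, c χ * (charDegree (χ : G → ℂ) : ℤ) + F * ((m : ℤ) * A - 1) : ℤ) : ℂ) =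
        ((0 : ℤ) : ℂ) := by
      simp only [hm, hImg]
      push_cast at h ⊢
      linear_combination h
    exact_mod_cast hh

end Cfsg.Agent.SpecFive
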