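import Cfsg.Agent.SpecFive.Chars
import Cfsg.Agent.SpecFive.Arith
import Cfsg.Agent.SpecFive.Count
import Cfsg.Agent.Fusion.Control
import Cfsg.Agent.S0144

/-!
Simple groups without elements of order above five and with Sylow 3-subgroups of order at least nine.
-/

set_option autoImplicit false

namespace Cfsg.Agent.SpecFive

open Subgroup
open Cfsg.Agent.CharArith (charDegree_spec)

universe u

variable {G : Type u} [Group G]

theorem Ord.card_eq_prod [Finite G] (h : Ord G) :
    ∃ a b d, Nat.card G = 2 ^ a * (3 ^ b * 5 ^ d) := by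
  classical
  refine ⟨(Nat.card G).factorization 2, (Nat.card G).factorization 3, (Nat.card G).factorization 5, ?_⟩
  conv_lhs => rw [← Nat.prod_factorization_pow_eq_self (Nat.card_pos (α := G)).ne']
  rw [Finsupp.prod_of_support_subset _ (show (Nat.card G).factorization.support ⊆ ({2, 3, 5} : Finset ℕ) by
    intro q hq
    rw [Nat.support_factorization, Nat.mem_primeFactors] at hq
    simpa using h.prime_cases hq.1 hq.2.1) _ (fun i _ => pow_zero i)]
  simp [Finset.prod_insert]

theorem Ord.dvd_of_simple [Finite G] [IsSimpleGroup G] (hna : ¬ IsMulCommutative G) (h : Ord G)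
    {p : ℕ} (hp : p = 2 ∨ p = 3 ∨ p = 5) : p ∣ Nat.card G := by
  by_contra hd
  obtain ⟨a, b, d, hG⟩ := h.card_eq_prod
  have hz : ∀ k : ℕ, p ^ k ∣ Nat.card G → k = 0 := fun k hk => by
    by_contra hk0
    exact hd ((dvd_pow_self p hk0).trans hk)
  obtain ⟨q, r, a', b', hq, hr, hqr⟩ : ∃ q r a' b', q.Prime ∧ r.Prime ∧ Nat.card G = q ^ a' * r ^ b' := by
    rcases hp with rfl | rfl | rfl
    · exact ⟨3, 5, b, d, Nat.prime_three, Nat.prime_five, by
        rw [hG, hz a ⟨3 ^ b * 5 ^ d, hG⟩, pow_zero, one_mul]⟩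
    · exact ⟨2, 5, a, d, Nat.prime_two, Nat.prime_five, by
        rw [hG, hz b ⟨2 ^ a * 5 ^ d, by rw [hG]; ring⟩, pow_zero, one_mul]⟩
    · exact ⟨2, 3, a, b, Nat.prime_two, Nat.prime_three, by
        rw [hG, hz d ⟨2 ^ a * 3 ^ b, by rw [hG]; ring⟩, pow_zero, mul_one]⟩
  exact hna ⟨⟨IsSimpleGroup.comm_iff_isSolvable.2 (S0144.result q r a' b' hq hr hqr)⟩⟩

variable [Fintype G]

/-- What the Sylow 5-subgroup yields. -/
structure FiveFacts (R : Sylow 5 G) (e' : ℕ) : Prop where
  cases : e' = 2 ∨ e' = 3 ∨ e' = 4 ∨ e' = 8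
  rel : (R : Subgroup G).relIndex (normalizer ((R : Subgroup G) : Set G)) = e'
  cent : ∀ x ∈ (R : Subgroup G), x ≠ 1 → centralizer ({x} : Set G) ≤ R
  ti : ∀ S T : Sylow 5 G, S ≠ T → (S : Subgroup G) ⊓ T = ⊥
  pow : ∀ (χ : IrrCharacter G) (j : ℕ), 1 ≤ j → charDegree (χ : G → ℂ) = 5 ^ j →
    Nat.card (R : Subgroup G) ∣ charDegree (χ : G → ℂ)
  odd : 125 ≤ Nat.card (R : Subgroup G) → ∃ χ : IrrCharacter G, χ ≠ one' G ∧
    Odd (charDegree (χ : G → ℂ)) ∧ ∃ s : ℤ, (Nat.card (R : Subgroup G) : ℤ) ∣ (charDegree (χ : G → ℂ) : ℤ) - s ∧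
      (s.natAbs = 1 ∨ s.natAbs = e')

theorem ti_of_centralizer_eq {p : ℕ}
    (hC : ∀ P : Sylow p G, ∀ x ∈ (P : Subgroup G), x ≠ 1 → centralizer ({x} : Set G) = P)
    (S T : Sylow p G) (hne : S ≠ T) : (S : Subgroup G) ⊓ T = ⊥ := by
  rw [eq_bot_iff]
  intro x hx
  rw [mem_bot]
  by_contra hx1
  exact hne (Sylow.ext ((hC S x hx.1 hx1).symm.trans (hC T x hx.2 hx1)))

theorem Ord.exists_five [IsSimpleGroup G] (hna : ¬ IsMulCommutative G) (h : Ord G) (R : Sylow 5 G) :
    ∃ e', FiveFacts R e' := by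
  classical
  have : Fact (Nat.Prime 5) := ⟨Nat.prime_five⟩
  have h5 := h.dvd_of_simple hna (p := 5) (Or.inr (Or.inr rfl))
  have hR1 : (R : Subgroup G) ≠ ⊥ := fun e => by
    have := R.dvd_card_of_dvd_card h5
    rw [e, Subgroup.card_bot] at this
    norm_num at this
  obtain ⟨d, hd⟩ := IsPGroup.iff_card.1 R.isPGroup'
  have hd1 : 1 ≤ d := by
    by_contra hd0
    rw [show d = 0 by omega, pow_zero] at hd
    exact hR1 (Subgroup.eq_bot_of_card_eq _ hd)
  have hside : ∀ e', (e' = 2 ∨ e' = 3 ∨ e' = 4 ∨ e' = 8) →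
      (25 ≤ Nat.card (R : Subgroup G) → Nonempty (Side G (Nat.card (R : Subgroup G)) e')) →
      (∀ (χ : IrrCharacter G) (j : ℕ), 1 ≤ j → charDegree (χ : G → ℂ) = 5 ^ j →
        Nat.card (R : Subgroup G) ∣ charDegree (χ : G → ℂ)) ∧
      (125 ≤ Nat.card (R : Subgroup G) → ∃ χ : IrrCharacter G, χ ≠ one' G ∧
        Odd (charDegree (χ : G → ℂ)) ∧ ∃ s : ℤ,
          (Nat.card (R : Subgroup G) : ℤ) ∣ (charDegree (χ : G → ℂ) : ℤ) - s ∧
            (s.natAbs = 1 ∨ s.natAbs = e')) := by
    intro e' he' hS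
    refine ⟨fun χ j hj hdeg => ?_, fun h125 => ?_⟩
    · rcases (show d = 1 ∨ 2 ≤ d by omega) with rfl | hd2
      · rw [hd, hdeg, pow_one]; exact dvd_pow_self 5 (by omega)
      · have h25 : 25 ≤ Nat.card (R : Subgroup G) := hd ▸ Nat.pow_le_pow_right (by norm_num : 0 < 5) hd2
        obtain ⟨S⟩ := hS h25
        have hme := S.card_eq
        have hr : Nat.card (R : Subgroup G) = 25 ∨ 125 ≤ Nat.card (R : Subgroup G) := by
          rcases (show d = 2 ∨ 3 ≤ d by omega) with rfl | hd3
          · exact Or.inl hd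
          · exact Or.inr (hd ▸ Nat.pow_le_pow_right (by norm_num : 0 < 5) hd3)
        have hm3 : 3 ≤ S.m := by
          rcases he' with rfl | rfl | rfl | rfl <;> omega
        refine S.pow_dvd Nat.prime_five (by norm_num) (by rw [hd]; exact dvd_pow_self 5 (by omega))
          (by omega) (by omega) (fun A hA => ?_) hj hdeg
        have hA1 : -1 ≤ A ∧ A ≤ 1 := by
          have hm' : (3 : ℤ) ≤ S.m := by exact_mod_cast hm3
          have he8 : (e' : ℤ) ≤ 8 := by exact_mod_cast (show e' ≤ 8 by omega)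
          have := mul_le_mul_of_nonneg_right hm' (sq_nonneg A)
          constructor <;> nlinarith
        obtain ⟨hA0, hA1'⟩ := hA1
        have hA' : A = 0 ∨ (e' = 8 ∧ Nat.card (R : Subgroup G) = 25) := by
          by_contra! hne
          obtain ⟨hA2, hr'⟩ := hne
          have hm' : e' + 2 ≤ S.m := by
            rcases he' with rfl | rfl | rfl | rfl <;> omega
          have h2 : ((e' : ℤ) + 2) ≤ S.m := by exact_mod_cast hm'
          have h3 : 1 ≤ A ^ 2 := by
            have := sq_pos_of_ne_zero hA2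
            omega
          have h4 : A ≤ A ^ 2 := Int.le_self_sq A
          have h5 : (e' : ℤ) * 1 ≤ ((S.m : ℤ) - 2) * A ^ 2 :=
            mul_le_mul (by omega) h3 zero_le_one (by omega)
          linarith
        rcases hA' with rfl | ⟨rfl, -⟩
        · rcases he' with rfl | rfl | rfl | rfl <;>
            refine ⟨by norm_num, fun h' => ?_, fun h' => ?_⟩ <;>
            · have := Int.le_of_dvd (by norm_num) h'
              have : (25 : ℤ) ≤ ((Nat.card (R : Subgroup G) : ℕ) : ℤ) := by exact_mod_cast h25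
              omega
        · interval_cases A <;>
            refine ⟨by norm_num, fun h' => ?_, fun h' => ?_⟩ <;>
            · have := Int.le_of_dvd (by norm_num) h'
              have : (25 : ℤ) ≤ ((Nat.card (R : Subgroup G) : ℕ) : ℤ) := by exact_mod_cast h25
              omega
    · obtain ⟨S⟩ := hS (by omega)
      have hme := S.card_eq
      have hm : e' + 2 ≤ S.m := by rcases he' with rfl | rfl | rfl | rfl <;> omega
      have hA := S.A_zero hm
      obtain ⟨χ, h1, hodd, s, hs, hsl⟩ := S.odd_member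
      refine ⟨χ, h1, hodd, s, hs, ?_⟩
      rw [hA] at hsl
      rcases hsl with ⟨ho, hle⟩ | hsl | hsl
      · left
        have he8 : (e' : ℤ) ≤ 8 := by exact_mod_cast (show e' ≤ 8 by omega)
        have h2 : -2 ≤ s ∧ s ≤ 2 := by constructor <;> nlinarith
        obtain ⟨k, rfl⟩ := ho
        omega
      · right; omega
      · right; omega
  by_cases hI : Inverted 5 G
  · obtain ⟨g, b, hb, hb1, hg⟩ := hI
    have hC : ∀ P : Sylow 5 G, ∀ x ∈ (P : Subgroup G), x ≠ 1 → centralizer ({x} : Set G) = P :=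
      fun P => (h.sylow_of_inverted (Or.inr rfl) hb hb1 hg P).1
    have he := h.normalizer_of_inverted (Or.inr rfl) ⟨g, b, hb, hb1, hg⟩ R hR1
    simp only [Finset.mem_insert, Finset.mem_singleton] at he
    set e' := (R : Subgroup G).relIndex (normalizer ((R : Subgroup G) : Set G)) with hedef
    obtain ⟨hp, ho⟩ := hside e' (by omega) fun h25 =>
      exists_side_abelian R hR1 (hC R) (by omega) (by omega)
    exact ⟨e', by tauto, rfl, fun x hx hx1 => (hC R x hx hx1).le, ti_of_centralizer_eq hC, hp, ho⟩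
  · obtain ⟨he | he, -⟩ := h.normalizer_five hI R hR1
    · exfalso
      have hN : normalizer ((R : Subgroup G) : Set G) = R :=
        le_antisymm (relIndex_eq_one.1 he) le_normalizer
      have hTI := h.isTI_five hI R
      have hcompl : Cfsg.HasNormalPComplement 5 G := by
        refine Fusion.hasNormalPComplement_of_frobenius_sylow R fun Q hQ g hg hcop => ?_
        by_cases hQ1 : Q = ⊥
        · rw [hQ1, mem_centralizer_iff]
          intro x hx
          rw [SetLike.mem_coe, mem_bot] at hx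
          rw [hx, one_mul, mul_one]
        obtain ⟨q, hq, hq1⟩ := (bot_or_exists_ne_one Q).resolve_left hQ1
        have hgR : g ∈ normalizer ((R : Subgroup G) : Set G) := by
          by_contra hgR
          exact hq1 (hTI g hgR q (hQ hq) (hQ ((mem_normalizer_iff.1 hg q).1 hq)))
        rw [hN] at hgR
        have hg5 := orderOf_dvd_of_pow_eq_one (h.pow_eq_one_of_isPGroup (Or.inr rfl) R.isPGroup' hgR)
        have hg1 : g = 1 := orderOf_eq_one_iff.1 (Nat.eq_one_of_dvd_coprimes hcop dvd_rfl hg5)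
        rw [hg1]
        exact one_mem _
      obtain ⟨P, N, hN', hNP⟩ := hcompl
      rcases IsSimpleGroup.eq_bot_or_eq_top_of_normal N hN' with e | e
      · subst e
        rw [isComplement'_bot_left] at hNP
        refine absurd (h.dvd_of_simple hna (p := 2) (Or.inl rfl)) fun h2 => ?_
        obtain ⟨k, hk⟩ := IsPGroup.iff_card.1 P.isPGroup'
        rw [hNP, Subgroup.card_top] at hk
        rw [hk] at h2
        exact absurd (Nat.prime_two.dvd_of_dvd_pow h2) (by norm_num)
      · subst e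
        rw [isComplement'_top_left] at hNP
        have := P.dvd_card_of_dvd_card h5
        rw [hNP, Subgroup.card_bot] at this
        norm_num at this
    · obtain ⟨hp, ho⟩ := hside 3 (by omega) fun _ => exists_side_five h hI R hR1 he
      exact ⟨3, by omega, he, h.centralizer_le_five hI R, h.ti_five hI, hp, ho⟩

/-- A simple group of this kind has order `360`. -/
theorem Ord.simple_card [IsSimpleGroup G] (hna : ¬ IsMulCommutative G) (h : Ord G) (P : Sylow 3 G)
    (hP9 : 9 ≤ Nat.card (P : Subgroup G)) :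
    Nat.card G = 360 ∧ (P : Subgroup G).relIndex (normalizer ((P : Subgroup G) : Set G)) = 4 := by
  classical
  have : Fact (Nat.Prime 2) := ⟨Nat.prime_two⟩
  have : Fact (Nat.Prime 3) := ⟨Nat.prime_three⟩
  have : Fact (Nat.Prime 5) := ⟨Nat.prime_five⟩
  obtain ⟨a', hau⟩ := exists_prime_orderOf_dvd_card' 2 (h.dvd_of_simple hna (p := 2) (Or.inl rfl))
  obtain ⟨b', hbu⟩ := exists_prime_orderOf_dvd_card' 3 (h.dvd_of_simple hna (p := 3) (Or.inr (Or.inl rfl)))
  obtain ⟨g, c, hc, hc1, hg⟩ := h.exists_inverted_three (a := a') (b := b')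
    (by rw [← pow_two, ← hau, pow_orderOf_eq_one])
    (fun e => by rw [e, orderOf_one] at hau; omega) (by rw [← hbu, pow_orderOf_eq_one])
    (fun e => by rw [e, orderOf_one] at hbu; omega)
  have hC : ∀ P : Sylow 3 G, ∀ x ∈ (P : Subgroup G), x ≠ 1 → centralizer ({x} : Set G) = P :=
    fun P => (h.sylow_of_inverted (Or.inl rfl) hc hc1 hg P).1
  have hP1 : (P : Subgroup G) ≠ ⊥ := fun e => by rw [e, Subgroup.card_bot] at hP9; omega
  have he := h.normalizer_of_inverted (Or.inl rfl) ⟨g, c, hc, hc1, hg⟩ P hP1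
  simp only [Finset.mem_insert, Finset.mem_singleton] at he
  set e := (P : Subgroup G).relIndex (normalizer ((P : Subgroup G) : Set G)) with hedef
  clear_value e
  obtain ⟨R⟩ : Nonempty (Sylow 5 G) := inferInstance
  obtain ⟨e', hF⟩ := h.exists_five hna R
  obtain ⟨a, b, d, hG⟩ := h.card_eq_prod
  have hq : Nat.card (P : Subgroup G) = 3 ^ b := by
    rw [P.card_eq_multiplicity, hG, show 2 ^ a * (3 ^ b * 5 ^ d) = 3 ^ b * (2 ^ a * 5 ^ d) by ring,
      Nat.factorization_mul (by positivity) (by positivity), Nat.factorization_pow,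
      Finsupp.add_apply, Finsupp.smul_apply, Nat.Prime.factorization_self Nat.prime_three,
      Nat.factorization_eq_zero_of_not_dvd (fun h3 => by
        rcases (Nat.prime_three.dvd_mul).1 h3 with h' | h' <;>
          exact absurd (Nat.prime_three.dvd_of_dvd_pow h') (by norm_num))]
    simp
  have hr : Nat.card (R : Subgroup G) = 5 ^ d := by
    rw [R.card_eq_multiplicity, hG, show 2 ^ a * (3 ^ b * 5 ^ d) = 5 ^ d * (2 ^ a * 3 ^ b) by ring,
      Nat.factorization_mul (by positivity) (by positivity), Nat.factorization_pow,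
      Finsupp.add_apply, Finsupp.smul_apply, Nat.Prime.factorization_self Nat.prime_five,
      Nat.factorization_eq_zero_of_not_dvd (fun h5 => by
        rcases (Nat.prime_five.dvd_mul).1 h5 with h' | h' <;>
          exact absurd (Nat.prime_five.dvd_of_dvd_pow h') (by norm_num))]
    simp
  have hd1 : 1 ≤ d := by
    by_contra hd0
    have := h.dvd_of_simple hna (p := 5) (Or.inr (Or.inr rfl))
    have h' := R.dvd_card_of_dvd_card this
    rw [hr, show d = 0 by omega] at h'
    norm_num at h'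
  have hb2 : 2 ≤ b := by
    by_contra hb0
    rw [hq] at hP9
    have : 3 ^ b ≤ 3 ^ 1 := Nat.pow_le_pow_right (by norm_num) (by omega)
    omega
  have hdvdG : ∀ χ : IrrCharacter G, charDegree (χ : G → ℂ) ∣ 2 ^ a * (3 ^ b * 5 ^ d) := fun χ => by
    rw [← hG]
    exact Char.IsIrr.degree_dvd_card χ.2 (charDegree_spec (Char.IsIrr.isCharacter χ.2))
  have hcop : ∀ {n p k : ℕ}, p.Prime → ¬ p ∣ n → n.Coprime (p ^ k) := fun hp hn =>
    Nat.Coprime.pow_right _ ((Nat.Prime.coprime_iff_not_dvd hp).2 hn).symm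
  -- degrees prime to two and three
  have hfive : ∀ χ : IrrCharacter G, χ ≠ one' G → Odd (charDegree (χ : G → ℂ)) →
      ¬ 3 ∣ charDegree (χ : G → ℂ) → ∃ j, 1 ≤ j ∧ j ≤ d ∧ charDegree (χ : G → ℂ) = 5 ^ j := by
    intro χ h1 hodd h3
    have h5 := (hcop Nat.prime_three h3 (k := b)).dvd_of_dvd_mul_left
      ((hcop Nat.prime_two (fun h2 => Nat.not_even_iff_odd.2 hodd (even_iff_two_dvd.2 h2)) (k := a)).dvd_of_dvd_mul_left (hdvdG χ))
    obtain ⟨j, hj, hjd⟩ := (Nat.dvd_prime_pow Nat.prime_five).1 h5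
    refine ⟨j, ?_, hj, hjd⟩
    by_contra hj0
    rw [show j = 0 by omega, pow_zero] at hjd
    exact h1 ((deg_eq_one_iff hna χ).1 hjd)
  have hdeg_r : ∀ χ : IrrCharacter G, χ ≠ one' G → Odd (charDegree (χ : G → ℂ)) →
      ¬ 3 ∣ charDegree (χ : G → ℂ) → charDegree (χ : G → ℂ) = 5 ^ d := by
    intro χ h1 hodd h3
    obtain ⟨j, hj1, hjd, hd'⟩ := hfive χ h1 hodd h3
    have h' := hF.pow χ j hj1 hd'
    rw [hr, hd'] at h'
    rw [hd', le_antisymm hjd (Nat.pow_dvd_pow_iff_le_right (by norm_num : 1 < 5) |>.1 h')]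
  -- the automiser of `P`
  have he48 : e = 4 ∨ e = 8 := by
    rcases he with he2 | he4 | he8
    swap
    · exact Or.inl he4
    swap
    · exact Or.inr he8
    exfalso
    obtain ⟨S⟩ := exists_side_abelian P hP1 (hC P) (by omega) (by omega)
    rw [← hedef, he2] at S
    have hm := S.card_eq
    obtain ⟨χ, ψ, D, E, hχ1, hψ1, hD, hE, hED, hqD, hqE⟩ := S.two (by omega)
    rw [hq] at hqD hqE
    have h3q : (3 : ℤ) ∣ ((3 ^ b : ℕ) : ℤ) := by
      rw [Nat.cast_pow]; exact dvd_pow_self _ (by omega)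
    have h3D : ¬ (3 : ℤ) ∣ D := fun h' => by
      have := dvd_sub h' (h3q.trans hqD)
      rw [sub_sub_cancel] at this
      norm_num at this
    have h3E : ¬ (3 : ℤ) ∣ E := fun h' => by
      have := dvd_sub h' (h3q.trans hqE)
      rw [sub_sub_cancel] at this
      norm_num at this
    have h3D' : ¬ 3 ∣ D.natAbs := fun h' => h3D (Int.natCast_dvd.2 h')
    have h3E' : ¬ 3 ∣ E.natAbs := fun h' => h3E (Int.natCast_dvd.2 h')
    have hq9 : (9 : ℤ) ≤ ((3 ^ b : ℕ) : ℤ) := by
      rw [← hq]; exact_mod_cast hP9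
    have key : ∀ X Y : ℕ, ∀ φ : IrrCharacter G, Odd X → X + 1 = Y ∨ Y + 1 = X → φ ≠ one' G →
        X = charDegree (φ : G → ℂ) → ¬ 3 ∣ X → ¬ 3 ∣ Y → (∃ ρ : IrrCharacter G, Y = charDegree (ρ : G → ℂ)) →
        X = 5 ∧ Y = 4 := by
      intro X Y φ hX hXY hφ hXd h3X h3Y hY
      obtain ⟨ρ, hρ⟩ := hY
      obtain ⟨j, hj1, -, hj⟩ := hfive φ hφ (hXd ▸ hX) (hXd ▸ h3X)
      rw [← hXd] at hj
      have h5Y : ¬ 5 ∣ Y := fun h5 => by
        have : 5 ∣ X := hj ▸ dvd_pow_self 5 (by omega)
        omega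
      have hY2 := (hcop Nat.prime_three h3Y (k := b)).dvd_of_dvd_mul_left
        ((hcop Nat.prime_five h5Y (k := d)).dvd_of_dvd_mul_right
          (show Y ∣ 3 ^ b * 2 ^ a * 5 ^ d by rw [hρ, show 3 ^ b * 2 ^ a * 5 ^ d = 2 ^ a * (3 ^ b * 5 ^ d) by ring]; exact hdvdG ρ))
      obtain ⟨i, -, hi⟩ := (Nat.dvd_prime_pow Nat.prime_two).1 hY2
      obtain ⟨rfl, rfl⟩ := two_pow_consec hj1 (i := i) (by rcases hXY with h' | h' <;> omega)
      exact ⟨by rw [hj]; norm_num, by rw [hi]; norm_num⟩
    have hor : D.natAbs + 1 = E.natAbs ∨ E.natAbs + 1 = D.natAbs := by omega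
    have hcases : (D.natAbs = 5 ∧ E.natAbs = 4) ∨ (E.natAbs = 5 ∧ D.natAbs = 4) := by
      rcases Nat.even_or_odd D.natAbs with hev | hodd
      · refine Or.inr (key _ _ ψ ?_ hor.symm hψ1 hE h3E' h3D' ⟨χ, hD⟩)
        rcases hor with h' | h'
        · rw [← h']; exact hev.add_one
        · rw [← h'] at hev; exact Nat.not_even_iff_odd.1 (fun he => Nat.not_even_iff_odd.2 he.add_one hev)
      · exact Or.inl (key _ _ χ hodd hor hχ1 hD h3D' h3E' ⟨ψ, hE⟩)
    obtain ⟨k, hk⟩ := hqD
    rcases (show D = 4 ∨ D = -5 by omega) with rfl | rfl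
    · have := Int.le_of_dvd (by norm_num) (Dvd.intro k hk.symm)
      omega
    · have := Int.le_of_dvd (by norm_num : (0 : ℤ) < 6) (show ((3 ^ b : ℕ) : ℤ) ∣ 6 from ⟨-k, by linarith⟩)
      omega
  -- the degree seen by `P`
  have hPside : (∃ χ : IrrCharacter G, χ ≠ one' G ∧ Odd (charDegree (χ : G → ℂ)) ∧ ∃ s : ℤ,
      ((3 ^ b : ℕ) : ℤ) ∣ (charDegree (χ : G → ℂ) : ℤ) - s ∧
      (s.natAbs = 1 ∨ s.natAbs = e ∨ (3 ^ b = 9 ∧ e = 4 ∧ s.natAbs = 5))) ∧
      ∀ (χ : IrrCharacter G) (j : ℕ), 1 ≤ j → charDegree (χ : G → ℂ) = 3 ^ j →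
        3 ^ b ∣ charDegree (χ : G → ℂ) := by
    have h27 : 3 ^ b = 9 ∨ 27 ≤ 3 ^ b := by
      rcases (show b = 2 ∨ 3 ≤ b by omega) with rfl | h'
      · exact Or.inl (by norm_num)
      · exact Or.inr (Nat.pow_le_pow_right (by norm_num : 0 < 3) h')
    by_cases h89 : e = 8 ∧ 3 ^ b = 9
    · obtain ⟨⟨χ, h1, hodd, s, hs, hso, hs8⟩, hp⟩ := nine_eight P (hq.trans h89.2) (hC P) (hedef.symm.trans h89.1)
      refine ⟨⟨χ, h1, hodd, s, by rw [h89.2]; exact_mod_cast hs, Or.inl ?_⟩, fun χ j hj hd' => ?_⟩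
      · have h2 : -2 ≤ s ∧ s ≤ 2 := by constructor <;> nlinarith
        obtain ⟨k, rfl⟩ := hso
        omega
      · rw [h89.2]; exact hp χ j hj hd'
    obtain ⟨S⟩ := exists_side_abelian P hP1 (hC P) (by omega) (by
      rw [hq]
      rcases h27 with h' | h' <;> omega)
    rw [← hedef, hq] at S
    have hme := S.card_eq
    have hcl : (3 ^ b = 9 ∧ e = 4 ∧ S.m = 2) ∨ (27 ≤ 3 ^ b ∧ e + 2 ≤ S.m) := by
      rcases h27 with h' | h'
      · left
        rcases he48 with h4 | h8
        · subst h4; exact ⟨h', rfl, by omega⟩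
        · exact absurd ⟨h8, h'⟩ h89
      · refine Or.inr ⟨h', ?_⟩
        rcases he48 with h4 | h8
        · subst h4; omega
        · subst h8
          rcases (show b = 3 ∨ 4 ≤ b by
            by_contra hb; have : b ≤ 2 := by omega
            have := Nat.pow_le_pow_right (by norm_num : 0 < 3) this; omega) with rfl | hb4
          · omega
          · have := Nat.pow_le_pow_right (by norm_num : 0 < 3) hb4
            omega
    refine ⟨?_, fun χ j hj hd' => ?_⟩
    · obtain ⟨χ, h1, hodd, s, hs, hsl⟩ := S.odd_member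
      refine ⟨χ, h1, hodd, s, hs, ?_⟩
      have hA := S.A_le
      have he8 : (e : ℤ) ≤ 8 := by exact_mod_cast (show e ≤ 8 by omega)
      rcases hsl with ⟨hso, hle⟩ | hsl
      · left
        have hnn : 0 ≤ (S.m : ℤ) * S.A ^ 2 - 2 * S.A := by
          have hm' : (2 : ℤ) ≤ S.m := by exact_mod_cast (show 2 ≤ S.m by omega)
          have := mul_le_mul_of_nonneg_right hm' (sq_nonneg S.A)
          have := Int.le_self_sq S.A
          linarith
        have h2 : -2 ≤ s ∧ s ≤ 2 := by constructor <;> nlinarith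
        obtain ⟨k, rfl⟩ := hso
        omega
      · rcases hcl with ⟨h9, h4, hm⟩ | ⟨-, hm⟩
        · subst h4; rw [hm] at hA
          push_cast at hA
          have : S.A = 0 ∨ S.A = 1 := by
            rcases (show S.A ≤ -1 ∨ S.A = 0 ∨ S.A = 1 ∨ 2 ≤ S.A by omega) with h' | h' | h' | h' <;>
              first | (left; exact h') | (right; exact h') | nlinarith
          rcases hsl with rfl | rfl <;> rcases this with h' | h' <;> rw [h'] <;> omega
        · rw [S.A_zero hm] at hsl
          rcases hsl with rfl | rfl <;> omega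
    · refine S.pow_dvd Nat.prime_three le_rfl (dvd_pow_self 3 (by omega)) (by omega) (by omega)
        (fun A hA => ?_) hj hd'
      rcases hcl with ⟨h9, h4, hm⟩ | ⟨h27', hm⟩
      · subst h4; rw [hm] at hA
        push_cast at hA
        rcases (show A ≤ -1 ∨ A = 0 ∨ A = 1 ∨ 2 ≤ A by omega) with h' | rfl | rfl | h'
        · exact absurd hA (by nlinarith)
        · rw [h9]; norm_num
        · rw [h9]; norm_num
        · exact absurd hA (by nlinarith)
      · have hA0 : A = 0 := by
          by_contra hA0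
          have h1 : 1 ≤ A ^ 2 := by have := sq_pos_of_ne_zero hA0; omega
          have h2 : (e : ℤ) + 2 ≤ S.m := by exact_mod_cast hm
          have h3 : A ≤ A ^ 2 := Int.le_self_sq A
          have h4 : (e : ℤ) * 1 ≤ ((S.m : ℤ) - 2) * A ^ 2 :=
            mul_le_mul (by omega) h1 zero_le_one (by omega)
          linarith
        subst hA0
        have h27'' : (27 : ℤ) ≤ ((3 ^ b : ℕ) : ℤ) := by exact_mod_cast h27'
        rcases he48 with h' | h' <;> rw [h'] <;>
          refine ⟨by norm_num, fun hdv => ?_, fun hdv => ?_⟩ <;>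
          · have := Int.le_of_dvd (by norm_num) hdv
            omega
  obtain ⟨⟨χ, hχ1, hχodd, s, hs, hsl⟩, hPpow⟩ := hPside
  have hχ3 : ¬ 3 ∣ charDegree (χ : G → ℂ) := fun h3 => by
    have h3q : (3 : ℤ) ∣ ((3 ^ b : ℕ) : ℤ) := by
      rw [Nat.cast_pow]; exact dvd_pow_self _ (by omega)
    have := dvd_sub (Int.natCast_dvd_natCast.2 h3 : ((3 : ℕ) : ℤ) ∣ _) (h3q.trans hs)
    rw [sub_sub_cancel] at this
    rcases he48 with h' | h' <;> omega
  have hχd := hdeg_r χ hχ1 hχodd hχ3
  rw [hχd] at hs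
  have hdvd : e ∣ 3 ^ b - 1 := by
    rcases (show (e = 8 ∧ 3 ^ b = 9) ∨ ¬ (e = 8 ∧ 3 ^ b = 9) from em _) with ⟨h1, h2⟩ | h1
    · rw [h1, h2]
    · obtain ⟨S⟩ := exists_side_abelian P hP1 (hC P) (by omega) (by omega)
      exact ⟨S.m, by rw [hedef, ← hq]; have := S.card_eq; omega⟩
  obtain ⟨hq9, hr5, he4⟩ := orders_eq (b := b) (d := d) hb2 hd1 he48 hF.cases hdvd ⟨s, hs, hsl⟩ (fun h125 => by
    obtain ⟨ψ, hψ1, hψodd, s', hs', hsl'⟩ := hF.odd (by rw [hr]; exact h125)
    have h5 : ¬ 5 ∣ charDegree (ψ : G → ℂ) := fun h5 => by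
      have h5r : (5 : ℤ) ∣ ((Nat.card (R : Subgroup G) : ℕ) : ℤ) := by
        rw [hr, Nat.cast_pow]; exact dvd_pow_self _ (by omega)
      have := dvd_sub (Int.natCast_dvd_natCast.2 h5 : ((5 : ℕ) : ℤ) ∣ _) (h5r.trans hs')
      rw [sub_sub_cancel] at this
      rcases hF.cases with h' | h' | h' | h' <;> omega
    have h3' := (hcop Nat.prime_five h5 (k := d)).dvd_of_dvd_mul_right
      ((hcop Nat.prime_two (fun h2 => Nat.not_even_iff_odd.2 hψodd (even_iff_two_dvd.2 h2)) (k := a)).dvd_of_dvd_mul_left (hdvdG ψ))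
    obtain ⟨k, hk, hkd⟩ := (Nat.dvd_prime_pow Nat.prime_three).1 h3'
    have hk1 : 1 ≤ k := by
      by_contra hk0
      rw [show k = 0 by omega, pow_zero] at hkd
      exact hψ1 ((deg_eq_one_iff hna ψ).1 hkd)
    have h' := hPpow ψ k hk1 hkd
    rw [hkd] at h'
    rw [le_antisymm hk (Nat.pow_dvd_pow_iff_le_right (by norm_num : 1 < 3) |>.1 h')] at hkd
    rw [hkd, hr] at hs'
    exact ⟨s', hs', hsl'⟩)
  refine ⟨?_, he4⟩
  rw [hq9, hr5] at hG
  -- the automiser of `R`
  have he' : e' = 2 ∨ e' = 4 := by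
    set N := normalizer ((R : Subgroup G) : Set G)
    have hk : ((R : Subgroup G).normalizerMonoidHom).ker = (R : Subgroup G).subgroupOf N := by
      rw [Subgroup.normalizerMonoidHom_ker]
      ext x
      rw [mem_subgroupOf, mem_subgroupOf]
      obtain ⟨y, hy, hy1⟩ := (bot_or_exists_ne_one (R : Subgroup G)).resolve_left fun e0 => by
        rw [e0, Subgroup.card_bot, hr5] at hr; omega
      refine ⟨fun hx => hF.cent y hy hy1 (mem_centralizer_singleton_iff.2 (hx y hy).symm), fun hx => ?_⟩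
      have : IsCyclic (R : Subgroup G) := isCyclic_of_prime_card (p := 5) (by rw [hr, hr5])
      rw [mem_centralizer_iff]
      intro z hz
      exact congrArg Subtype.val (IsCyclic.commGroup.mul_comm (⟨z, hz⟩ : (R : Subgroup G)) ⟨x, hx⟩)
    have : IsCyclic (R : Subgroup G) := isCyclic_of_prime_card (p := 5) (by rw [hr, hr5])
    have h1 : Nat.card ((R : Subgroup G).normalizerMonoidHom).range ∣ Nat.card (MulAut (R : Subgroup G)) :=
      Subgroup.card_subgroup_dvd_card _
    rw [← index_ker, hk, IsCyclic.card_mulAut, hr, hr5] at h1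
    change (R : Subgroup G).relIndex N ∣ _ at h1
    rw [hF.rel, Nat.totient_prime Nat.prime_five] at h1
    rcases hF.cases with h' | h' | h' | h' <;>
      first | (left; exact h') | (right; exact h') | (rw [h'] at h1; norm_num at h1)
  -- counting
  have hT := h.card_orderOf (Or.inl rfl) (ti_of_centralizer_eq hC) P
  have hU := h.card_orderOf (Or.inr rfl) hF.ti R
  have hNP : Nat.card (normalizer ((P : Subgroup G) : Set G)) = 36 := by
    rw [← Subgroup.relIndex_bot_left, ← Subgroup.relIndex_mul_relIndex ⊥ (P : Subgroup G) _ bot_le le_normalizer,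
      Subgroup.relIndex_bot_left, hq, hq9, ← hedef, he4]
  have hNR : Nat.card (normalizer ((R : Subgroup G) : Set G)) = 5 * e' := by
    rw [← Subgroup.relIndex_bot_left, ← Subgroup.relIndex_mul_relIndex ⊥ (R : Subgroup G) _ bot_le le_normalizer,
      Subgroup.relIndex_bot_left, hr, hr5, hF.rel]
  rw [hNP, hq, hq9, hG] at hT
  rw [hNR, hr, hr5, hG] at hU
  set X := (Finset.univ : Finset G).filter fun x => orderOf x = 2 ∨ orderOf x = 4 with hX
  have h45 : 45 ∣ X.card := by
    refine forty_five_dvd_card X (fun x hx k => ?_) (fun x hx => ?_)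
    · simp only [hX, Finset.mem_filter, Finset.mem_univ, true_and] at hx ⊢
      rwa [show k * x * k⁻¹ = MulAut.conj k x by simp, MulEquiv.orderOf_eq]
    · simp only [hX, Finset.mem_filter, Finset.mem_univ, true_and] at hx
      have hx2 : IsPGroup 2 (centralizer ({x} : Set G)) := by
        rw [IsPGroup.iff_orderOf]
        intro y
        have hy := Subgroup.orderOf_coe y
        have hcomm : Commute (y : G) x := mem_centralizer_singleton_iff.1 y.2
        have h0 := orderOf_pos (y : G)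
        have h5' := h (y : G)
        have hnot : ¬ (orderOf (y : G) = 3 ∨ orderOf (y : G) = 5) := fun ho => by
          have h1 := h.commute_prime ho rfl hcomm
          have h2 := orderOf_dvd_of_pow_eq_one h1
          rcases hx with hx | hx <;> rcases ho with ho | ho <;> rw [hx, ho] at h2 <;> norm_num at h2
        rcases (show orderOf (y : G) = 1 ∨ orderOf (y : G) = 2 ∨ orderOf (y : G) = 4 by omega) with e1 | e1 | e1
        · exact ⟨0, by rw [← hy, e1, pow_zero]⟩
        · exact ⟨1, by rw [← hy, e1, pow_one]⟩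
        · exact ⟨2, by rw [← hy, e1]; norm_num⟩
      obtain ⟨k, hk⟩ := IsPGroup.iff_card.1 hx2
      have h1 := (centralizer ({x} : Set G)).card_mul_index
      rw [hk, hG] at h1
      have h2 : 9 * 5 ∣ (centralizer ({x} : Set G)).index := by
        refine ((hcop (n := 9 * 5) Nat.prime_two (by norm_num) (k := k)).dvd_mul_left).1 ?_
        rw [h1]
        exact dvd_mul_left _ _
      exact h2
  have hsum : Nat.card G = 1 + Nat.card {x : G // orderOf x = 3} + Nat.card {x : G // orderOf x = 5} + X.card := by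
    have h1 : ∀ x : G, orderOf x = 1 ∨ orderOf x = 3 ∨ orderOf x = 5 ∨ (orderOf x = 2 ∨ orderOf x = 4) := fun x => by
      have := h x
      have := orderOf_pos x
      omega
    rw [Nat.card_eq_fintype_card, Nat.card_eq_fintype_card, Nat.card_eq_fintype_card, Fintype.card_subtype,
      Fintype.card_subtype, ← Finset.card_univ]
    rw [show (1 : ℕ) = ((Finset.univ : Finset G).filter fun x => orderOf x = 1).card by
      rw [eq_comm, Finset.card_eq_one]; exact ⟨1, by ext; simp [orderOf_eq_one_iff]⟩]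
    simp only [hX]
    rw [Finset.card_filter, Finset.card_filter, Finset.card_filter, Finset.card_filter,
      ← Finset.sum_add_distrib, ← Finset.sum_add_distrib, ← Finset.sum_add_distrib, Finset.card_eq_sum_ones]
    refine Finset.sum_congr rfl fun x _ => ?_
    rcases h1 x with e1 | e1 | e1 | e1 | e1 <;> simp [e1]
  -- the bound
  obtain ⟨S⟩ : Nonempty (Sylow 2 G) := inferInstance
  have hSc : Nat.card (S : Subgroup G) = 2 ^ a := by
    rw [S.card_eq_multiplicity, hG, Nat.factorization_mul (by positivity) (by positivity),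
      Nat.factorization_pow, Finsupp.add_apply, Finsupp.smul_apply, Nat.Prime.factorization_self Nat.prime_two,
      Nat.factorization_eq_zero_of_not_dvd (by norm_num : ¬ 2 ∣ 9 * 5)]
    simp
  have hS4 : ∀ x : (S : Subgroup G), x ^ 4 = 1 := fun x => by
    obtain ⟨k, hk⟩ := IsPGroup.iff_orderOf.1 S.isPGroup' x
    refine orderOf_dvd_iff_pow_eq_one.1 ?_
    have := h (x : G)
    rw [Subgroup.orderOf_coe, hk] at this
    have hk2 : k ≤ 2 := by
      by_contra hlt
      have : 2 ^ 3 ≤ 2 ^ k := Nat.pow_le_pow_right two_pos (by omega)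
      omega
    rw [hk]
    exact pow_dvd_pow 2 hk2
  have hfaith : ∀ x : (S : Subgroup G), (χ : G → ℂ) x = (χ : G → ℂ) 1 → x = 1 := fun x hx => by
    by_contra hx1
    have hχc := Char.IsIrr.isCharacter χ.2
    rcases IsSimpleGroup.eq_bot_or_eq_top_of_normal (Char.kerSubgroup hχc) inferInstance with e0 | e0
    · have : (x : G) ∈ Char.kerSubgroup hχc := (Char.mem_kerSubgroup hχc).2 hx
      rw [e0, mem_bot] at this
      exact hx1 (Subtype.ext this)
    · refine hχ1 (Subtype.ext ?_)
      obtain ⟨n, -, hn⟩ := Char.IsIrr.degree χ.2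
      have hall : ∀ x, (χ : G → ℂ) x = (χ : G → ℂ) 1 := fun x => (Char.mem_kerSubgroup hχc).1 (e0 ▸ mem_top x)
      have hn1 : (χ : G → ℂ) 1 = 1 := by
        have h2 := Char.classInner_irr_self χ.2
        simp only [classInner, hall, hn, map_natCast, Finset.sum_const, Finset.card_univ,
          ← Nat.card_eq_fintype_card, nsmul_eq_mul] at h2
        rw [inv_mul_cancel_left₀ (Nat.cast_ne_zero.2 Nat.card_pos.ne')] at h2
        have : n * n = 1 := by exact_mod_cast h2
        rw [hn, Nat.eq_one_of_mul_eq_one_right this, Nat.cast_one]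
      funext x
      rw [hall x, hn1]
      rfl
  have hbound := two_group_bound S.isPGroup' hS4 (Char.isCharacter_res (S : Subgroup G) (Char.IsIrr.isCharacter χ.2))
    hfaith (by
      show (χ : G → ℂ) ((1 : (S : Subgroup G)) : G) = _
      rw [OneMemClass.coe_one, charDegree_spec (Char.IsIrr.isCharacter χ.2), hχd, hr5])
  rw [hSc] at hbound
  have ha : a ≤ 13 := (Nat.pow_le_pow_iff_right (by norm_num)).1 hbound
  have ha3 : a = 3 := by
    refine two_part_eq ha ?_
    obtain ⟨k, hk⟩ := h45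
    rw [hG, hk] at hsum
    rcases he' with rfl | rfl
    · left; omega
    · right; omega
  rw [hG, ha3]
  norm_num

end Cfsg.Agent.SpecFive
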